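import Mathlib

/-!
# S1421 piece ASM (helper20): assembling `A₀` and `E₀`

Pure finite group theory.  `E` a finite group, `π` a set of primes such that for every prime
`p ∈ π` the `p`-elements of `E` form an abelian normal subgroup `S_p` containing an `E`-invariant
cyclic subgroup `D_p` of order the exponent of `S_p`, all of whose non-identity elements are
"regular"; elements of prime order outside `π` are regular and regularity of a power implies
regularity.  Then the non-regular elements lie in an abelian normal subgroup `A₀`, and some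
subgroup `E₀` of the same exponent as `E` consists of regular elements (and `1`).
-/

set_option autoImplicit false

namespace Cfsg.Agent.Lib.helper20

open Subgroup

/-- Every element of a finite group lies in the subgroup generated by its powers of prime power
order. -/
theorem bg8_mem_closure_primary {E : Type*} [Group E] [Finite E] :
    ∀ (n : ℕ) (x : E), orderOf x = n →
      x ∈ closure {z : E | z ∈ zpowers x ∧ ∃ q k : ℕ, q.Prime ∧ z ^ (q ^ k) = 1} := by
  intro n
  induction n using Nat.strong_induction_on with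
  | _ n ih =>
  intro x hx
  by_cases hx1 : x = 1
  · rw [hx1]; exact one_mem _
  have hn1 : n ≠ 1 := by rw [← hx]; exact fun h => hx1 (orderOf_eq_one_iff.mp h)
  have hn0 : n ≠ 0 := by rw [← hx]; exact (orderOf_pos x).ne'
  have hq : n.minFac.Prime := Nat.minFac_prime hn1
  obtain ⟨a, m, hm, hnm⟩ := Nat.exists_eq_pow_mul_and_not_dvd hn0 n.minFac hq.ne_one
  have ha : a ≠ 0 := by
    intro h0
    rw [h0, pow_zero, one_mul] at hnm
    exact hm (hnm ▸ Nat.minFac_dvd n)
  have hm0 : m ≠ 0 := by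
    rintro rfl
    rw [mul_zero] at hnm
    exact hn0 hnm
  have hqa : 2 ≤ n.minFac ^ a := by
    calc 2 ≤ n.minFac := hq.two_le
      _ = n.minFac ^ 1 := (pow_one _).symm
      _ ≤ n.minFac ^ a := Nat.pow_le_pow_right hq.pos (Nat.one_le_iff_ne_zero.mpr ha)
  have hmn : m < n := by
    have hmpos := Nat.pos_of_ne_zero hm0
    calc m < 2 * m := by omega
      _ ≤ n.minFac ^ a * m := Nat.mul_le_mul_right m hqa
      _ = n := hnm.symm
  have hz : x ^ m ∈ closure {z : E | z ∈ zpowers x ∧ ∃ q k : ℕ, q.Prime ∧ z ^ (q ^ k) = 1} := by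
    apply Subgroup.subset_closure
    refine ⟨pow_mem (mem_zpowers x) m, n.minFac, a, hq, ?_⟩
    rw [← pow_mul, mul_comm, ← hnm, ← hx, pow_orderOf_eq_one]
  have hy : x ^ (n.minFac ^ a) ∈
      closure {z : E | z ∈ zpowers x ∧ ∃ q k : ℕ, q.Prime ∧ z ^ (q ^ k) = 1} := by
    have hym : (x ^ (n.minFac ^ a)) ^ m = 1 := by
      rw [← pow_mul, ← hnm, ← hx, pow_orderOf_eq_one]
    have hyo : orderOf (x ^ (n.minFac ^ a)) < n :=
      lt_of_le_of_lt (Nat.le_of_dvd (Nat.pos_of_ne_zero hm0) (orderOf_dvd_of_pow_eq_one hym)) hmn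
    have h1 := ih _ hyo (x ^ (n.minFac ^ a)) rfl
    refine closure_mono ?_ h1
    rintro z ⟨hz1, hz2⟩
    exact ⟨(zpowers_le.mpr (pow_mem (mem_zpowers x) _)) hz1, hz2⟩
  have hcop : Nat.Coprime (n.minFac ^ a) m :=
    Nat.Coprime.pow_left a ((Nat.Prime.coprime_iff_not_dvd hq).mpr hm)
  have hb := Nat.gcd_eq_gcd_ab (n.minFac ^ a) m
  rw [hcop.gcd_eq_one] at hb
  have hxe : x = (x ^ (n.minFac ^ a)) ^ (Nat.gcdA (n.minFac ^ a) m) *
      (x ^ m) ^ (Nat.gcdB (n.minFac ^ a) m) := by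
    rw [← zpow_natCast x (n.minFac ^ a), ← zpow_natCast x m, ← zpow_mul, ← zpow_mul, ← zpow_add,
      ← hb]
    simp
  have hmem := mul_mem (zpow_mem hy (Nat.gcdA (n.minFac ^ a) m))
    (zpow_mem hz (Nat.gcdB (n.minFac ^ a) m))
  rw [← hxe] at hmem
  exact hmem

/-- The assembly, for a group `E` (all subgroups normal in `E`). -/
theorem bg8_core {E : Type*} [Group E] [Finite E] (π : Set ℕ) (Reg : E → Prop)
    (hpow : ∀ (e : E) (n : ℕ), Reg (e ^ n) → Reg e)
    (hprime : ∀ (e : E) (q : ℕ), q.Prime → orderOf e = q → q ∉ π → Reg e)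
    (D : ℕ → Subgroup E)
    (hD : ∀ p ∈ π, p.Prime → (D p).Normal ∧ IsCyclic (D p) ∧ IsPGroup p (D p) ∧
      (∀ (x : E) (k : ℕ), x ^ p ^ k = 1 → x ^ Nat.card (D p) = 1) ∧ ∀ d ∈ D p, d ≠ 1 → Reg d)
    (hcomm : ∀ x y : E, (∃ p ∈ π, p.Prime ∧ ∃ k : ℕ, x ^ p ^ k = 1) →
      (∃ p ∈ π, p.Prime ∧ ∃ k : ℕ, y ^ p ^ k = 1) → x * y = y * x) :
    (∃ A₀ : Subgroup E, A₀.Normal ∧ IsMulCommutative A₀ ∧ ∀ e : E, e ≠ 1 → ¬ Reg e → e ∈ A₀) ∧
      ∃ E₀ : Subgroup E, Monoid.exponent E₀ = Monoid.exponent E ∧ ∀ e ∈ E₀, e ≠ 1 → Reg e := by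
  classical
  obtain ⟨A₀, hA₀⟩ : ∃ A₀ : Subgroup E,
      A₀ = closure {x : E | ∃ p ∈ π, p.Prime ∧ ∃ k : ℕ, x ^ p ^ k = 1} := ⟨_, rfl⟩
  -- (1) `A₀` is normal
  have hAn : A₀.Normal := by
    constructor
    intro n hn g
    rw [hA₀] at hn ⊢
    induction hn using closure_induction with
    | mem x hx =>
      obtain ⟨p, hp, hpp, k, hk⟩ := hx
      apply Subgroup.subset_closure
      refine ⟨p, hp, hpp, k, ?_⟩
      rw [conj_pow, hk, mul_one, mul_inv_cancel]
    | one => rw [mul_one, mul_inv_cancel]; exact one_mem _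
    | mul x y _ _ hx hy =>
      have : g * (x * y) * g⁻¹ = (g * x * g⁻¹) * (g * y * g⁻¹) := by group
      rw [this]; exact mul_mem hx hy
    | inv x _ hx =>
      have : g * x⁻¹ * g⁻¹ = (g * x * g⁻¹)⁻¹ := by group
      rw [this]; exact inv_mem hx
  -- (2) `A₀` is commutative
  have hAle : A₀ ≤ centralizer (A₀ : Set E) := by
    rw [hA₀, centralizer_closure, closure_le]
    intro x hx
    rw [SetLike.mem_coe, mem_centralizer_iff]
    intro y hy
    exact hcomm y x hy hx
  have hAc : IsMulCommutative A₀ := le_centralizer_iff_isMulCommutative.mp hAle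
  have hAcomm : ∀ x ∈ A₀, ∀ y ∈ A₀, x * y = y * x := by
    intro x hx y hy
    have := hAle hx
    rw [mem_centralizer_iff] at this
    exact (this y hy).symm
  -- (3) the orders of the elements of `A₀` are `π`-numbers
  have hAπ : ∀ x ∈ A₀, ∀ q : ℕ, q.Prime → q ∣ orderOf x → q ∈ π := by
    intro x hx
    have hx' := hx
    rw [hA₀] at hx'
    have key : ∀ y ∈ closure {x : E | ∃ p ∈ π, p.Prime ∧ ∃ k : ℕ, x ^ p ^ k = 1},
        ∀ q : ℕ, q.Prime → q ∣ orderOf y → q ∈ π := by
      intro y hy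
      induction hy using closure_induction with
      | mem x hx =>
        obtain ⟨p, hp, hpp, k, hk⟩ := hx
        intro q hq hqd
        have h1 : q ∣ p ^ k := hqd.trans (orderOf_dvd_of_pow_eq_one hk)
        have h2 := (Nat.prime_dvd_prime_iff_eq hq hpp).mp (hq.dvd_of_dvd_pow h1)
        rw [h2]; exact hp
      | one =>
        intro q hq hqd
        rw [orderOf_one] at hqd
        exact absurd (Nat.dvd_one.mp hqd) hq.ne_one
      | mul x y hx hy ihx ihy =>
        intro q hq hqd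
        have hc : Commute x y := hAcomm x (hA₀ ▸ hx) y (hA₀ ▸ hy)
        have h1 : q ∣ Nat.lcm (orderOf x) (orderOf y) := hqd.trans hc.orderOf_mul_dvd_lcm
        have h2 : q ∣ orderOf x * orderOf y := h1.trans (Nat.lcm_dvd_mul _ _)
        rcases (Nat.Prime.dvd_mul hq).mp h2 with h | h
        · exact ihx q hq h
        · exact ihy q hq h
      | inv x _ ihx =>
        intro q hq hqd
        rw [orderOf_inv] at hqd
        exact ihx q hq hqd
    exact key x hx'
  -- (4) `π`-elements lie in `A₀`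
  have hLA : ∀ x : E, (∀ q : ℕ, q.Prime → q ∣ orderOf x → q ∈ π) → x ∈ A₀ := by
    intro x hx
    have h1 := bg8_mem_closure_primary (orderOf x) x rfl
    refine (closure_le A₀).mpr ?_ h1
    rintro z ⟨hz1, q, k, hq, hz2⟩
    by_cases hz : z = 1
    · rw [hz]; exact one_mem _
    rw [hA₀]
    apply Subgroup.subset_closure
    refine ⟨q, ?_, hq, k, hz2⟩
    apply hx q hq
    have h3 : orderOf z ∣ q ^ k := orderOf_dvd_of_pow_eq_one hz2
    obtain ⟨j, -, hj⟩ := (Nat.dvd_prime_pow hq).mp h3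
    have hj0 : j ≠ 0 := by
      rintro rfl
      rw [pow_zero] at hj
      exact hz (orderOf_eq_one_iff.mp hj)
    have h4 : q ∣ orderOf z := by rw [hj]; exact dvd_pow_self q hj0
    have h5 : orderOf z ∣ orderOf x := by
      obtain ⟨i, rfl⟩ := hz1
      apply orderOf_dvd_of_pow_eq_one
      rw [← zpow_natCast, ← zpow_mul, mul_comm, zpow_mul, zpow_natCast, pow_orderOf_eq_one,
        one_zpow]
    exact h4.trans h5
  have hpart1 : ∀ e : E, e ≠ 1 → ¬ Reg e → e ∈ A₀ := by
    intro e _ hreg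
    apply hLA
    intro q hq hqd
    by_contra hqπ
    apply hreg
    apply hpow e (orderOf e / q)
    exact hprime _ q hq (orderOf_pow_orderOf_div (orderOf_pos e).ne' hqd) hqπ
  -- (6) `A₀` is a Hall subgroup
  have hcop : Nat.Coprime (Nat.card A₀) A₀.index := by
    by_contra h
    obtain ⟨q, hq, hq1, hq2⟩ := Nat.Prime.not_coprime_iff_dvd.mp h
    haveI : Fact q.Prime := ⟨hq⟩
    have hqπ : q ∈ π := by
      obtain ⟨y, hy⟩ := exists_prime_orderOf_dvd_card' q hq1
      apply hAπ (y : E) y.2 q hq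
      rw [Subgroup.orderOf_coe, hy]
    rw [Subgroup.index_eq_card] at hq2
    obtain ⟨xb, hxb⟩ := exists_prime_orderOf_dvd_card' q hq2
    obtain ⟨x, rfl⟩ := QuotientGroup.mk_surjective xb
    have hxq : x ^ q ∈ A₀ := by
      rw [← QuotientGroup.eq_one_iff, QuotientGroup.mk_pow, ← hxb, pow_orderOf_eq_one]
    have hxA : x ∈ A₀ := by
      apply hLA
      intro r hr hrd
      have h1 : orderOf x ∣ q * orderOf (x ^ q) := by
        apply orderOf_dvd_of_pow_eq_one
        rw [pow_mul, pow_orderOf_eq_one]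
      rcases (Nat.Prime.dvd_mul hr).mp (hrd.trans h1) with h2 | h2
      · rw [(Nat.prime_dvd_prime_iff_eq hr hq).mp h2]; exact hqπ
      · exact hAπ _ hxq r hr h2
    have h1 : orderOf (QuotientGroup.mk x : E ⧸ A₀) = 1 := by
      rw [orderOf_eq_one_iff, QuotientGroup.eq_one_iff]; exact hxA
    rw [h1] at hxb
    exact hq.one_lt.ne hxb
  -- (7) a complement
  obtain ⟨H, hH⟩ := Subgroup.exists_right_complement'_of_coprime hcop
  have hdisj : A₀ ⊓ H = ⊥ := hH.disjoint.eq_bot
  have hdec : ∀ e : E, ∃ a ∈ A₀, ∃ h ∈ H, e = a * h := by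
    intro e
    obtain ⟨⟨a, h⟩, hah⟩ := hH.2 e
    exact ⟨a, a.2, h, h.2, hah.symm⟩
  -- (8) the product of the `D p`
  obtain ⟨D₀, hD₀⟩ : ∃ D₀ : Subgroup E,
      D₀ = closure {x : E | ∃ p ∈ π, p.Prime ∧ x ∈ D p} := ⟨_, rfl⟩
  have hDsub : ∀ p ∈ π, p.Prime → D p ≤ D₀ := by
    intro p hp hpp x hx
    rw [hD₀]
    exact Subgroup.subset_closure ⟨p, hp, hpp, hx⟩
  have hDA : D₀ ≤ A₀ := by
    rw [hD₀, closure_le]
    rintro x ⟨p, hp, hpp, hx⟩
    obtain ⟨k, hk⟩ := (hD p hp hpp).2.2.1 ⟨x, hx⟩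
    rw [hA₀]
    apply Subgroup.subset_closure
    refine ⟨p, hp, hpp, k, ?_⟩
    have := congrArg Subtype.val hk
    simpa using this
  have hDn : D₀.Normal := by
    constructor
    intro n hn g
    rw [hD₀] at hn ⊢
    induction hn using closure_induction with
    | mem x hx =>
      obtain ⟨p, hp, hpp, hx⟩ := hx
      exact Subgroup.subset_closure ⟨p, hp, hpp, (hD p hp hpp).1.conj_mem x hx g⟩
    | one => rw [mul_one, mul_inv_cancel]; exact one_mem _
    | mul x y _ _ hx hy =>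
      have : g * (x * y) * g⁻¹ = (g * x * g⁻¹) * (g * y * g⁻¹) := by group
      rw [this]; exact mul_mem hx hy
    | inv x _ hx =>
      have : g * x⁻¹ * g⁻¹ = (g * x * g⁻¹)⁻¹ := by group
      rw [this]; exact inv_mem hx
  -- (11) the `q`-part of `D₀` is `D q`
  have hDq : ∀ q ∈ π, q.Prime → ∀ x ∈ D₀, x ^ (ordCompl[q] (Nat.card E)) ∈ D q := by
    intro q hqπ hq x hx
    have hx' := hx
    rw [hD₀] at hx'
    have key : ∀ y ∈ closure {x : E | ∃ p ∈ π, p.Prime ∧ x ∈ D p},
        y ^ (ordCompl[q] (Nat.card E)) ∈ D q := by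
      intro y hy
      induction hy using closure_induction with
      | mem x hx =>
        obtain ⟨p, hp, hpp, hx⟩ := hx
        by_cases hpq : p = q
        · subst hpq; exact pow_mem hx _
        · obtain ⟨k, hk⟩ := (hD p hp hpp).2.2.1 ⟨x, hx⟩
          have hk' : x ^ p ^ k = 1 := by
            have := congrArg Subtype.val hk
            simpa using this
          have h1 : orderOf x ∣ p ^ k := orderOf_dvd_of_pow_eq_one hk'
          have h2 : orderOf x ∣ Nat.card E := orderOf_dvd_natCard x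
          have h3 : Nat.Coprime (orderOf x) (q ^ (Nat.card E).factorization q) :=
            Nat.Coprime.coprime_dvd_left h1
              (Nat.Coprime.pow _ _ ((Nat.coprime_primes hpp hq).mpr hpq))
          have h4 : orderOf x ∣ ordCompl[q] (Nat.card E) := by
            apply h3.dvd_of_dvd_mul_left
            rw [Nat.ordProj_mul_ordCompl_eq_self]; exact h2
          rw [orderOf_dvd_iff_pow_eq_one.mp h4]; exact one_mem _
      | one => rw [one_pow]; exact one_mem _
      | mul x y hx hy ihx ihy =>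
        have hc : Commute x y := hAcomm x (hDA (hD₀ ▸ hx)) y (hDA (hD₀ ▸ hy))
        rw [hc.mul_pow]; exact mul_mem ihx ihy
      | inv x _ ihx => rw [inv_pow]; exact inv_mem ihx
    exact key x hx'
  -- (9), (10) `E₀`
  have hE₀dec : ∀ e ∈ D₀ ⊔ H, ∃ d ∈ D₀, ∃ h ∈ H, e = d * h := by
    intro e he
    have h1 : e ∈ ((D₀ ⊔ H : Subgroup E) : Set E) := he
    rw [Subgroup.normal_mul] at h1
    obtain ⟨d, hd, h, hh, rfl⟩ := Set.mem_mul.mp h1
    exact ⟨d, hd, h, hh, rfl⟩
  have hreg : ∀ e ∈ D₀ ⊔ H, e ≠ 1 → Reg e := by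
    intro e he he1
    have hn1 : orderOf e ≠ 1 := fun h => he1 (orderOf_eq_one_iff.mp h)
    have hq : (orderOf e).minFac.Prime := Nat.minFac_prime hn1
    have hqd : (orderOf e).minFac ∣ orderOf e := Nat.minFac_dvd _
    have ho : orderOf (e ^ (orderOf e / (orderOf e).minFac)) = (orderOf e).minFac :=
      orderOf_pow_orderOf_div (orderOf_pos e).ne' hqd
    apply hpow e (orderOf e / (orderOf e).minFac)
    obtain ⟨q, hqdef⟩ : ∃ q, q = (orderOf e).minFac := ⟨_, rfl⟩
    rw [← hqdef] at hq hqd ho ⊢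
    obtain ⟨e', he'⟩ : ∃ e', e' = e ^ (orderOf e / q) := ⟨_, rfl⟩
    rw [← he'] at ho ⊢
    by_cases hqπ : q ∈ π
    · have he'E₀ : e' ∈ D₀ ⊔ H := by rw [he']; exact pow_mem he _
      obtain ⟨d, hd, h, hh, hdh⟩ := hE₀dec e' he'E₀
      have he'A : e' ∈ A₀ := hLA e' (fun r hr hrd => by
        rw [ho] at hrd
        rw [(Nat.prime_dvd_prime_iff_eq hr hq).mp hrd]; exact hqπ)
      have hh1 : h = 1 := by
        have hhA : h ∈ A₀ := by
          have h3 : h = d⁻¹ * e' := by rw [hdh]; group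
          rw [h3]; exact mul_mem (inv_mem (hDA hd)) he'A
        have h2 : h ∈ A₀ ⊓ H := Subgroup.mem_inf.mpr ⟨hhA, hh⟩
        rw [hdisj] at h2
        exact h2
      have he'D : e' ∈ D₀ := by rw [hdh, hh1, mul_one]; exact hd
      have h2 := hDq q hqπ hq e' he'D
      have hcopq : Nat.Coprime (ordCompl[q] (Nat.card E)) q :=
        (Nat.coprime_ordCompl hq Nat.card_pos.ne').symm
      obtain ⟨u, -, hu⟩ := Nat.exists_mul_mod_eq_one_of_coprime hcopq hq.one_lt
      have h3 : e' = (e' ^ (ordCompl[q] (Nat.card E))) ^ u := by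
        rw [← pow_mul]
        conv_lhs => rw [← pow_one e']
        rw [pow_eq_pow_iff_modEq, ho]
        show 1 % q = _ % q
        rw [hu, Nat.mod_eq_of_lt hq.one_lt]
      have he'Dq : e' ∈ D q := by rw [h3]; exact pow_mem h2 _
      have he'1 : e' ≠ 1 := by
        intro h1
        rw [h1, orderOf_one] at ho
        exact hq.one_lt.ne ho
      exact (hD q hqπ hq).2.2.2.2 e' he'Dq he'1
    · exact hprime _ q hq ho hqπ
  -- (12) the exponent
  have hexp : Monoid.exponent ↥(D₀ ⊔ H) = Monoid.exponent E := by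
    apply Nat.dvd_antisymm
    · apply Monoid.exponent_dvd_of_forall_pow_eq_one
      intro g
      apply Subtype.ext
      rw [Subgroup.coe_pow, Subgroup.coe_one]
      exact Monoid.pow_exponent_eq_one (g : E)
    · apply Monoid.exponent_dvd_of_forall_pow_eq_one
      obtain ⟨N, hN⟩ : ∃ N, N = Monoid.exponent ↥(D₀ ⊔ H) := ⟨_, rfl⟩
      rw [← hN]
      have hE₀N : ∀ g ∈ D₀ ⊔ H, g ^ N = 1 := by
        intro g hg
        have h1 := Monoid.pow_exponent_eq_one (⟨g, hg⟩ : ↥(D₀ ⊔ H))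
        have h2 := congrArg Subtype.val h1
        rw [hN]
        simpa using h2
      have hprim : ∀ z : E, (∃ q k : ℕ, q.Prime ∧ z ^ (q ^ k) = 1) → z ^ N = 1 := by
        rintro z ⟨q, k, hq, hz⟩
        by_cases hqπ : q ∈ π
        · obtain ⟨-, hDc, -, hDe, -⟩ := hD q hqπ hq
          have h1 : z ^ Nat.card (D q) = 1 := hDe z k hz
          obtain ⟨g, hg⟩ := hDc.exists_generator
          have h2 : orderOf g = Nat.card (D q) := orderOf_eq_card_of_forall_mem_zpowers hg
          have h3 : (g : E) ^ N = 1 :=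
            hE₀N g ((le_sup_left : D₀ ≤ D₀ ⊔ H) (hDsub q hqπ hq g.2))
          have h4 : Nat.card (D q) ∣ N := by
            rw [← h2, ← Subgroup.orderOf_coe]; exact orderOf_dvd_of_pow_eq_one h3
          obtain ⟨c, hc⟩ := h4
          rw [hc, pow_mul, h1, one_pow]
        · obtain ⟨a, ha, h, hh, rfl⟩ := hdec z
          have h1 : h ^ N = 1 := hE₀N h ((le_sup_right : H ≤ D₀ ⊔ H) hh)
          have h2 : (a * h) ^ N ∈ A₀ := by
            rw [← QuotientGroup.eq_one_iff, QuotientGroup.mk_pow, QuotientGroup.mk_mul,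
              (QuotientGroup.eq_one_iff a).mpr ha, one_mul, ← QuotientGroup.mk_pow, h1]
            rfl
          by_contra hne
          have h3 : ((a * h) ^ N) ^ (q ^ k) = 1 := by
            rw [← pow_mul, mul_comm, pow_mul, hz, one_pow]
          have h4 : orderOf ((a * h) ^ N) ∣ q ^ k := orderOf_dvd_of_pow_eq_one h3
          obtain ⟨j, -, hj⟩ := (Nat.dvd_prime_pow hq).mp h4
          have hj0 : j ≠ 0 := by
            rintro rfl
            rw [pow_zero] at hj
            exact hne (orderOf_eq_one_iff.mp hj)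
          exact hqπ (hAπ _ h2 q hq (by rw [hj]; exact dvd_pow_self q hj0))
      intro c
      have h1 := bg8_mem_closure_primary (orderOf c) c rfl
      have key : ∀ z ∈ closure {z : E | z ∈ zpowers c ∧ ∃ q k : ℕ, q.Prime ∧ z ^ (q ^ k) = 1},
          z ∈ zpowers c ∧ z ^ N = 1 := by
        intro z hz
        induction hz using closure_induction with
        | mem z hz => exact ⟨hz.1, hprim z hz.2⟩
        | one => exact ⟨one_mem _, one_pow _⟩
        | mul x y _ _ ihx ihy =>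
          refine ⟨mul_mem ihx.1 ihy.1, ?_⟩
          have hc : Commute x y := by
            obtain ⟨i, hi⟩ := ihx.1
            obtain ⟨j, hj⟩ := ihy.1
            rw [← hi, ← hj]
            exact (Commute.refl c).zpow_zpow i j
          rw [hc.mul_pow, ihx.2, ihy.2, one_mul]
        | inv x _ ihx => exact ⟨inv_mem ihx.1, by rw [inv_pow, ihx.2, inv_one]⟩
      exact (key c h1).2
  exact ⟨⟨A₀, hAn, hAc, hpart1⟩, ⟨D₀ ⊔ H, hexp, hreg⟩⟩

/-- **S1421, piece ASM**: assembling `A₀` and `E₀`. -/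
theorem bg8_assemble {G : Type*} [Group G] [Finite G] (E : Subgroup G)
    (hsolv : Group.IsSolvable E) (π : Set ℕ) (Reg : G → Prop)
    (hpow : ∀ (e : G) (n : ℕ), Reg (e ^ n) → Reg e)
    (hprime : ∀ e ∈ E, ∀ q : ℕ, q.Prime → orderOf e = q → q ∉ π → Reg e)
    (hdata : ∀ p ∈ π, p.Prime → ∃ S D : Subgroup G, S ≤ E ∧ IsPGroup p S ∧
      E ≤ Subgroup.normalizer (S : Set G) ∧ (∀ x ∈ S, ∀ y ∈ S, x * y = y * x) ∧
      (∀ x ∈ E, ∀ k : ℕ, x ^ p ^ k = 1 → x ∈ S) ∧ D ≤ S ∧ IsCyclic D ∧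
      E ≤ Subgroup.normalizer (D : Set G) ∧ (∀ s ∈ S, s ^ Nat.card D = 1) ∧
      ∀ d ∈ D, d ≠ 1 → Reg d) :
    (∃ A₀ : Subgroup G, A₀ ≤ E ∧ E ≤ Subgroup.normalizer (A₀ : Set G) ∧ IsMulCommutative A₀ ∧
        ∀ e ∈ E, e ≠ 1 → ¬ Reg e → e ∈ A₀) ∧
      ∃ E₀ : Subgroup G, E₀ ≤ E ∧ Monoid.exponent E₀ = Monoid.exponent E ∧
        ∀ e ∈ E₀, e ≠ 1 → Reg e := by
  classical
  choose! S D hSD using hdata
  have hcore := bg8_core (E := ↥E) π (fun e => Reg (e : G))
    (fun e n h => hpow (e : G) n (by simpa using h))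
    (fun e q hq ho hqπ => hprime (e : G) e.2 q hq (by rw [Subgroup.orderOf_coe]; exact ho) hqπ)
    (fun p => (D p).subgroupOf E) ?_ ?_
  · obtain ⟨⟨A₀, hAn, hAc, hA⟩, ⟨E₀, hexp, hreg⟩⟩ := hcore
    refine ⟨⟨A₀.map E.subtype, ?_, ?_, ?_, ?_⟩, ⟨E₀.map E.subtype, ?_, ?_, ?_⟩⟩
    · rintro _ ⟨x, -, rfl⟩
      exact x.2
    · intro g hg
      rw [Subgroup.mem_normalizer_iff]
      intro x
      constructor
      · rintro ⟨y, hy, rfl⟩
        exact ⟨⟨g, hg⟩ * y * ⟨g, hg⟩⁻¹, hAn.conj_mem y hy ⟨g, hg⟩, by simp⟩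
      · rintro ⟨y, hy, hyx⟩
        refine ⟨⟨g, hg⟩⁻¹ * y * ⟨g, hg⟩, ?_, ?_⟩
        · have := hAn.conj_mem y hy ⟨g, hg⟩⁻¹
          simpa using this
        · have h1 : E.subtype y = g * x * g⁻¹ := hyx
          simp only [map_mul, map_inv, Subgroup.coe_subtype] at h1 ⊢
          rw [h1]; group
    · rw [isMulCommutative_iff]
      rintro ⟨_, a, ha, rfl⟩ ⟨_, b, hb, rfl⟩
      apply Subtype.ext
      have h2 := isMulCommutative_iff.mp hAc ⟨a, ha⟩ ⟨b, hb⟩
      have h2' : a * b = b * a := congrArg Subtype.val h2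
      show E.subtype a * E.subtype b = E.subtype b * E.subtype a
      rw [← map_mul, ← map_mul, h2']
    · intro e he he1 hreg'
      exact ⟨⟨e, he⟩, hA ⟨e, he⟩ (fun h => he1 (congrArg Subtype.val h)) hreg', rfl⟩
    · rintro _ ⟨x, -, rfl⟩
      exact x.2
    · rw [← hexp]
      exact (Monoid.exponent_eq_of_mulEquiv
        (E₀.equivMapOfInjective E.subtype E.subtype_injective)).symm
    · rintro _ ⟨x, hx, rfl⟩ hx1
      exact hreg x hx (fun h => hx1 (by rw [h]; rfl))
  · intro p hp hpp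
    obtain ⟨hSE, hSp, hSn, hSab, hSall, hDS, hDc, hDn, hDexp, hDreg⟩ := hSD p hp hpp
    have hDE : D p ≤ E := hDS.trans hSE
    refine ⟨(Subgroup.normal_subgroupOf_iff_le_normalizer hDE).mpr hDn, ?_, ?_, ?_, ?_⟩
    · haveI := hDc
      exact isCyclic_of_surjective (Subgroup.subgroupOfEquivOfLe hDE).symm.toMonoidHom
        (Subgroup.subgroupOfEquivOfLe hDE).symm.surjective
    · exact (hSp.to_le hDS).comap_subtype
    · intro x k hx
      have hx' : (x : G) ^ p ^ k = 1 := by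
        have := congrArg Subtype.val hx
        simpa using this
      have hxS := hSall (x : G) x.2 k hx'
      have h1 := hDexp (x : G) hxS
      have hcard : Nat.card ((D p).subgroupOf E) = Nat.card (D p) :=
        Nat.card_congr (Subgroup.subgroupOfEquivOfLe hDE).toEquiv
      apply Subtype.ext
      rw [hcard]
      simpa using h1
    · intro d hd hd1
      exact hDreg (d : G) (Subgroup.mem_subgroupOf.mp hd) (fun h => hd1 (Subtype.ext h))
  · rintro x y ⟨p, hp, hpp, k, hk⟩ ⟨p', hp', hpp', k', hk'⟩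
    obtain ⟨hSE, hSp, hSn, hSab, hSall, -⟩ := hSD p hp hpp
    obtain ⟨hSE', hSp', hSn', hSab', hSall', -⟩ := hSD p' hp' hpp'
    have hxS : (x : G) ∈ S p := hSall x x.2 k (by
      have := congrArg Subtype.val hk
      simpa using this)
    have hyS : (y : G) ∈ S p' := hSall' y y.2 k' (by
      have := congrArg Subtype.val hk'
      simpa using this)
    apply Subtype.ext
    show (x : G) * y = y * x
    by_cases hne : p = p'
    · subst hne
      exact hSab x hxS y hyS
    · haveI : Fact p.Prime := ⟨hpp⟩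
      haveI : Fact p'.Prime := ⟨hpp'⟩
      have hdisj := IsPGroup.disjoint_of_ne p p' hne (S p) (S p') hSp hSp'
      have hc1 : (x : G) * y * (x : G)⁻¹ * (y : G)⁻¹ ∈ S p' := by
        have h1 : (x : G) * y * (x : G)⁻¹ ∈ S p' :=
          (Subgroup.mem_normalizer_iff.mp (hSn' x.2) y).mp hyS
        exact mul_mem h1 (inv_mem hyS)
      have hc2 : (x : G) * y * (x : G)⁻¹ * (y : G)⁻¹ ∈ S p := by
        have h1 : (y : G) * (x : G)⁻¹ * (y : G)⁻¹ ∈ S p :=
          (Subgroup.mem_normalizer_iff.mp (hSn y.2) _).mp (inv_mem hxS)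
        have h2 : (x : G) * y * (x : G)⁻¹ * (y : G)⁻¹ =
            x * ((y : G) * (x : G)⁻¹ * (y : G)⁻¹) := by group
        rw [h2]
        exact mul_mem hxS h1
      have hc : (x : G) * y * (x : G)⁻¹ * (y : G)⁻¹ = 1 :=
        Subgroup.mem_bot.mp (hdisj.le_bot (Subgroup.mem_inf.mpr ⟨hc2, hc1⟩))
      have h3 : (x : G) * y * (x : G)⁻¹ * (y : G)⁻¹ * (y * x) = 1 * (y * x) := by rw [hc]
      rw [one_mul] at h3
      rw [← h3]
      group

end Cfsg.Agent.Lib.helper20
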