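import Cfsg.Agent.Lib.helper20.D1EDefs
import Cfsg.Agent.Lib.helper81.BlRel
import Cfsg.Agent.Lib.helper46.D1GS

/-!
# SP-E piece E1: the principal block through the section of `z ∈ P#` (S4441 / S0960)
-/

set_option autoImplicit false
set_option linter.unusedVariables false
set_option linter.style.haveILetI false

namespace Cfsg.Agent.Lib.helper20.D1E

open Cfsg

theorem e1_centralizer_eq {G : Type*} [Group G] [Fintype G] (p : ℕ) [Fact p.Prime]
    (P : Sylow p G) (hP : Nat.card P = p) (z : G) (hz : z ∈ (P : Subgroup G)) (hz1 : z ≠ 1) :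
    Subgroup.centralizer ({z} : Set G) = Subgroup.centralizer ((P : Subgroup G) : Set G) := by
  obtain ⟨hPz, -⟩ := Cfsg.Agent.Lib.helper46.d1gs_eq_zpowers p (P : Subgroup G) hP z hz hz1
  ext g
  rw [Subgroup.mem_centralizer_singleton_iff, Subgroup.mem_centralizer_iff]
  constructor
  · intro h y hy
    have hy' : y ∈ Subgroup.zpowers z := by
      have : y ∈ (P : Subgroup G) := hy
      rw [hPz] at this
      exact this
    obtain ⟨k, rfl⟩ := Subgroup.mem_zpowers_iff.mp hy'
    have hc : Commute g z := h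
    exact ((hc.zpow_right k).eq).symm
  · intro h
    exact (h z hz).symm

theorem e1_comm {G : Type*} [Group G] [Fintype G] (p : ℕ) [Fact p.Prime]
    (P : Sylow p G) (hP : Nat.card P = p) : ∀ a b : (P : Subgroup G), a * b = b * a := by
  haveI : IsCyclic (P : Subgroup G) := isCyclic_of_prime_card hP
  intro a b
  exact (IsCyclic.isMulCommutative (α := (P : Subgroup G))).is_comm.comm a b

open Classical in
theorem e1_regular_set {G : Type*} [Group G] [Fintype G] (p : ℕ) [Fact p.Prime]
    (P : Sylow p G) (hP : Nat.card P = p) (z : G) (hz : z ∈ (P : Subgroup G)) (hz1 : z ≠ 1)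
    (f : G → ℂ) :
    ∑ y : pPrimeCore p (Subgroup.centralizer ({z} : Set G)),
        f ((y : Subgroup.centralizer ({z} : Set G)) : G) =
      ∑ y : G, Set.indicator
        {y : G | y ∈ Subgroup.centralizer ((P : Subgroup G) : Set G) ∧ ¬ p ∣ orderOf y} f y := by
  classical
  have hp : p.Prime := Fact.out
  have hC := e1_centralizer_eq p P hP z hz hz1
  have hPz : (P : Subgroup G) ≤ Subgroup.centralizer ({z} : Set G) := by
    rw [hC]
    intro u hu
    rw [Subgroup.mem_centralizer_iff]
    intro v hv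
    exact congrArg Subtype.val (e1_comm p P hP ⟨v, hv⟩ ⟨u, hu⟩)
  obtain ⟨k, hk⟩ := Cfsg.Agent.Lib.helper81.bl_pPrimeCore_index P z hPz
    (by rw [hC]; exact inf_le_left)
  have hKcop := Cfsg.Agent.Lib.helper40.pPrimeCore_card_coprime p
    (Subgroup.centralizer ({z} : Set G))
  refine Finset.sum_of_injOn
    (fun y : pPrimeCore p (Subgroup.centralizer ({z} : Set G)) =>
      ((y : Subgroup.centralizer ({z} : Set G)) : G)) ?_ ?_ ?_ ?_
  · intro a _ b _ hab
    exact Subtype.ext (Subtype.ext hab)
  · intro a _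
    exact Finset.mem_coe.mpr (Finset.mem_univ _)
  · intro y _ hy
    rw [Set.indicator_of_notMem]
    rintro ⟨hyC, hyp⟩
    apply hy
    have hyz : y ∈ Subgroup.centralizer ({z} : Set G) := by rw [hC]; exact hyC
    have hreg : ¬ p ∣ orderOf (⟨y, hyz⟩ : Subgroup.centralizer ({z} : Set G)) := by
      rw [← Subgroup.orderOf_coe]
      exact hyp
    exact ⟨⟨⟨y, hyz⟩, Cfsg.Agent.Lib.helper4.mem_pPrimeCore_of_pRegular hk hreg⟩,
      Finset.mem_coe.mpr (Finset.mem_univ _), rfl⟩
  · intro y _
    rw [Set.indicator_of_mem]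
    refine ⟨?_, ?_⟩
    · rw [← hC]
      exact (y : Subgroup.centralizer ({z} : Set G)).2
    · intro hdvd
      have h1 : orderOf ((y : Subgroup.centralizer ({z} : Set G)) : G) = orderOf y := by
        rw [Subgroup.orderOf_coe, Subgroup.orderOf_coe]
      rw [h1] at hdvd
      have h2 := orderOf_dvd_natCard y
      exact (Nat.Prime.coprime_iff_not_dvd hp).mp hKcop.symm (hdvd.trans h2)

/-- PIECE E1b : characters outside the principal block sum to zero over `z K`. -/
theorem section_sum_eq_zero {G : Type*} [Group G] [Fintype G] (p : ℕ) [Fact p.Prime]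
    (M : Ideal AlgInt) (hM : IsPModular p M) (P : Sylow p G) (hP : Nat.card P = p)
    (z : G) (hz : z ∈ (P : Subgroup G)) (hz1 : z ≠ 1) (χ : IrrCharacter G)
    (hχ : χ ∉ principalBlock M G) :
    ∑ y : G, Set.indicator
      {y : G | y ∈ Subgroup.centralizer ((P : Subgroup G) : Set G) ∧ ¬ p ∣ orderOf y}
      (fun y => (χ : G → ℂ) (z * y)) y = 0 := by
  classical
  have hC := e1_centralizer_eq p P hP z hz hz1
  obtain ⟨-, hzo⟩ := Cfsg.Agent.Lib.helper46.d1gs_eq_zpowers p (P : Subgroup G) hP z hz hz1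
  have hPz : (P : Subgroup G) ≤ Subgroup.centralizer ({z} : Set G) := by
    rw [hC]
    intro u hu
    rw [Subgroup.mem_centralizer_iff]
    intro v hv
    exact congrArg Subtype.val (e1_comm p P hP ⟨v, hv⟩ ⟨u, hu⟩)
  have hidx := Cfsg.Agent.Lib.helper81.bl_pPrimeCore_index P z hPz
    (by rw [hC]; exact inf_le_left)
  have h := (Cfsg.Agent.Lib.helper4.principal_section_avg hM z ⟨1, by rw [hzo, pow_one]⟩
    hidx χ).2 hχ
  rw [← e1_regular_set p P hP z hz hz1 (fun y => (χ : G → ℂ) (z * y))]
  exact h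

/-- PIECE E1a : criterion for membership in the principal block. -/
theorem principal_iff {G : Type*} [Group G] [Fintype G] (p : ℕ) [Fact p.Prime]
    (M : Ideal AlgInt) (hM : IsPModular p M) (P : Sylow p G) (hP : Nat.card P = p)
    (z : G) (hz : z ∈ (P : Subgroup G)) (hz1 : z ≠ 1) (χ : IrrCharacter G) :
    χ ∈ principalBlock M G ↔ ((χ : G → ℂ) z ≠ 0 ∧
      ∀ y ∈ Subgroup.centralizer ((P : Subgroup G) : Set G), ¬ p ∣ orderOf y →
        (χ : G → ℂ) (z * y) = (χ : G → ℂ) z) := by
  classical
  have hp : p.Prime := Fact.out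
  have hab := e1_comm p P hP
  obtain ⟨-, hzo⟩ := Cfsg.Agent.Lib.helper46.d1gs_eq_zpowers p (P : Subgroup G) hP z hz hz1
  constructor
  · intro hχ
    refine ⟨Cfsg.Agent.Lib.helper81.bl_ne_zero hM P hab χ hχ z hz, ?_⟩
    intro y hy hpy
    have hfrob : ∀ y : G, y ∈ (P : Subgroup G) → y ≠ 1 →
        Subgroup.centralizer ({y} : Set G) ⊓ Subgroup.normalizer ((P : Subgroup G) : Set G)
          = Subgroup.centralizer ((P : Subgroup G) : Set G) := by
      intro y hy hy1
      rw [e1_centralizer_eq p P hP y hy hy1]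
      exact inf_eq_left.mpr (Subgroup.centralizer_le_normalizer _)
    have hcomm : Commute z y := by
      rw [Subgroup.mem_centralizer_iff] at hy
      exact (hy z hz)
    exact Cfsg.Agent.Lib.helper81.bl_section_const hM P hab hfrob χ hχ (z * y) z
      ⟨y, rfl, hcomm, ⟨1, by rw [hzo, pow_one]⟩, hpy⟩ hz hz1
  · rintro ⟨hne, hconst⟩
    by_contra hχ
    have h0 := section_sum_eq_zero p M hM P hP z hz hz1 χ hχ
    have h1 : ∑ y : G, Set.indicator
        {y : G | y ∈ Subgroup.centralizer ((P : Subgroup G) : Set G) ∧ ¬ p ∣ orderOf y}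
        (fun y => (χ : G → ℂ) (z * y)) y =
        ∑ y : G, Set.indicator
        {y : G | y ∈ Subgroup.centralizer ((P : Subgroup G) : Set G) ∧ ¬ p ∣ orderOf y}
        (fun _ => (χ : G → ℂ) z) y := by
      refine Finset.sum_congr rfl fun y _ => ?_
      by_cases hy : y ∈ {y : G | y ∈ Subgroup.centralizer ((P : Subgroup G) : Set G) ∧
          ¬ p ∣ orderOf y}
      · rw [Set.indicator_of_mem hy, Set.indicator_of_mem hy]
        exact hconst y hy.1 hy.2
      · rw [Set.indicator_of_notMem hy, Set.indicator_of_notMem hy]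
    rw [h1, Finset.sum_indicator_eq_sum_filter, Finset.sum_const, nsmul_eq_mul] at h0
    rcases mul_eq_zero.mp h0 with h | h
    · have hmem : (1 : G) ∈ Finset.univ.filter (fun y : G =>
          y ∈ {y : G | y ∈ Subgroup.centralizer ((P : Subgroup G) : Set G) ∧
            ¬ p ∣ orderOf y}) := by
        rw [Finset.mem_filter]
        refine ⟨Finset.mem_univ _, one_mem _, ?_⟩
        rw [orderOf_one]
        exact fun h => hp.one_lt.ne' (Nat.dvd_one.mp h)
      have hc : (Finset.univ.filter (fun y : G =>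
          y ∈ {y : G | y ∈ Subgroup.centralizer ((P : Subgroup G) : Set G) ∧
            ¬ p ∣ orderOf y})).card ≠ 0 := Finset.card_ne_zero_of_mem hmem
      exact hc (by exact_mod_cast h)
    · exact hne h

end Cfsg.Agent.Lib.helper20.D1E
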