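import Mathlib
import Cfsg.Prelude.Def_Blocks
import Cfsg.Prelude.Def_Characters
import Cfsg.Agent.Lib.helper84.Def1Defs

/-!
# Shared definitions for SP-E of the defect-one project (S4441 / S0960)

`zeta p = exp(2πi/p)`; for a function `f` on `G` and an element `x` with `x ^ p = 1`, the "row"
`rowC p x f b = p⁻¹ Σ_{u ∈ (ℤ/p)ˣ} f(x^u) (ζ^{-bu} - 1)` (`b ∈ (ℤ/p)ˣ`), which for a character is
the integer `m(μ_b) - m(1)` (difference of multiplicities of linear characters of `⟨x⟩`);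
`rowZ` is its integer rounding.  `PB M G` is the principal block as a type.
`GenericBound`, `ExceptionalBound` are the two modular black boxes (MX, MY of helper84's spec)
for a fixed group; `CombStatement` is the combinatorial lemma (piece COMB).
-/

set_option autoImplicit false

namespace Cfsg.Agent.Lib.helper20.D1E

open Cfsg Cfsg.Agent.Lib.helper84

/-- `ζ = exp(2πi/p)`. -/
noncomputable def zeta (p : ℕ) : ℂ := Complex.exp (2 * Real.pi * Complex.I / (p : ℂ))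

/-- The (complex) row entry `r_f(b) = p⁻¹ Σ_{u ∈ (ℤ/p)ˣ} f(x^u) (ζ^{-bu} - 1)`. -/
noncomputable def rowC (p : ℕ) [Fact p.Prime] {G : Type*} [Group G] (x : G) (f : G → ℂ)
    (b : (ZMod p)ˣ) : ℂ :=
  (p : ℂ)⁻¹ * ∑ u : (ZMod p)ˣ,
    f (x ^ (u : ZMod p).val) * ((zeta p ^ ((b * u : (ZMod p)ˣ) : ZMod p).val)⁻¹ - 1)

/-- The row entry rounded to an integer. -/
noncomputable def rowZ (p : ℕ) [Fact p.Prime] {G : Type*} [Group G] (x : G) (f : G → ℂ)
    (b : (ZMod p)ˣ) : ℤ := ⌊(rowC p x f b).re⌋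

/-- The principal block as a type. -/
abbrev PB (M : Ideal AlgInt) (G : Type*) [Group G] : Type _ :=
  {χ : IrrCharacter G // χ ∈ principalBlock M G}

/-- The black box MX (helper84's `d1_generic_bound`) for a fixed group and Sylow subgroup. -/
def GenericBound {G : Type*} [Group G] [Fintype G] (p : ℕ) [Fact p.Prime] (P : Sylow p G) : Prop :=
  ∀ S : Finset (IrrCharacter G), d1GalStable S →
    ‖∑ c : G, Set.indicator
        {c : G | c ∈ Subgroup.centralizer ((P : Subgroup G) : Set G) ∧ p ∣ orderOf c}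
        (fun c => ∑ χ ∈ S, (χ : G → ℂ) 1 * (χ : G → ℂ) c) c‖
      ≤ ((p : ℝ) - 1)
          * (Nat.card {c : G // c ∈ Subgroup.centralizer ((P : Subgroup G) : Set G) ∧
              ¬ p ∣ orderOf c} : ℝ)
          * ∑ χ ∈ S, (charDegree (χ : G → ℂ) : ℝ)

/-- The black box MY (helper84's `d1_exceptional_bound`) for a fixed group, Sylow subgroup,
generator `x` and subgroup `H`. -/
def ExceptionalBound {G : Type*} [Group G] [Fintype G] (p : ℕ) [Fact p.Prime] (P : Sylow p G)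
    (x : G) (H : Subgroup (ZMod p)ˣ) : Prop :=
  ∀ (Y : Finset (IrrCharacter G)), d1GalStable Y → ∀ (f : ℕ) (w₀ s : ℤ), (s = 1 ∨ s = -1) →
    ∀ (a : IrrCharacter G → (ZMod p)ˣ),
    (∀ b : (ZMod p)ˣ, ∃! θh : IrrCharacter G × (ZMod p)ˣ,
      θh.1 ∈ Y ∧ θh.2 ∈ H ∧ a θh.1 * θh.2 = b) →
    (∀ θ ∈ Y, (θ : G → ℂ) 1 = (f : ℂ)) →
    (∀ θ ∈ Y, ∀ u : ℕ, ¬ p ∣ u → ∀ y : G,
      y ∈ Subgroup.centralizer ((P : Subgroup G) : Set G) → ¬ p ∣ orderOf y →
      (θ : G → ℂ) (x ^ u * y) = -(w₀ : ℂ) + (s : ℂ) * d1Per p H (a θ) u) →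
    |(Y.card : ℤ) * w₀ + s| ≤ 1

/-- The statement of the combinatorial lemma (piece COMB) for an index type `I`. -/
def CombStatement (I : Type*) [Fintype I] : Prop :=
  ∀ (t : ℕ), 2 ≤ t → ∀ (e : ℤ) (A : I → ZMod t → ℤ) (σ : Equiv.Perm I),
    (∀ j j' : ZMod t, (j = j' → ∑ i, A i j * A i j' = e + 1) ∧
      (j ≠ j' → ∑ i, A i j * A i j' = e)) →
    (∀ i j, A (σ i) (j + 1) = A i j) →
    ∃ (κ : ZMod t → I) (w₀ s : ℤ), Function.Injective κ ∧ (s = 1 ∨ s = -1) ∧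
      (∀ k j : ZMod t, (j = k → A (κ k) j = w₀ + s) ∧ (j ≠ k → A (κ k) j = w₀)) ∧
      (∀ i, (∀ k, κ k ≠ i) → ∀ j j', A i j = A i j')

end Cfsg.Agent.Lib.helper20.D1E
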