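import Cfsg.Agent.Lib.helper82.D1EE2
import Cfsg.Agent.Lib.helper19.D1EAC
import Cfsg.Agent.Lib.helper43.D1EFX
import Cfsg.Agent.Lib.helper43.D1EFY
import Cfsg.Agent.Lib.helper20.D1EE1
import Cfsg.Agent.Lib.helper46.D1EGK
import Cfsg.Agent.Lib.helper46.D1EGH
import Cfsg.Agent.Lib.helper83.D1ER0
import Cfsg.Agent.Lib.helper83.D1ER1
import Cfsg.Agent.Lib.helper83.D1ER23
import Cfsg.Agent.Lib.helper83.D1EGAL
import Cfsg.Agent.Lib.helper19.D1ECOMB
import Cfsg.Agent.Lib.helper81.CharOrtho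
import Cfsg.Agent.Lib.helper79.GaloisChar

/-!
# SP-E final assembly: S4441 from the generic and exceptional bounds
-/

set_option autoImplicit false
set_option linter.unusedVariables false
set_option linter.style.haveILetI false

namespace Cfsg.Agent.Lib.helper20.D1E

open Cfsg Cfsg.Agent.Lib.helper84

/-- Basic facts on a nonidentity element of a Sylow subgroup of order `p`. -/
theorem basic_x {G : Type*} [Group G] [Fintype G] (p : ℕ) [Fact p.Prime]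
    (P : Sylow p G) (hP : Nat.card P = p) (x : G) (hx : x ∈ (P : Subgroup G)) (hx1 : x ≠ 1) :
    x ^ p = 1 ∧ ∀ u : ℕ, ¬ p ∣ u → x ^ u ≠ 1 := by
  have hp : p.Prime := Fact.out
  have h1 : x ^ p = 1 := by
    have h2 : (⟨x, hx⟩ : (P : Subgroup G)) ^ Nat.card (P : Subgroup G) = 1 := pow_card_eq_one'
    rw [hP] at h2
    have h3 := congrArg (Subtype.val) h2
    simpa using h3
  refine ⟨h1, ?_⟩
  intro u hu hxu
  have ho : orderOf x ∣ p := orderOf_dvd_of_pow_eq_one h1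
  rcases (Nat.dvd_prime hp).mp ho with h | h
  · exact hx1 (orderOf_eq_one_iff.mp h)
  · exact hu (h ▸ orderOf_dvd_of_pow_eq_one hxu)

/-- A Sylow subgroup of order `p` has a nonidentity element. -/
theorem exists_x {G : Type*} [Group G] [Fintype G] (p : ℕ) [Fact p.Prime]
    (P : Sylow p G) (hP : Nat.card P = p) : ∃ x : G, x ∈ (P : Subgroup G) ∧ x ≠ 1 := by
  have hp : p.Prime := Fact.out
  by_contra hcon
  push Not at hcon
  have hbot : (P : Subgroup G) = ⊥ := by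
    rw [Subgroup.eq_bot_iff_forall]
    exact hcon
  have h1 : Nat.card (P : Subgroup G) = 1 := by
    rw [hbot]; exact Subgroup.card_bot
  have : p = 1 := by
    have h2 : Nat.card (P : Subgroup G) = p := hP
    omega
  exact hp.one_lt.ne' this

/-- Values of a principal block character on `x^u K` in terms of its row. -/
theorem pb_val {G : Type*} [Group G] [Fintype G] (p : ℕ) [Fact p.Prime]
    (M : Ideal AlgInt) (hM : IsPModular p M) (P : Sylow p G) (hP : Nat.card P = p)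
    (x : G) (hx : x ∈ (P : Subgroup G)) (hx1 : x ≠ 1)
    (χ : PB M G) (u : ℕ) (hu : ¬ p ∣ u)
    (y : G) (hy : y ∈ Subgroup.centralizer ((P : Subgroup G) : Set G)) (hpy : ¬ p ∣ orderOf y) :
    (χ.1 : G → ℂ) (x ^ u * y) =
      ∑ b : (ZMod p)ˣ, (rowZ p x (χ.1 : G → ℂ) b : ℂ) * zeta p ^ ((b : ZMod p).val * u) := by
  obtain ⟨hxp, hxu⟩ := basic_x p P hP x hx hx1
  rw [((principal_iff p M hM P hP (x ^ u) (pow_mem hx u) (hxu u hu) χ.1).mp χ.2).2 y hy hpy,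
    Cfsg.Agent.Lib.helper83.D1E.row_inversion p x hxp (χ.1 : G → ℂ) u hu]
  refine Finset.sum_congr rfl fun b _ => ?_
  rw [Cfsg.Agent.Lib.helper83.D1E.rowC_eq_rowZ p x hxp χ.1 b]

/-- Rows are `H`-invariant. -/
theorem pb_row_inv {G : Type*} [Group G] [Fintype G] (p : ℕ) [Fact p.Prime]
    (x : G) (hxp : x ^ p = 1)
    (H : Subgroup (ZMod p)ˣ)
    (hH : ∀ r : (ZMod p)ˣ, r ∈ H ↔ ∃ n : G, n * x * n⁻¹ = x ^ ((r : ZMod p).val))
    (χ : IrrCharacter G) (b h : (ZMod p)ˣ) (hh : h ∈ H) :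
    rowZ p x (χ : G → ℂ) (b * h) = rowZ p x (χ : G → ℂ) b := by
  obtain ⟨n, hn⟩ := (hH h).mp hh
  unfold rowZ
  rw [Cfsg.Agent.Lib.helper83.D1E.row_conj_invariant p x hxp (χ : G → ℂ) (Cfsg.Agent.Lib.helper81.irr_classFun χ) h n hn b]

/-- Galois conjugates of principal block characters are in the principal block. -/
theorem pb_gal {G : Type*} [Group G] [Fintype G] (p : ℕ) [Fact p.Prime]
    (M : Ideal AlgInt) (hM : IsPModular p M) (P : Sylow p G) (hP : Nat.card P = p)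
    (x : G) (hx : x ∈ (P : Subgroup G)) (hx1 : x ≠ 1)
    (τ : ℂ ≃+* ℂ) (χ ψ : IrrCharacter G) (hψ : (ψ : G → ℂ) = fun g => τ ((χ : G → ℂ) g))
    (hχ : χ ∈ principalBlock M G) : ψ ∈ principalBlock M G := by
  have h1 := (principal_iff p M hM P hP x hx hx1 χ).mp hχ
  rw [principal_iff p M hM P hP x hx hx1 ψ, hψ]
  refine ⟨?_, ?_⟩
  · show τ ((χ : G → ℂ) x) ≠ 0
    intro h0
    exact h1.1 (by simpa using h0)
  · intro y hy hpy
    show τ ((χ : G → ℂ) (x * y)) = τ ((χ : G → ℂ) x)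
    rw [h1.2 y hy hpy]

/-- The row of a Galois conjugate. -/
theorem pb_gal_row {G : Type*} [Group G] [Fintype G] (p : ℕ) [Fact p.Prime]
    (x : G) (hxp : x ^ p = 1) (τ : ℂ ≃+* ℂ) (c : (ZMod p)ˣ)
    (hτ : τ (zeta p) = zeta p ^ ((c : ZMod p).val))
    (χ ψ : IrrCharacter G) (hψ : (ψ : G → ℂ) = fun g => τ ((χ : G → ℂ) g)) (b : (ZMod p)ˣ) :
    rowZ p x (ψ : G → ℂ) (b * c) = rowZ p x (χ : G → ℂ) b := by
  unfold rowZ
  rw [Cfsg.Agent.Lib.helper83.D1E.galois_row p x hxp τ c hτ (χ : G → ℂ) (ψ : G → ℂ) hψ (Cfsg.Agent.Lib.helper83.D1E.rowC_eq_rowZ p x hxp χ) b]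

/-- The Gram matrix of the integer rows of the principal block. -/
theorem pb_row_gram {G : Type*} [Group G] [Fintype G] (p : ℕ) [Fact p.Prime]
    (M : Ideal AlgInt) (hM : IsPModular p M) (P : Sylow p G) (hP : Nat.card P = p)
    (x : G) (hx : x ∈ (P : Subgroup G)) (hx1 : x ≠ 1)
    (H : Subgroup (ZMod p)ˣ)
    (hH : ∀ r : (ZMod p)ˣ, r ∈ H ↔ ∃ n : G, n * x * n⁻¹ = x ^ ((r : ZMod p).val))
    [Fintype (PB M G)] (b b' : (ZMod p)ˣ) :
    (b⁻¹ * b' ∈ H → ∑ i : PB M G, rowZ p x (i.1 : G → ℂ) b * rowZ p x (i.1 : G → ℂ) b'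
        = (Nat.card H : ℤ) + 1) ∧
    (b⁻¹ * b' ∉ H → ∑ i : PB M G, rowZ p x (i.1 : G → ℂ) b * rowZ p x (i.1 : G → ℂ) b'
        = (Nat.card H : ℤ)) := by
  obtain ⟨hxp, hxu⟩ := basic_x p P hP x hx hx1
  have hin : ∀ χ : IrrCharacter G, χ ∈ principalBlock M G → ∀ z ∈ (P : Subgroup G), z ≠ 1 →
      ∀ y ∈ Subgroup.centralizer ((P : Subgroup G) : Set G), ¬ p ∣ orderOf y →
        (χ : G → ℂ) (z * y) = (χ : G → ℂ) z :=
    fun χ hχ z hz hz1 => ((principal_iff p M hM P hP z hz hz1 χ).mp hχ).2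
  have hout := fun (χ : IrrCharacter G) (hχ : χ ∉ principalBlock M G) (z : G)
      (hz : z ∈ (P : Subgroup G)) (hz1 : z ≠ 1) =>
    section_sum_eq_zero p M hM P hP z hz hz1 χ hχ
  have horth := Cfsg.Agent.Lib.helper82.D1E.orth_singular p M P hP x hx hx1 H hH hin hout (Cfsg.Agent.Lib.helper46.D1E.card_centralizer p P hP)
  have hg := Cfsg.Agent.Lib.helper83.D1E.row_gram p x hxp (fun i : PB M G => (i.1 : G → ℂ)) H horth b b'
  have hcast : ∑ i : PB M G, rowC p x (i.1 : G → ℂ) b *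
        (starRingEnd ℂ) (rowC p x (i.1 : G → ℂ) b') =
      ((∑ i : PB M G, rowZ p x (i.1 : G → ℂ) b * rowZ p x (i.1 : G → ℂ) b' : ℤ) : ℂ) := by
    rw [Int.cast_sum]
    refine Finset.sum_congr rfl fun i _ => ?_
    rw [Cfsg.Agent.Lib.helper83.D1E.rowC_eq_rowZ p x hxp i.1 b, Cfsg.Agent.Lib.helper83.D1E.rowC_eq_rowZ p x hxp i.1 b', map_intCast,
      Int.cast_mul]
  rw [hcast] at hg
  refine ⟨fun h => ?_, fun h => ?_⟩
  · have := hg.1 h
    exact_mod_cast this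
  · have := hg.2 h
    exact_mod_cast this

/-- Rows against `p`-regular values. -/
theorem pb_row_reg {G : Type*} [Group G] [Fintype G] (p : ℕ) [Fact p.Prime]
    (M : Ideal AlgInt) (hM : IsPModular p M) (P : Sylow p G) (hP : Nat.card P = p)
    (x : G) (hx : x ∈ (P : Subgroup G)) (hx1 : x ≠ 1)
    [Fintype (PB M G)] (b : (ZMod p)ˣ) (g : G) (hg : ¬ p ∣ orderOf g) :
    ∑ i : PB M G, (rowZ p x (i.1 : G → ℂ) b : ℂ) * (i.1 : G → ℂ) g = 0 := by
  obtain ⟨hxp, hxu⟩ := basic_x p P hP x hx hx1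
  have hin : ∀ χ : IrrCharacter G, χ ∈ principalBlock M G → ∀ z ∈ (P : Subgroup G), z ≠ 1 →
      ∀ y ∈ Subgroup.centralizer ((P : Subgroup G) : Set G), ¬ p ∣ orderOf y →
        (χ : G → ℂ) (z * y) = (χ : G → ℂ) z :=
    fun χ hχ z hz hz1 => ((principal_iff p M hM P hP z hz hz1 χ).mp hχ).2
  have hout := fun (χ : IrrCharacter G) (hχ : χ ∉ principalBlock M G) (z : G)
      (hz : z ∈ (P : Subgroup G)) (hz1 : z ≠ 1) =>
    section_sum_eq_zero p M hM P hP z hz hz1 χ hχ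
  have horth := fun u : (ZMod p)ˣ => Cfsg.Agent.Lib.helper82.D1E.orth_regular p M P hP x hx hx1 hin hout u g hg
  have hr := Cfsg.Agent.Lib.helper83.D1E.row_regular p x (fun i : PB M G => (i.1 : G → ℂ)) g horth b
  have h2 := congrArg (starRingEnd ℂ) hr
  rw [map_sum, map_zero] at h2
  rw [← h2]
  refine Finset.sum_congr rfl fun i _ => ?_
  rw [map_mul, Cfsg.Agent.Lib.helper83.D1E.rowC_eq_rowZ p x hxp i.1 b, map_intCast, Complex.conj_conj]

/-- The permutation of the principal block induced by a field automorphism. -/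
theorem pb_row_perm {G : Type*} [Group G] [Fintype G] (p : ℕ) [Fact p.Prime]
    (M : Ideal AlgInt) (hM : IsPModular p M) (P : Sylow p G) (hP : Nat.card P = p)
    (x : G) (hx : x ∈ (P : Subgroup G)) (hx1 : x ≠ 1) (c : (ZMod p)ˣ) :
    ∃ π : Equiv.Perm (PB M G), ∀ i b,
      rowZ p x ((π i).1 : G → ℂ) (b * c) = rowZ p x (i.1 : G → ℂ) b := by
  obtain ⟨hxp, hxu⟩ := basic_x p P hP x hx hx1
  obtain ⟨τ, hτ⟩ := Cfsg.Agent.Lib.helper83.D1E.exists_galois p c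
  let f : ∀ σ : ℂ ≃+* ℂ, PB M G → PB M G := fun σ i =>
    ⟨⟨fun g => σ ((i.1 : G → ℂ) g),
      Cfsg.Agent.Lib.helper79.isIrrCharacter_ringHom_comp (σ : ℂ →+* ℂ) i.1.2⟩,
      pb_gal p M hM P hP x hx hx1 σ i.1 _ rfl i.2⟩
  have hf : ∀ σ σ' : ℂ ≃+* ℂ, (∀ z, σ' (σ z) = z) → ∀ i, f σ' (f σ i) = i := by
    intro σ σ' h i
    apply Subtype.ext
    apply Subtype.ext
    funext g
    exact h _
  refine ⟨⟨f τ, f τ.symm, hf τ τ.symm (fun z => τ.symm_apply_apply z),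
    hf τ.symm τ (fun z => τ.apply_symm_apply z)⟩, ?_⟩
  intro i b
  exact pb_gal_row p x hxp τ c hτ i.1 _ rfl b

/-- Rows of principal block characters are not identically zero. -/
theorem pb_row_nz {G : Type*} [Group G] [Fintype G] (p : ℕ) [Fact p.Prime]
    (M : Ideal AlgInt) (hM : IsPModular p M) (P : Sylow p G) (hP : Nat.card P = p)
    (x : G) (hx : x ∈ (P : Subgroup G)) (hx1 : x ≠ 1) (i : PB M G) :
    ∃ b, rowZ p x (i.1 : G → ℂ) b ≠ 0 := by
  have hp : p.Prime := Fact.out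
  by_contra hcon
  push Not at hcon
  have h1 := pb_val p M hM P hP x hx hx1 i 1 (fun h => hp.one_lt.ne' (Nat.dvd_one.mp h)) 1
    (one_mem _) (by rw [orderOf_one]; exact fun h => hp.one_lt.ne' (Nat.dvd_one.mp h))
  rw [pow_one, mul_one] at h1
  have h2 : (i.1 : G → ℂ) x = 0 := by
    rw [h1]
    refine Finset.sum_eq_zero fun b _ => ?_
    rw [hcon b, Int.cast_zero, zero_mul]
  exact ((principal_iff p M hM P hP x hx hx1 i.1).mp i.2).1 h2

/-- A principal block character with constant row `w` has `|w| ≤ 1`. -/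
theorem pb_row_const {G : Type*} [Group G] [Fintype G] (p : ℕ) [Fact p.Prime]
    (M : Ideal AlgInt) (hM : IsPModular p M) (P : Sylow p G) (hP : Nat.card P = p)
    (x : G) (hx : x ∈ (P : Subgroup G)) (hx1 : x ≠ 1) (hMX : GenericBound p P)
    (i : PB M G) (w : ℤ) (hw : ∀ b, rowZ p x (i.1 : G → ℂ) b = w) : |w| ≤ 1 := by
  have h1 : |(-w)| ≤ 1 := by
    refine Cfsg.Agent.Lib.helper43.D1E.generic_const p P hP hMX (Cfsg.Agent.Lib.helper46.D1E.card_centralizer p P hP) i.1 (-w) ?_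
    intro g hg hpg
    obtain ⟨u, hu, y, hy, hpy, rfl⟩ := Cfsg.Agent.Lib.helper46.D1E.exists_decomp p P hP x hx hx1 g hg hpg
    rw [pb_val p M hM P hP x hx hx1 i u hu y hy hpy]
    simp only [hw]
    rw [← Finset.mul_sum, Cfsg.Agent.Lib.helper83.D1E.sum_zeta_pow p u hu]
    push_cast
    ring
  simpa using h1

/-- **S4441 from the two modular black boxes.** -/
theorem s4441_of_bounds {G : Type*} [Group G] [Fintype G] (p : ℕ) [Fact p.Prime]
    (M : Ideal AlgInt) (hM : IsPModular p M) (P : Sylow p G) (hP : Nat.card P = p) (e : ℕ)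
    (he : (Subgroup.centralizer ((P : Subgroup G) : Set G)).relIndex
      (Subgroup.normalizer ((P : Subgroup G) : Set G)) = e)
    (hMX : GenericBound p P)
    (hMY : ∀ (x : G) (H : Subgroup (ZMod p)ˣ), x ∈ (P : Subgroup G) → x ≠ 1 →
      (∀ r : (ZMod p)ˣ, r ∈ H ↔ ∃ n : G, n * x * n⁻¹ = x ^ ((r : ZMod p).val)) →
      ExceptionalBound p P x H) :
    ∃ X Y : Set (IrrCharacter G), principalBlock M G = X ∪ Y ∧ Disjoint X Y ∧ Nat.card X = e ∧
      Nat.card Y = (p - 1) / e ∧ ∃ (εX : IrrCharacter G → ℤ) (ε : ℤ),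
      (∀ χ ∈ X, (εX χ = 1 ∨ εX χ = -1) ∧ (charDegree (χ : G → ℂ) : ℤ) ≡ εX χ [ZMOD p] ∧
        ∀ x : G, x ∈ (P : Subgroup G) → x ≠ 1 → ∀ y : G,
          y ∈ Subgroup.centralizer ((P : Subgroup G) : Set G) → ¬ p ∣ orderOf y →
          (χ : G → ℂ) (x * y) = (εX χ : ℂ)) ∧
      (ε = 1 ∨ ε = -1) ∧
      (∀ θ ∈ Y, (charDegree (θ : G → ℂ) : ℤ) ≡ ε * (e : ℤ) [ZMOD p]) ∧
      (∀ θ ∈ Y, ∀ θ' ∈ Y, ∀ g : G, ¬ p ∣ orderOf g → (θ : G → ℂ) g = (θ' : G → ℂ) g) ∧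
      ∀ θ ∈ Y, ∀ g : G, ¬ p ∣ orderOf g →
        (ε : ℂ) * (θ : G → ℂ) g = ∑ᶠ χ ∈ X, (εX χ : ℂ) * (χ : G → ℂ) g := by
  classical
  have hp : p.Prime := Fact.out
  obtain ⟨x, hx, hx1⟩ := exists_x p P hP
  obtain ⟨hxp, hxu⟩ := basic_x p P hP x hx hx1
  obtain ⟨H, hH, hHcard⟩ := Cfsg.Agent.Lib.helper46.D1E.exists_H p P hP x hx hx1
  rw [he] at hHcard
  haveI : Fintype (PB M G) := Fintype.ofFinite _
  have hgalE : ∀ c : (ZMod p)ˣ, ∃ τ : ℂ ≃+* ℂ, ∀ χ ψ : IrrCharacter G,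
      (ψ : G → ℂ) = (fun g => τ ((χ : G → ℂ) g)) →
      ∀ b, rowZ p x (ψ : G → ℂ) (b * c) = rowZ p x (χ : G → ℂ) b := by
    intro c
    obtain ⟨τ, hτ⟩ := Cfsg.Agent.Lib.helper83.D1E.exists_galois p c
    exact ⟨τ, fun χ ψ hψ b => pb_gal_row p x hxp τ c hτ χ ψ hψ b⟩
  have hgal : ∀ (τ : ℂ ≃+* ℂ) (χ ψ : IrrCharacter G),
      (ψ : G → ℂ) = (fun g => τ ((χ : G → ℂ) g)) →
      (χ ∈ principalBlock M G → ψ ∈ principalBlock M G) ∧
      ∃ c : (ZMod p)ˣ, ∀ b, rowZ p x (ψ : G → ℂ) (b * c) = rowZ p x (χ : G → ℂ) b := by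
    intro τ χ ψ hψ
    refine ⟨pb_gal p M hM P hP x hx hx1 τ χ ψ hψ, ?_⟩
    obtain ⟨c, hc⟩ := Cfsg.Agent.Lib.helper83.D1E.exists_unit_of_aut p τ
    exact ⟨c, fun b => pb_gal_row p x hxp τ c hc χ ψ hψ b⟩
  obtain ⟨Y, a, s, w, hs, hYcard, hIcard, hXrow, hYrow, hYinj⟩ :=
    Cfsg.Agent.Lib.helper19.D1E.abstract_core p Cfsg.Agent.Lib.helper19.D1E.comb_cyclic H (fun (i : PB M G) b => rowZ p x (i.1 : G → ℂ) b)
      (fun i b h hh => pb_row_inv p x hxp H hH i.1 b h hh)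
      (fun b b' => pb_row_gram p M hM P hP x hx hx1 H hH b b')
      (fun c => pb_row_perm p M hM P hP x hx hx1 c)
      (fun i => pb_row_nz p M hM P hP x hx hx1 i)
      (fun i w hw => pb_row_const p M hM P hP x hx hx1 hMX i w hw)
      (fun Y a w₀ s hs hHtop ha hrowY hrowX =>
        Cfsg.Agent.Lib.helper43.D1E.exceptional_abs p M P hP x hx hx1 H (hMY x H hx hx1 hH)
          (fun χ u hu y hy hpy => pb_val p M hM P hP x hx hx1 χ u hu y hy hpy)
          hgal hgalE Y a w₀ s hs hHtop ha hrowY hrowX)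
  have hs0 : (s : ℂ) ≠ 0 := by
    rcases hs with h | h <;> rw [h] <;> norm_num
  let emb : PB M G ↪ IrrCharacter G := ⟨Subtype.val, Subtype.val_injective⟩
  let Yf : Finset (IrrCharacter G) := Y.map emb
  let Xf : Finset (IrrCharacter G) := (Finset.univ.filter (fun i : PB M G => i ∉ Y)).map emb
  let εX : IrrCharacter G → ℤ := fun χ => if h : χ ∈ principalBlock M G then - w ⟨χ, h⟩ else 0
  have hεX : ∀ i : PB M G, εX i.1 = - w i := by
    intro i
    show (if h : i.1 ∈ principalBlock M G then - w ⟨i.1, h⟩ else 0) = - w i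
    rw [dif_pos i.2]
  have hXmem : ∀ χ, χ ∈ Xf ↔ ∃ i : PB M G, i ∉ Y ∧ i.1 = χ := by
    intro χ
    simp only [Xf, Finset.mem_map, Finset.mem_filter, Finset.mem_univ, true_and]
    rfl
  have hYmem : ∀ χ, χ ∈ Yf ↔ ∃ i : PB M G, i ∈ Y ∧ i.1 = χ := by
    intro χ
    simp only [Yf, Finset.mem_map]
    rfl
  -- the key relation on `p`-regular elements
  have hkey : ∀ i₀ ∈ Y, ∀ g : G, ¬ p ∣ orderOf g →
      (s : ℂ) * (i₀.1 : G → ℂ) g = ∑ χ ∈ Xf, (εX χ : ℂ) * (χ : G → ℂ) g := by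
    intro i₀ hi₀ g hg
    have h0 := pb_row_reg p M hM P hP x hx hx1 (a i₀) g hg
    rw [← Finset.sum_filter_add_sum_filter_not Finset.univ (fun i : PB M G => i ∈ Y)] at h0
    have h1 : ∑ i ∈ Finset.univ.filter (fun i : PB M G => i ∈ Y),
        (rowZ p x (i.1 : G → ℂ) (a i₀) : ℂ) * (i.1 : G → ℂ) g = (s : ℂ) * (i₀.1 : G → ℂ) g := by
      rw [Finset.sum_eq_single i₀]
      · rw [(hYrow i₀ hi₀ (a i₀)).1 (by rw [inv_mul_cancel]; exact one_mem H)]
      · intro i hi hne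
        rw [Finset.mem_filter] at hi
        have hnot : (a i)⁻¹ * a i₀ ∉ H := fun h => hne (hYinj i hi.2 i₀ hi₀ h)
        rw [(hYrow i hi.2 (a i₀)).2 hnot, Int.cast_zero, zero_mul]
      · intro h
        exact absurd (Finset.mem_filter.mpr ⟨Finset.mem_univ _, hi₀⟩) h
    have h2 : ∑ i ∈ Finset.univ.filter (fun i : PB M G => i ∉ Y),
        (rowZ p x (i.1 : G → ℂ) (a i₀) : ℂ) * (i.1 : G → ℂ) g =
        - ∑ χ ∈ Xf, (εX χ : ℂ) * (χ : G → ℂ) g := by
      show _ = - ∑ χ ∈ (Finset.univ.filter (fun i : PB M G => i ∉ Y)).map emb,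
        (εX χ : ℂ) * (χ : G → ℂ) g
      rw [Finset.sum_map, ← Finset.sum_neg_distrib]
      refine Finset.sum_congr rfl fun i hi => ?_
      rw [Finset.mem_filter] at hi
      show _ = -(((εX i.1 : ℤ) : ℂ) * (i.1 : G → ℂ) g)
      rw [hεX i, (hXrow i hi.2).2 (a i₀)]
      push_cast
      ring
    rw [h1, h2] at h0
    linear_combination h0
  refine ⟨(Xf : Set (IrrCharacter G)), (Yf : Set (IrrCharacter G)), ?_, ?_, ?_, ?_, εX, s,
    ?_, hs, ?_, ?_, ?_⟩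
  · -- union
    ext χ
    rw [Set.mem_union, Finset.mem_coe, Finset.mem_coe, hXmem, hYmem]
    constructor
    · intro h
      by_cases hy : (⟨χ, h⟩ : PB M G) ∈ Y
      · exact Or.inr ⟨⟨χ, h⟩, hy, rfl⟩
      · exact Or.inl ⟨⟨χ, h⟩, hy, rfl⟩
    · rintro (⟨i, _, rfl⟩ | ⟨i, _, rfl⟩) <;> exact i.2
  · -- disjoint
    rw [Finset.disjoint_coe, Finset.disjoint_left]
    intro χ h1 h2
    obtain ⟨i, hi, rfl⟩ := (hXmem χ).mp h1
    obtain ⟨j, hj, hji⟩ := (hYmem _).mp h2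
    exact hi ((Subtype.ext hji : j = i) ▸ hj)
  · -- card X
    rw [Nat.card_coe_set_eq, Set.ncard_coe_finset, Finset.card_map]
    have h1 := Finset.card_filter_add_card_filter_not (s := (Finset.univ : Finset (PB M G)))
      (fun i : PB M G => i ∈ Y)
    have h2 : (Finset.univ.filter (fun i : PB M G => i ∈ Y)) = Y := by
      ext i; simp
    rw [h2, Finset.card_univ] at h1
    omega
  · -- card Y
    rw [Nat.card_coe_set_eq, Set.ncard_coe_finset, Finset.card_map, hYcard, hHcard]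
  · -- X
    intro χ hχ
    obtain ⟨i, hi, rfl⟩ := (hXmem χ).mp (Finset.mem_coe.mp hχ)
    rw [hεX i]
    refine ⟨?_, ?_, ?_⟩
    · rcases (hXrow i hi).1 with h | h <;> rw [h] <;> simp
    · have h1 := Cfsg.Agent.Lib.helper83.D1E.degree_modEq p x hxp i.1
      have h2 : ∑ b : (ZMod p)ˣ, rowZ p x (i.1 : G → ℂ) b = ((p - 1 : ℕ) : ℤ) * w i := by
        rw [Finset.sum_congr rfl (fun b _ => (hXrow i hi).2 b), Finset.sum_const,
          Finset.card_univ, ZMod.card_units p, nsmul_eq_mul]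
      rw [h2] at h1
      refine h1.trans ?_
      rw [Int.modEq_iff_dvd]
      refine ⟨- w i, ?_⟩
      rw [Nat.cast_sub hp.one_lt.le]
      push_cast
      ring
    · intro z hz hz1 y hy hpy
      obtain ⟨u, hu, rfl⟩ := Cfsg.Agent.Lib.helper46.D1E.exists_pow_eq p P hP x hx hx1 z hz hz1
      rw [pb_val p M hM P hP x hx hx1 i u hu y hy hpy]
      rw [Finset.sum_congr rfl (fun b _ => by rw [(hXrow i hi).2 b]), ← Finset.mul_sum,
        Cfsg.Agent.Lib.helper83.D1E.sum_zeta_pow p u hu]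
      push_cast
      ring
  · -- degrees in Y
    intro θ hθ
    obtain ⟨i, hi, rfl⟩ := (hYmem θ).mp (Finset.mem_coe.mp hθ)
    have h1 := Cfsg.Agent.Lib.helper83.D1E.degree_modEq p x hxp i.1
    have h2 : ∑ b : (ZMod p)ˣ, rowZ p x (i.1 : G → ℂ) b = s * (e : ℤ) := by
      rw [← Fintype.sum_equiv (Equiv.mulLeft (a i)) (fun h => rowZ p x (i.1 : G → ℂ) (a i * h))
        (fun b => rowZ p x (i.1 : G → ℂ) b) (fun h => rfl)]
      have h3 : ∀ h : (ZMod p)ˣ, rowZ p x (i.1 : G → ℂ) (a i * h) = if h ∈ H then s else 0 := by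
        intro h
        have h4 : (a i)⁻¹ * (a i * h) = h := by group
        split_ifs with hh
        · exact (hYrow i hi (a i * h)).1 (by rw [h4]; exact hh)
        · exact (hYrow i hi (a i * h)).2 (by rw [h4]; exact hh)
      rw [Finset.sum_congr rfl (fun h _ => h3 h), Finset.sum_ite, Finset.sum_const_zero,
        add_zero, Finset.sum_const, nsmul_eq_mul, ← hHcard, Nat.card_eq_fintype_card,
        Fintype.card_subtype]
      ring
    rw [h2] at h1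
    exact h1
  · -- agreement
    intro θ hθ θ' hθ' g hg
    obtain ⟨i, hi, rfl⟩ := (hYmem θ).mp (Finset.mem_coe.mp hθ)
    obtain ⟨j, hj, rfl⟩ := (hYmem θ').mp (Finset.mem_coe.mp hθ')
    have h1 := hkey i hi g hg
    have h2 := hkey j hj g hg
    exact mul_left_cancel₀ hs0 (h1.trans h2.symm)
  · -- the formula
    intro θ hθ g hg
    obtain ⟨i, hi, rfl⟩ := (hYmem θ).mp (Finset.mem_coe.mp hθ)
    rw [finsum_mem_coe_finset]
    exact hkey i hi g hg

/-- **S0960 from the two modular black boxes.** -/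
theorem s0960_of_bounds {G : Type*} [Group G] [Fintype G] (p : ℕ) [Fact p.Prime]
    (M : Ideal AlgInt) (hM : IsPModular p M) (P : Sylow p G) (hP : Nat.card P = p) (e : ℕ)
    (he : (Subgroup.centralizer ((P : Subgroup G) : Set G)).relIndex
      (Subgroup.normalizer ((P : Subgroup G) : Set G)) = e)
    (hMX : GenericBound p P)
    (hMY : ∀ (x : G) (H : Subgroup (ZMod p)ˣ), x ∈ (P : Subgroup G) → x ≠ 1 →
      (∀ r : (ZMod p)ˣ, r ∈ H ↔ ∃ n : G, n * x * n⁻¹ = x ^ ((r : ZMod p).val)) →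
      ExceptionalBound p P x H) :
    Nat.card (principalBlock M G) = e + (p - 1) / e ∧ ∀ χ ∈ principalBlock M G,
      ((charDegree (χ : G → ℂ) : ℤ) ≡ 1 [ZMOD p] ∨ (charDegree (χ : G → ℂ) : ℤ) ≡ -1 [ZMOD p] ∨
        (charDegree (χ : G → ℂ) : ℤ) ≡ (e : ℤ) [ZMOD p] ∨
        (charDegree (χ : G → ℂ) : ℤ) ≡ -(e : ℤ) [ZMOD p]) := by
  obtain ⟨X, Y, hXY, hdisj, hX, hY, εX, ε, hXp, hε, hYdeg, -, -⟩ :=
    s4441_of_bounds p M hM P hP e he hMX hMY
  refine ⟨?_, ?_⟩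
  · rw [hXY, Nat.card_coe_set_eq, Set.ncard_union_eq hdisj (Set.toFinite X) (Set.toFinite Y),
      ← Nat.card_coe_set_eq, ← Nat.card_coe_set_eq, hX, hY]
  · intro χ hχ
    rw [hXY] at hχ
    rcases hχ with h | h
    · obtain ⟨h1, h2, -⟩ := hXp χ h
      rcases h1 with h1 | h1
      · rw [h1] at h2; exact Or.inl h2
      · rw [h1] at h2; exact Or.inr (Or.inl h2)
    · have h2 := hYdeg χ h
      rcases hε with h1 | h1
      · rw [h1, one_mul] at h2; exact Or.inr (Or.inr (Or.inl h2))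
      · rw [h1, neg_one_mul] at h2; exact Or.inr (Or.inr (Or.inr h2))

end Cfsg.Agent.Lib.helper20.D1E
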