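import Mathlib
import Cfsg.Prelude.Def_Characters
import Cfsg.Prelude.Def_Blocks
import Cfsg.Agent.Lib.helper84.BrDefs
import Cfsg.Agent.Lib.helper82.CharQuot
import Cfsg.Agent.Lib.helper81.CharOrtho

/-!
# S0996 pieces C1 (`lin_perfect`) and C5b (`orth_Y`).
-/

set_option autoImplicit false

namespace Cfsg.Agent.Lib.helper20.Br

open Cfsg Cfsg.Agent.Lib.helper81 Cfsg.Agent.Lib.helper84.Br
open scoped ComplexConjugate

universe u

variable {G : Type u} [Group G] [Fintype G] {p : ℕ} [Fact p.Prime] {P : Sylow p G} {e n : ℕ}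

/-- C1 : a perfect group has no non-trivial linear character. -/
theorem lin_perfect (hperf : commutator G = ⊤) (χ : IrrCharacter G)
    (h : charDegree (χ : G → ℂ) = 1) : χ = trivChar G := by
  have h1 : (χ : G → ℂ) 1 = 1 := by
    rw [irr_one_eq_charDegree, h]; simp
  apply Subtype.ext
  funext x
  have h2 := Cfsg.Agent.Lib.helper82.linear_commutator (irr_isCharacter χ) h1 x
    (by rw [hperf]; trivial)
  rw [h2, h1]
  rfl

/-- C5b (ORTH). -/
theorem orth_Y (hctx : Ctx G p P e n) (D : Data G p P e) (x : G) (hx : x ∈ (P : Subgroup G))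
    (hx1 : x ≠ 1) : ∑ θ ∈ D.Y, (θ : G → ℂ) x = -(D.ε : ℂ) := by
  classical
  have hp : p.Prime := Fact.out
  have hYne : D.Y.Nonempty := by
    rw [← Finset.card_pos]
    by_contra h
    have h0 : D.Y.card = 0 := by omega
    have h1 := D.cardY
    rw [h0, zero_mul] at h1
    have := hp.two_le
    omega
  obtain ⟨θ0, hθ0⟩ := hYne
  have hreg1 : ¬ p ∣ orderOf (1 : G) := by
    rw [orderOf_one]; exact fun hd => hp.one_lt.ne' (Nat.dvd_one.mp hd)
  have hcol := irr_col_orth x (1 : G)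
  rw [if_neg (by rw [isConj_one_left]; exact hx1)] at hcol
  have h1 : ∑ ψ : IrrCharacter G, (ψ : G → ℂ) x * (ψ : G → ℂ) 1 = 0 := by
    rw [← hcol]
    refine Finset.sum_congr rfl fun ψ _ => ?_
    rw [irr_one_eq_charDegree, Complex.conj_natCast]
  have h2 : ∑ ψ : IrrCharacter G, (ψ : G → ℂ) x * (ψ : G → ℂ) 1
      = ∑ ψ ∈ D.X ∪ D.Y, (ψ : G → ℂ) x * (ψ : G → ℂ) 1 := by
    symm
    apply Finset.sum_subset (Finset.subset_univ _)
    intro ψ _ hψ
    rw [Finset.mem_union, not_or] at hψ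
    rw [D.vanish ψ hψ.1 hψ.2 x hx hx1, zero_mul]
  rw [h2, Finset.sum_union D.disj] at h1
  have h3 : ∑ χ ∈ D.X, (χ : G → ℂ) x * (χ : G → ℂ) 1 = (D.ε : ℂ) * (θ0 : G → ℂ) 1 := by
    rw [D.rel θ0 hθ0 1 hreg1]
    refine Finset.sum_congr rfl fun χ hχ => ?_
    rw [D.val_X χ hχ x hx hx1]
  have h4 : ∑ θ ∈ D.Y, (θ : G → ℂ) x * (θ : G → ℂ) 1
      = (∑ θ ∈ D.Y, (θ : G → ℂ) x) * (θ0 : G → ℂ) 1 := by
    rw [Finset.sum_mul]
    refine Finset.sum_congr rfl fun θ hθ => ?_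
    rw [D.agree θ hθ θ0 hθ0 1 hreg1]
  rw [h3, h4] at h1
  have h5 : (θ0 : G → ℂ) 1 ≠ 0 := irr_one_ne_zero θ0
  have h6 : ((D.ε : ℂ) + ∑ θ ∈ D.Y, (θ : G → ℂ) x) * (θ0 : G → ℂ) 1 = 0 := by
    linear_combination h1
  rcases mul_eq_zero.mp h6 with h | h
  · linear_combination h
  · exact absurd h h5

end Cfsg.Agent.Lib.helper20.Br
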