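import Mathlib
import Cfsg.Prelude.Def_Characters
import Cfsg.Prelude.Def_Blocks
import Cfsg.Agent.Lib.helper84.BrDefs
import Cfsg.Agent.S4441
import Cfsg.Agent.Lib.helper76.KazCore
import Cfsg.Agent.Lib.helper82.CharQuot

/-!
# S0996 piece C0 : the principal block data (interface to S4441), normalised with `1 ∈ X`.
-/

set_option autoImplicit false

namespace Cfsg.Agent.Lib.helper20.Br

open Cfsg Cfsg.Agent.Lib.helper81 Cfsg.Agent.Lib.helper84.Br
open scoped ComplexConjugate

universe u

variable {G : Type u} [Group G] [Fintype G] {p : ℕ} [Fact p.Prime] {P : Sylow p G} {e n : ℕ}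

/-- A perfect group has no non-trivial linear irreducible character (value form). -/
theorem helper20_lin_perfect_val (hperf : commutator G = ⊤) (χ : IrrCharacter G)
    (h : (χ : G → ℂ) 1 = 1) : χ = trivChar G := by
  apply Subtype.ext
  funext x
  have h2 := Cfsg.Agent.Lib.helper82.linear_commutator (irr_isCharacter χ) h x
    (by rw [hperf]; trivial)
  rw [h2, h]
  rfl

/-- The only `p`-regular element of `P` (of order `p`) is `1`. -/
theorem helper20_reg_P (hP : Nat.card P = p) (y : G) (hy : y ∈ (P : Subgroup G))
    (hreg : ¬ p ∣ orderOf y) : y = 1 := by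
  have hp : p.Prime := Fact.out
  have h1 : orderOf y ∣ p := by
    have := Subgroup.orderOf_dvd_natCard (P : Subgroup G) hy
    rwa [hP] at this
  rcases (Nat.dvd_prime hp).mp h1 with h | h
  · exact orderOf_eq_one_iff.mp h
  · exact absurd (h ▸ dvd_rfl) hreg

/-- Characters outside the principal block vanish on `P ∖ 1` when `C_G(P) = P`. -/
theorem helper20_vanish (M : Ideal AlgInt) (hM : IsPModular p M) (hP : Nat.card P = p)
    (hC : Subgroup.centralizer ((P : Subgroup G) : Set G) = (P : Subgroup G))
    (ψ : IrrCharacter G) (hψ : ψ ∉ principalBlock M G) (x : G) (hx : x ∈ (P : Subgroup G))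
    (hx1 : x ≠ 1) : (ψ : G → ℂ) x = 0 := by
  classical
  have h := Cfsg.Agent.Lib.helper20.D1E.section_sum_eq_zero p M hM P hP x hx hx1 ψ hψ
  have hset : {y : G | y ∈ Subgroup.centralizer ((P : Subgroup G) : Set G) ∧ ¬ p ∣ orderOf y}
      = {1} := by
    ext y
    simp only [Set.mem_ofPred_eq, Set.mem_singleton_iff]
    constructor
    · rintro ⟨hy, hreg⟩
      rw [hC] at hy
      exact helper20_reg_P hP y hy hreg
    · rintro rfl
      refine ⟨Subgroup.one_mem _, ?_⟩
      rw [orderOf_one]
      have hp : p.Prime := Fact.out
      exact fun hd => hp.one_lt.ne' (Nat.dvd_one.mp hd)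
  rw [hset] at h
  rw [Finset.sum_eq_single (1 : G)] at h
  · simpa using h
  · intro b _ hb
    exact Set.indicator_of_notMem (by simpa using hb) _
  · intro h1
    exact absurd (Finset.mem_univ _) h1

/-- C0 (INTERFACE). -/
theorem exists_data (hctx : Ctx G p P e n) (hperf : commutator G = ⊤) :
    Nonempty (Data G p P e) := by
  classical
  have hp : p.Prime := Fact.out
  obtain ⟨M, hM⟩ := Cfsg.Agent.Lib.helper76.exists_isPModular p hp
  have hMprime : M.IsPrime := hM.2.1.isPrime
  have hPN : (P : Subgroup G) ≤ Subgroup.normalizer ((P : Subgroup G) : Set G) :=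
    Subgroup.le_normalizer
  have hrel : (Subgroup.centralizer ((P : Subgroup G) : Set G)).relIndex
      (Subgroup.normalizer ((P : Subgroup G) : Set G)) = e := by
    rw [hctx.hC]
    have h1 := Subgroup.relIndex_mul_relIndex (⊥ : Subgroup G) (P : Subgroup G)
      (Subgroup.normalizer ((P : Subgroup G) : Set G)) bot_le hPN
    rw [Subgroup.relIndex_bot_left, Subgroup.relIndex_bot_left, hctx.hP, hctx.he] at h1
    have hp0 : 0 < p := hp.pos
    nlinarith [h1, Nat.eq_of_mul_eq_mul_left hp0 (by rw [h1]; ring :
      p * (P : Subgroup G).relIndex (Subgroup.normalizer ((P : Subgroup G) : Set G)) = p * e)]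
  obtain ⟨X, Y, hB, hdisj, hcX, hcY, εX, ε, hX, hε, hdY, hagree, hrelY⟩ :=
    Cfsg.Agent.S4441.result p M hM hctx.hp2 P hctx.hP e hrel
  have hXfin : X.Finite := Set.toFinite X
  have hYfin : Y.Finite := Set.toFinite Y
  have hcXF : hXfin.toFinset.card = e := by
    rw [← Set.ncard_eq_toFinset_card X hXfin, ← Nat.card_coe_set_eq]; exact hcX
  have hcYF : hYfin.toFinset.card = (p - 1) / e := by
    rw [← Set.ncard_eq_toFinset_card Y hYfin, ← Nat.card_coe_set_eq]; exact hcY
  have hcYe : hYfin.toFinset.card * e = p - 1 := by
    rw [hcYF]; exact Nat.div_mul_cancel hctx.hep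
  have hvan : ∀ ψ : IrrCharacter G, ψ ∉ X → ψ ∉ Y → ∀ x : G, x ∈ (P : Subgroup G) → x ≠ 1 →
      (ψ : G → ℂ) x = 0 := by
    intro ψ h1 h2 x hx hx1
    apply helper20_vanish M hM hctx.hP hctx.hC ψ _ x hx hx1
    rw [hB]
    exact fun h => h.elim h1 h2
  have hvalX : ∀ χ ∈ X, ∀ x : G, x ∈ (P : Subgroup G) → x ≠ 1 →
      (χ : G → ℂ) x = (εX χ : ℂ) := by
    intro χ hχ x hx hx1
    have h := (hX χ hχ).2.2 x hx hx1 1 (Subgroup.one_mem _)
      (by rw [orderOf_one]; exact fun hd => hp.one_lt.ne' (Nat.dvd_one.mp hd))
    rwa [mul_one] at h
  have hrelF : ∀ θ ∈ Y, ∀ g : G, ¬ p ∣ orderOf g →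
      (ε : ℂ) * (θ : G → ℂ) g = ∑ χ ∈ hXfin.toFinset, (εX χ : ℂ) * (χ : G → ℂ) g := by
    intro θ hθ g hg
    rw [hrelY θ hθ g hg, finsum_mem_eq_finite_toFinset_sum _ hXfin]
  have htriv : trivChar G ∈ X ∪ Y := by
    rw [← hB]; exact trivChar_mem_principalBlock hMprime
  rcases htriv with h1X | h1Y
  · -- the trivial character is non-exceptional: take the data as it is
    exact ⟨{ X := hXfin.toFinset
             Y := hYfin.toFinset
             δ := εX
             ε := ε
             disj := by
               rw [Finset.disjoint_left]
               intro a ha hb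
               rw [Set.Finite.mem_toFinset] at ha hb
               exact Set.disjoint_left.mp hdisj ha hb
             cardX := hcXF
             cardY := hcYe
             one_mem := by rw [Set.Finite.mem_toFinset]; exact h1X
             δ_sq := fun χ hχ => (hX χ ((Set.Finite.mem_toFinset _).mp hχ)).1
             deg_X := fun χ hχ => (hX χ ((Set.Finite.mem_toFinset _).mp hχ)).2.1
             val_X := fun χ hχ => hvalX χ ((Set.Finite.mem_toFinset _).mp hχ)
             ε_sq := hε
             deg_Y := fun θ hθ => hdY θ ((Set.Finite.mem_toFinset _).mp hθ)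
             agree := fun θ hθ θ' hθ' =>
               hagree θ ((Set.Finite.mem_toFinset _).mp hθ) θ' ((Set.Finite.mem_toFinset _).mp hθ')
             rel := fun θ hθ => hrelF θ ((Set.Finite.mem_toFinset _).mp hθ)
             vanish := fun ψ h1 h2 => hvan ψ (fun h => h1 ((Set.Finite.mem_toFinset _).mpr h))
               (fun h => h2 ((Set.Finite.mem_toFinset _).mpr h)) }⟩
  · -- the trivial character is exceptional: then `Y = {1}`, `e = p - 1`, `ε = -1`; swap
    have hreg1 : ¬ p ∣ orderOf (1 : G) := by
      rw [orderOf_one]; exact fun hd => hp.one_lt.ne' (Nat.dvd_one.mp hd)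
    have hYsing : ∀ θ ∈ Y, θ = trivChar G := by
      intro θ hθ
      apply helper20_lin_perfect_val hperf
      rw [hagree θ hθ (trivChar G) h1Y 1 hreg1]
      rfl
    have h1X : trivChar G ∉ X := fun h => Set.disjoint_left.mp hdisj h h1Y
    have hYF : hYfin.toFinset = {trivChar G} := by
      ext θ
      rw [Set.Finite.mem_toFinset, Finset.mem_singleton]
      exact ⟨hYsing θ, fun h => h ▸ h1Y⟩
    have he1 : e = p - 1 := by
      rw [hYF, Finset.card_singleton, one_mul] at hcYe
      exact hcYe
    have hp1 : 1 ≤ p := hp.pos
    have hp3 : 3 ≤ p := by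
      have := hp.two_le
      have := hctx.hp2
      omega
    have hdeg1 : charDegree ((trivChar G : IrrCharacter G) : G → ℂ) = 1 := by
      have h := irr_one_eq_charDegree (trivChar G)
      rw [trivChar_apply] at h
      exact_mod_cast h.symm
    have hεm : ε = -1 := by
      rcases hε with h | h
      · exfalso
        have h2 := hdY (trivChar G) h1Y
        rw [hdeg1, h, he1, one_mul] at h2
        have h3 : (p : ℤ) ∣ ((p - 1 : ℕ) : ℤ) - ((1 : ℕ) : ℤ) := (Int.modEq_iff_dvd).mp h2
        have h4 : (p : ℤ) ∣ 2 := by
          have h5 : ((p - 1 : ℕ) : ℤ) = (p : ℤ) - 1 := by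
            rw [Nat.cast_sub hp1]; simp
          rw [h5] at h3
          have h6 : (p : ℤ) ∣ (p : ℤ) - (((p : ℤ) - 1) - ((1 : ℕ) : ℤ)) :=
            dvd_sub dvd_rfl h3
          have h7 : (p : ℤ) - (((p : ℤ) - 1) - ((1 : ℕ) : ℤ)) = 2 := by push_cast; ring
          rwa [h7] at h6
        have h8 : p ∣ 2 := by exact_mod_cast h4
        have := Nat.le_of_dvd (by norm_num) h8
        omega
      · exact h
    -- choose a member of `X`
    have hXne : hXfin.toFinset.Nonempty := by
      rw [← Finset.card_pos, hcXF]
      have := hctx.he2
      omega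
    obtain ⟨χ0, hχ0F⟩ := hXne
    have hχ0 : χ0 ∈ X := (Set.Finite.mem_toFinset _).mp hχ0F
    have hχ0ne : χ0 ≠ trivChar G := fun h => h1X (h ▸ hχ0)
    have h1erase : trivChar G ∉ hXfin.toFinset.erase χ0 := by
      intro h
      exact h1X ((Set.Finite.mem_toFinset _).mp (Finset.mem_of_mem_erase h))
    -- relation at `1 ∈ Y`
    have hrel1 : ∀ g : G, ¬ p ∣ orderOf g →
        ∑ χ ∈ hXfin.toFinset.erase χ0, (εX χ : ℂ) * (χ : G → ℂ) g =
          -1 - (εX χ0 : ℂ) * (χ0 : G → ℂ) g := by
      intro g hg
      have h := hrelF (trivChar G) h1Y g hg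
      rw [trivChar_apply, hεm, ← Finset.add_sum_erase _ _ hχ0F] at h
      push_cast at h
      linear_combination -h
    exact ⟨{ X := insert (trivChar G) (hXfin.toFinset.erase χ0)
             Y := {χ0}
             δ := fun χ => if χ = trivChar G then 1 else εX χ
             ε := -εX χ0
             disj := by
               rw [Finset.disjoint_singleton_right, Finset.mem_insert, not_or]
               exact ⟨hχ0ne, fun h => (Finset.mem_erase.mp h).1 rfl⟩
             cardX := by
               rw [Finset.card_insert_of_notMem h1erase, Finset.card_erase_of_mem hχ0F, hcXF]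
               have := hctx.he2
               omega
             cardY := by rw [Finset.card_singleton, one_mul, he1]
             one_mem := Finset.mem_insert_self _ _
             δ_sq := by
               intro χ hχ
               by_cases h : χ = trivChar G
               · left; simp [h]
               · rw [if_neg h]
                 rcases Finset.mem_insert.mp hχ with h' | h'
                 · exact absurd h' h
                 · exact (hX χ ((Set.Finite.mem_toFinset _).mp (Finset.mem_of_mem_erase h'))).1
             deg_X := by
               intro χ hχ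
               by_cases h : χ = trivChar G
               · rw [if_pos h, h, hdeg1]; rfl
               · rw [if_neg h]
                 rcases Finset.mem_insert.mp hχ with h' | h'
                 · exact absurd h' h
                 · exact (hX χ ((Set.Finite.mem_toFinset _).mp (Finset.mem_of_mem_erase h'))).2.1
             val_X := by
               intro χ hχ x hx hx1
               by_cases h : χ = trivChar G
               · rw [if_pos h, h, trivChar_apply]; simp
               · rw [if_neg h]
                 rcases Finset.mem_insert.mp hχ with h' | h'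
                 · exact absurd h' h
                 · exact hvalX χ ((Set.Finite.mem_toFinset _).mp (Finset.mem_of_mem_erase h'))
                     x hx hx1
             ε_sq := by
               rcases (hX χ0 hχ0).1 with h | h
               · right; rw [h]
               · left; rw [h]; norm_num
             deg_Y := by
               intro θ hθ
               rw [Finset.mem_singleton] at hθ
               rw [hθ, he1]
               have h := (hX χ0 hχ0).2.1
               have h5 : ((p - 1 : ℕ) : ℤ) = (p : ℤ) - 1 := by
                 rw [Nat.cast_sub hp1]; simp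
               rw [h5]
               refine h.trans ?_
               rw [Int.modEq_iff_dvd]
               exact ⟨-εX χ0, by ring⟩
             agree := by
               intro θ hθ θ' hθ' g _
               rw [Finset.mem_singleton] at hθ hθ'
               rw [hθ, hθ']
             rel := by
               intro θ hθ g hg
               rw [Finset.mem_singleton] at hθ
               rw [hθ, Finset.sum_insert h1erase, if_pos rfl, trivChar_apply]
               have hsum : ∑ χ ∈ hXfin.toFinset.erase χ0,
                   (((if χ = trivChar G then (1 : ℤ) else εX χ : ℤ) : ℂ)) * (χ : G → ℂ) g =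
                   ∑ χ ∈ hXfin.toFinset.erase χ0, (εX χ : ℂ) * (χ : G → ℂ) g := by
                 apply Finset.sum_congr rfl
                 intro χ hχ
                 have : χ ≠ trivChar G := fun h => h1erase (h ▸ hχ)
                 rw [if_neg this]
               rw [hsum, hrel1 g hg]
               push_cast
               ring
             vanish := by
               intro ψ h1 h2 x hx hx1
               rw [Finset.mem_insert, not_or] at h1
               rw [Finset.mem_singleton] at h2
               apply hvan ψ _ _ x hx hx1
               · intro h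
                 exact h1.2 (Finset.mem_erase.mpr ⟨h2, (Set.Finite.mem_toFinset _).mpr h⟩)
               · intro h
                 exact h1.1 (hYsing ψ h) }⟩

end Cfsg.Agent.Lib.helper20.Br
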