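import Mathlib
import Cfsg.Prelude.Def_Characters
import Cfsg.Prelude.Def_Blocks
import Cfsg.Agent.Lib.helper84.BrDefs
import Cfsg.Agent.Lib.helper20.D1EE1

/-!
# S0996 : the sum of a class function over the `p`-singular elements (insurance copy of G1b).
-/

set_option autoImplicit false

namespace Cfsg.Agent.Lib.helper20.Br

open Cfsg Cfsg.Agent.Lib.helper81 Cfsg.Agent.Lib.helper84.Br
open scoped ComplexConjugate

universe u

variable {G : Type u} [Group G] [Fintype G] {p : ℕ} [Fact p.Prime] {P : Sylow p G} {e n : ℕ}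

theorem helper20_card_sylow_eq (hP : Nat.card P = p) (Q : Sylow p G) : Nat.card Q = p :=
  (Sylow.card_eq_multiplicity Q).trans ((Sylow.card_eq_multiplicity P).symm.trans hP)

theorem helper20_mem_smul_sylow (h : G) (Q : Sylow p G) (u : G) :
    u ∈ ((h • Q : Sylow p G) : Subgroup G) ↔ h⁻¹ * u * h ∈ (Q : Subgroup G) := by
  rw [Sylow.coe_subgroup_smul, Subgroup.mem_pointwise_smul_iff_inv_smul_mem, MulAut.smul_def,
    ← map_inv, MulAut.conj_apply, inv_inv]

/-- A `p`-singular element lies in some Sylow `p`-subgroup. -/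
theorem helper20_psing_mem (hP : Nat.card P = p)
    (hC : Subgroup.centralizer ((P : Subgroup G) : Set G) = (P : Subgroup G))
    (g : G) (hg : p ∣ orderOf g) : ∃ Q : Sylow p G, g ∈ (Q : Subgroup G) := by
  have hp : p.Prime := Fact.out
  obtain ⟨k, hk⟩ := hg
  have hk0 : k ≠ 0 := by
    rintro rfl
    rw [mul_zero] at hk
    exact (orderOf_pos g).ne' hk
  have hxo : orderOf (g ^ k) = p := by
    rw [orderOf_pow_of_dvd hk0 ⟨p, by rw [hk, mul_comm]⟩, hk,
      Nat.mul_div_cancel _ (Nat.pos_of_ne_zero hk0)]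
  have hx1 : g ^ k ≠ 1 := by
    intro h
    rw [h, orderOf_one] at hxo
    exact hp.one_lt.ne hxo
  have hpg : IsPGroup p (Subgroup.zpowers (g ^ k)) := by
    apply IsPGroup.of_card (n := 1)
    rw [Nat.card_zpowers, hxo, pow_one]
  obtain ⟨Q, hQ⟩ := hpg.exists_le_sylow
  have hxQ : g ^ k ∈ (Q : Subgroup G) := hQ (Subgroup.mem_zpowers _)
  obtain ⟨h, hh⟩ := MulAction.exists_smul_eq G Q P
  refine ⟨Q, ?_⟩
  -- conjugate into `P`
  have hyP : h * g ^ k * h⁻¹ ∈ (P : Subgroup G) := by
    rw [← hh, helper20_mem_smul_sylow]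
    have : h⁻¹ * (h * g ^ k * h⁻¹) * h = g ^ k := by group
    rw [this]
    exact hxQ
  have hy1 : h * g ^ k * h⁻¹ ≠ 1 := by
    intro h1
    apply hx1
    have : g ^ k = h⁻¹ * (h * g ^ k * h⁻¹) * h := by group
    rw [this, h1]
    group
  have hcen := Cfsg.Agent.Lib.helper20.D1E.e1_centralizer_eq p P hP _ hyP hy1
  have hgc : h * g * h⁻¹ ∈ Subgroup.centralizer ({h * g ^ k * h⁻¹} : Set G) := by
    rw [Subgroup.mem_centralizer_singleton_iff]
    have h1 : g ^ k * g = g * g ^ k := (Commute.pow_self g k).eq.symm ▸ rfl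
    have h2 : h * g * h⁻¹ * (h * g ^ k * h⁻¹) = h * (g * g ^ k) * h⁻¹ := by group
    have h3 : h * g ^ k * h⁻¹ * (h * g * h⁻¹) = h * (g ^ k * g) * h⁻¹ := by group
    rw [h2, h3, h1]
  rw [hcen, hC, ← hh, helper20_mem_smul_sylow] at hgc
  have : h⁻¹ * (h * g * h⁻¹) * h = g := by group
  rwa [this] at hgc

/-- Two Sylow subgroups (of order `p`) sharing a non-identity element coincide. -/
theorem helper20_sylow_unique (hP : Nat.card P = p) (Q Q' : Sylow p G) (g : G)
    (hg : g ∈ (Q : Subgroup G)) (hg' : g ∈ (Q' : Subgroup G)) (hg1 : g ≠ 1) : Q = Q' := by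
  apply Sylow.ext
  rw [(Cfsg.Agent.Lib.helper46.d1gs_eq_zpowers p (Q : Subgroup G)
      (helper20_card_sylow_eq hP Q) g hg hg1).1,
    (Cfsg.Agent.Lib.helper46.d1gs_eq_zpowers p (Q' : Subgroup G)
      (helper20_card_sylow_eq hP Q') g hg' hg1).1]

/-- `psum` of a class function is the same on all Sylow subgroups. -/
theorem helper20_psum_sylow (f : G → ℂ) (hf : IsClassFunction G f) (Q : Sylow p G) :
    psum (Q : Subgroup G) f = psum (P : Subgroup G) f := by
  classical
  obtain ⟨h, hh⟩ := MulAction.exists_smul_eq G Q P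
  unfold psum
  rw [← Equiv.sum_comp (MulAut.conj h).toEquiv
    (fun u => if u ∈ (P : Subgroup G) ∧ u ≠ 1 then f u else 0)]
  refine Finset.sum_congr rfl fun v _ => ?_
  have h1 : (MulAut.conj h).toEquiv v = h * v * h⁻¹ := rfl
  rw [h1]
  have h2 : h * v * h⁻¹ ∈ (P : Subgroup G) ↔ v ∈ (Q : Subgroup G) := by
    rw [← hh, helper20_mem_smul_sylow]
    have : h⁻¹ * (h * v * h⁻¹) * h = v := by group
    rw [this]
  have h3 : h * v * h⁻¹ ≠ 1 ↔ v ≠ 1 := by
    constructor
    · intro hne hv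
      apply hne
      rw [hv]; group
    · intro hne hv
      apply hne
      have : v = h⁻¹ * (h * v * h⁻¹) * h := by group
      rw [this, hv]; group
  rw [hf v h]
  by_cases hc : v ∈ (Q : Subgroup G) ∧ v ≠ 1
  · rw [if_pos hc, if_pos ⟨h2.mpr hc.1, h3.mpr hc.2⟩]
  · rw [if_neg hc, if_neg (fun hc' => hc ⟨h2.mp hc'.1, h3.mp hc'.2⟩)]

/-- G1b (insurance copy) : the sum of a class function over the `p`-singular elements. -/
theorem helper20_psing_sum (hP : Nat.card P = p)
    (hC : Subgroup.centralizer ((P : Subgroup G) : Set G) = (P : Subgroup G))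
    (f : G → ℂ) (hf : IsClassFunction G f) :
    (∑ g : G, if p ∣ orderOf g then f g else 0) =
      (Nat.card (Sylow p G) : ℂ) * psum (P : Subgroup G) f := by
  classical
  have hp : p.Prime := Fact.out
  letI : Fintype (Sylow p G) := Fintype.ofFinite _
  have h1 : ∀ g : G, (if p ∣ orderOf g then f g else 0) =
      ∑ Q : Sylow p G, if g ∈ (Q : Subgroup G) ∧ g ≠ 1 then f g else 0 := by
    intro g
    by_cases hg : p ∣ orderOf g
    · rw [if_pos hg]
      obtain ⟨Q0, hQ0⟩ := helper20_psing_mem hP hC g hg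
      have hg1 : g ≠ 1 := by
        rintro rfl
        rw [orderOf_one] at hg
        exact hp.one_lt.ne' (Nat.dvd_one.mp hg)
      rw [Finset.sum_eq_single Q0]
      · rw [if_pos ⟨hQ0, hg1⟩]
      · intro Q _ hne
        rw [if_neg]
        rintro ⟨hgQ, -⟩
        exact hne (helper20_sylow_unique hP Q Q0 g hgQ hQ0 hg1)
      · intro hne
        exact absurd (Finset.mem_univ _) hne
    · rw [if_neg hg]
      symm
      apply Finset.sum_eq_zero
      intro Q _
      rw [if_neg]
      rintro ⟨hgQ, hg1⟩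
      apply hg
      rw [(Cfsg.Agent.Lib.helper46.d1gs_eq_zpowers p (Q : Subgroup G)
        (helper20_card_sylow_eq hP Q) g hgQ hg1).2]
  rw [Finset.sum_congr rfl (fun g _ => h1 g), Finset.sum_comm]
  have h2 : ∀ Q : Sylow p G, (∑ g : G, if g ∈ (Q : Subgroup G) ∧ g ≠ 1 then f g else 0) =
      psum (P : Subgroup G) f := by
    intro Q
    rw [← helper20_psum_sylow (P := P) f hf Q]
    rfl
  rw [Finset.sum_congr rfl (fun Q _ => h2 Q), Finset.sum_const, nsmul_eq_mul,
    Finset.card_univ, Nat.card_eq_fintype_card]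

end Cfsg.Agent.Lib.helper20.Br
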