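import Mathlib
import Cfsg.Prelude.Def_Characters
import Cfsg.Prelude.Def_Blocks
import Cfsg.Agent.Lib.helper84.BrDefs
import Cfsg.Agent.Lib.helper81.CharOrtho
import Cfsg.Agent.Lib.helper20.BrC1
import Cfsg.Agent.Lib.helper20.BrPS

/-!
# S0996 pieces C5c (`psum_Y`), C5d (`psum_sq_Y`), C6 (`inner_const`).
-/

set_option autoImplicit false

namespace Cfsg.Agent.Lib.helper20.Br

open Cfsg Cfsg.Agent.Lib.helper81 Cfsg.Agent.Lib.helper84.Br
open scoped ComplexConjugate

universe u

variable {G : Type u} [Group G] [Fintype G] {p : ℕ} [Fact p.Prime] {P : Sylow p G} {e n : ℕ}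

/-! ### `psum` toolkit -/

theorem helper20_psum_congr (H : Subgroup G) {f g : G → ℂ}
    (h : ∀ x : G, x ∈ H → x ≠ 1 → f x = g x) : psum H f = psum H g := by
  classical
  unfold psum
  refine Finset.sum_congr rfl fun x _ => ?_
  split_ifs with hx
  · exact h x hx.1 hx.2
  · rfl

theorem helper20_psum_sum (H : Subgroup G) {ι : Type*} (s : Finset ι) (f : ι → G → ℂ) :
    psum H (fun g => ∑ i ∈ s, f i g) = ∑ i ∈ s, psum H (f i) := by
  classical
  unfold psum
  rw [Finset.sum_comm]
  refine Finset.sum_congr rfl fun x _ => ?_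
  split_ifs with hx
  · rfl
  · simp

theorem helper20_psum_sub (H : Subgroup G) (f g : G → ℂ) :
    psum H (fun x => f x - g x) = psum H f - psum H g := by
  classical
  unfold psum
  rw [← Finset.sum_sub_distrib]
  refine Finset.sum_congr rfl fun x _ => ?_
  split_ifs with hx
  · rfl
  · simp

theorem helper20_psum_mul_left (H : Subgroup G) (c : ℂ) (f : G → ℂ) :
    psum H (fun x => c * f x) = c * psum H f := by
  classical
  unfold psum
  rw [Finset.mul_sum]
  refine Finset.sum_congr rfl fun x _ => ?_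
  split_ifs with hx
  · rfl
  · simp

theorem helper20_psum_conj (H : Subgroup G) (f : G → ℂ) :
    psum H (fun x => conj (f x)) = conj (psum H f) := by
  classical
  unfold psum
  rw [map_sum]
  refine Finset.sum_congr rfl fun x _ => ?_
  split_ifs with hx
  · rfl
  · simp

theorem helper20_psum_const (H : Subgroup G) (c : ℂ) :
    psum H (fun _ => c) = ((Nat.card H : ℂ) - 1) * c := by
  classical
  unfold psum
  rw [← Finset.sum_filter, Finset.sum_const, nsmul_eq_mul]
  congr 1
  have h1 : (Finset.univ.filter (fun g : G => g ∈ H ∧ g ≠ 1)) =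
      (Finset.univ.filter (fun g : G => g ∈ H)).erase 1 := by
    ext g
    simp only [Finset.mem_filter, Finset.mem_univ, true_and, Finset.mem_erase]
    tauto
  rw [h1, Finset.card_erase_of_mem (by simp [H.one_mem])]
  have h2 : (Finset.univ.filter (fun g : G => g ∈ H)).card = Nat.card H := by
    rw [Nat.card_eq_fintype_card, Fintype.card_subtype]
  rw [h2, Nat.cast_sub Nat.card_pos]
  simp

/-- Splitting a sum over `G` into `p`-singular and `p`-regular parts, for a function vanishing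
on the `p`-regular elements. -/
theorem helper20_sum_sing (f : G → ℂ) (hf : ∀ g : G, ¬ p ∣ orderOf g → f g = 0) :
    ∑ g : G, f g = ∑ g : G, if p ∣ orderOf g then f g else 0 := by
  refine Finset.sum_congr rfl fun g _ => ?_
  split_ifs with h
  · rfl
  · exact hf g h

theorem helper20_card_syl_ne (hctx : Ctx G p P e n) : (Nat.card (Sylow p G) : ℂ) ≠ 0 := by
  rw [hctx.hn]
  exact_mod_cast Nat.succ_ne_zero _ ∘ (by omega : 1 + n * p = 0 → (n * p).succ = 0)

theorem helper20_card_G (hctx : Ctx G p P e n) :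
    (Nat.card G : ℂ) = (Nat.card (Sylow p G) : ℂ) * ((e : ℂ) * (p : ℂ)) := by
  have h1 := Subgroup.card_mul_index (Subgroup.normalizer ((P : Subgroup G) : Set G))
  have h0 : Nat.card (Sylow p G) = (Subgroup.normalizer ((P : Subgroup G) : Set G)).index :=
    Sylow.card_eq_index_normalizer P
  rw [← h0, hctx.he] at h1
  rw [← h1]
  push_cast
  ring

theorem helper20_Y_ne_triv (D : Data G p P e) (θ : IrrCharacter G) (hθ : θ ∈ D.Y) :
    θ ≠ trivChar G := by
  intro h
  exact Finset.disjoint_left.mp D.disj D.one_mem (h ▸ hθ)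

theorem helper20_cardY_ne (D : Data G p P e) : (D.Y.card : ℂ) ≠ 0 := by
  have hp : p.Prime := Fact.out
  have h1 := D.cardY
  have : D.Y.card ≠ 0 := by
    intro h0
    rw [h0, zero_mul] at h1
    have := hp.two_le
    omega
  exact_mod_cast this

theorem helper20_cardY_mul (D : Data G p P e) : (D.Y.card : ℂ) * (e : ℂ) = (p : ℂ) - 1 := by
  have hp : p.Prime := Fact.out
  have h1 := D.cardY
  have h2 : ((D.Y.card * e : ℕ) : ℂ) = ((p - 1 : ℕ) : ℂ) := by rw [h1]
  rw [Nat.cast_sub hp.pos] at h2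
  push_cast at h2
  exact h2

/-- The sum of a non-trivial irreducible character over the group is zero. -/
theorem helper20_sum_irr_eq_zero (θ : IrrCharacter G) (hθ : θ ≠ trivChar G) :
    ∑ g : G, (θ : G → ℂ) g = 0 := by
  have h := irr_classInner_ne hθ
  unfold classInner at h
  have hN : (Nat.card G : ℂ)⁻¹ ≠ 0 := inv_ne_zero card_ne_zero_complex
  rcases mul_eq_zero.mp h with h | h
  · exact absurd h hN
  · simpa using h

/-- The `p`-singular sums of two members of `Y` agree. -/
theorem helper20_sing_sum_Y (D : Data G p P e) (θ θ' : IrrCharacter G) (hθ : θ ∈ D.Y)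
    (hθ' : θ' ∈ D.Y) :
    (∑ g : G, if p ∣ orderOf g then (θ : G → ℂ) g else 0) =
      ∑ g : G, if p ∣ orderOf g then (θ' : G → ℂ) g else 0 := by
  have h1 := helper20_sum_irr_eq_zero θ (helper20_Y_ne_triv D θ hθ)
  have h2 := helper20_sum_irr_eq_zero θ' (helper20_Y_ne_triv D θ' hθ')
  have h3 : ∀ ψ : IrrCharacter G, ∑ g : G, (ψ : G → ℂ) g =
      (∑ g : G, if p ∣ orderOf g then (ψ : G → ℂ) g else 0) +
        ∑ g : G, if p ∣ orderOf g then 0 else (ψ : G → ℂ) g := by
    intro ψ
    rw [← Finset.sum_add_distrib]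
    refine Finset.sum_congr rfl fun g _ => ?_
    split_ifs <;> simp
  have h4 : (∑ g : G, if p ∣ orderOf g then 0 else (θ : G → ℂ) g) =
      ∑ g : G, if p ∣ orderOf g then 0 else (θ' : G → ℂ) g := by
    refine Finset.sum_congr rfl fun g _ => ?_
    split_ifs with h
    · rfl
    · exact D.agree θ hθ θ' hθ' g h
  rw [h3] at h1 h2
  rw [h4] at h1
  linear_combination h1 - h2

/-- C5c (PSUM-Y). -/
theorem psum_Y (hctx : Ctx G p P e n) (D : Data G p P e) (θ : IrrCharacter G) (hθ : θ ∈ D.Y) :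
    psum (P : Subgroup G) (θ : G → ℂ) = -(D.ε : ℂ) * (e : ℂ) := by
  classical
  have hsyl := helper20_card_syl_ne hctx
  -- independence of `θ`
  have hind : ∀ θ' ∈ D.Y, psum (P : Subgroup G) (θ' : G → ℂ) = psum (P : Subgroup G) (θ : G → ℂ) := by
    intro θ' hθ'
    have h1 := helper20_sing_sum_Y D θ' θ hθ' hθ
    rw [helper20_psing_sum hctx.hP hctx.hC _ (irr_classFun θ'),
      helper20_psing_sum hctx.hP hctx.hC _ (irr_classFun θ)] at h1
    exact mul_left_cancel₀ hsyl h1
  -- the total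
  have htot : ∑ θ' ∈ D.Y, psum (P : Subgroup G) (θ' : G → ℂ) = -(D.ε : ℂ) * ((p : ℂ) - 1) := by
    rw [← helper20_psum_sum]
    rw [helper20_psum_congr (P : Subgroup G) (g := fun _ => -(D.ε : ℂ))
      (fun x hx hx1 => orth_Y hctx D x hx hx1)]
    rw [helper20_psum_const, hctx.hP]
    ring
  rw [Finset.sum_congr rfl hind, Finset.sum_const, nsmul_eq_mul, ← helper20_cardY_mul D] at htot
  have hY := helper20_cardY_ne D
  have h5 : (D.Y.card : ℂ) * psum (P : Subgroup G) (θ : G → ℂ) =
      (D.Y.card : ℂ) * (-(D.ε : ℂ) * (e : ℂ)) := by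
    linear_combination htot
  exact mul_left_cancel₀ hY h5

/-- C5d (PSUM-SQ-Y). -/
theorem psum_sq_Y (hctx : Ctx G p P e n) (D : Data G p P e) (θ : IrrCharacter G)
    (hθ : θ ∈ D.Y) :
    psum (P : Subgroup G) (fun g => (θ : G → ℂ) g * conj ((θ : G → ℂ) g)) =
      (e : ℂ) * ((p : ℂ) - (e : ℂ)) := by
  classical
  have hsyl := helper20_card_syl_ne hctx
  have hN0 : (Nat.card G : ℂ) ≠ 0 := card_ne_zero_complex
  -- `Σ_g θ conj θ' = |G| [θ = θ']`
  have hinner : ∀ ψ ψ' : IrrCharacter G,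
      ∑ g : G, (ψ : G → ℂ) g * conj ((ψ' : G → ℂ) g) = if ψ = ψ' then (Nat.card G : ℂ) else 0 := by
    intro ψ ψ'
    have h := irr_classInner ψ ψ'
    unfold classInner at h
    have h2 : ∑ g : G, (ψ : G → ℂ) g * conj ((ψ' : G → ℂ) g) =
        (Nat.card G : ℂ) * (if ψ = ψ' then (1 : ℂ) else 0) := by
      rw [← h, ← mul_assoc, mul_inv_cancel₀ hN0, one_mul]
    rw [h2]
    split_ifs <;> simp
  -- the difference for `θ' ≠ θ`
  have hdiff : ∀ θ' ∈ D.Y, θ' ≠ θ →
      psum (P : Subgroup G) (fun g => (θ : G → ℂ) g * conj ((θ : G → ℂ) g)) -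
        psum (P : Subgroup G) (fun g => (θ : G → ℂ) g * conj ((θ' : G → ℂ) g)) =
        (e : ℂ) * (p : ℂ) := by
    intro θ' hθ' hne
    have h1 := hinner θ θ
    have h2 := hinner θ θ'
    rw [if_pos rfl] at h1
    rw [if_neg (Ne.symm hne)] at h2
    have h3 : ∑ g : G, ((θ : G → ℂ) g * conj ((θ : G → ℂ) g) -
        (θ : G → ℂ) g * conj ((θ' : G → ℂ) g)) = (Nat.card G : ℂ) := by
      rw [Finset.sum_sub_distrib, h1, h2, sub_zero]
    rw [helper20_sum_sing (p := p)] at h3
    · have hcf : IsClassFunction G (fun g => (θ : G → ℂ) g * conj ((θ : G → ℂ) g) -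
          (θ : G → ℂ) g * conj ((θ' : G → ℂ) g)) := by
        intro g h
        simp only [irr_classFun θ g h, irr_classFun θ' g h]
      rw [helper20_psing_sum hctx.hP hctx.hC _ hcf, helper20_card_G hctx,
        helper20_psum_sub] at h3
      exact mul_left_cancel₀ hsyl h3
    · intro g hg
      rw [D.agree θ' hθ' θ hθ g hg, sub_self]
  -- the sum over `θ'`
  have hsum : ∑ θ' ∈ D.Y, psum (P : Subgroup G) (fun g => (θ : G → ℂ) g * conj ((θ' : G → ℂ) g))
      = (e : ℂ) := by
    rw [← helper20_psum_sum]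
    have h1 : psum (P : Subgroup G) (fun g => ∑ θ' ∈ D.Y, (θ : G → ℂ) g * conj ((θ' : G → ℂ) g))
        = psum (P : Subgroup G) (fun g => -(D.ε : ℂ) * (θ : G → ℂ) g) := by
      apply helper20_psum_congr
      intro x hx hx1
      rw [← Finset.mul_sum, ← map_sum, orth_Y hctx D x hx hx1]
      simp only [map_neg, map_intCast]
      ring
    rw [h1, helper20_psum_mul_left, psum_Y hctx D θ hθ]
    rcases D.ε_sq with h | h <;> rw [h] <;> push_cast <;> ring
  -- total
  have htot : ∑ θ' ∈ D.Y, (psum (P : Subgroup G) (fun g => (θ : G → ℂ) g * conj ((θ : G → ℂ) g)) -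
        psum (P : Subgroup G) (fun g => (θ : G → ℂ) g * conj ((θ' : G → ℂ) g))) =
      ((D.Y.card : ℂ) - 1) * ((e : ℂ) * (p : ℂ)) := by
    rw [← Finset.add_sum_erase _ _ hθ, sub_self, zero_add]
    rw [Finset.sum_congr rfl (fun θ' hθ' => hdiff θ' (Finset.mem_of_mem_erase hθ')
      (Finset.ne_of_mem_erase hθ'))]
    rw [Finset.sum_const, nsmul_eq_mul, Finset.card_erase_of_mem hθ,
      Nat.cast_sub (Finset.card_pos.mpr ⟨θ, hθ⟩)]
    simp
  rw [Finset.sum_sub_distrib, hsum, Finset.sum_const, nsmul_eq_mul] at htot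
  have hY := helper20_cardY_ne D
  have hYe := helper20_cardY_mul D
  have h5 : (D.Y.card : ℂ) * psum (P : Subgroup G) (fun g => (θ : G → ℂ) g * conj ((θ : G → ℂ) g))
      = (D.Y.card : ℂ) * ((e : ℂ) * ((p : ℂ) - (e : ℂ))) := by
    linear_combination htot + (e : ℂ) * hYe
  exact mul_left_cancel₀ hY h5

/-- C6 (CONST). -/
theorem inner_const (hctx : Ctx G p P e n) (D : Data G p P e) (φ : G → ℂ)
    (hφ : IsClassFunction G φ) (c : ℂ)
    (hc : ∀ x : G, x ∈ (P : Subgroup G) → x ≠ 1 → φ x = c)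
    (θ θ' : IrrCharacter G) (hθ : θ ∈ D.Y) (hθ' : θ' ∈ D.Y) :
    classInner φ (θ : G → ℂ) = classInner φ (θ' : G → ℂ) := by
  classical
  unfold classInner
  congr 1
  rw [← sub_eq_zero, ← Finset.sum_sub_distrib]
  rw [helper20_sum_sing (p := p)]
  · have hcf : IsClassFunction G (fun g => φ g * conj ((θ : G → ℂ) g) -
        φ g * conj ((θ' : G → ℂ) g)) := by
      intro g h
      simp only [irr_classFun θ g h, irr_classFun θ' g h, hφ g h]
    rw [helper20_psing_sum hctx.hP hctx.hC _ hcf, helper20_psum_sub]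
    have h1 : ∀ ψ : IrrCharacter G, psum (P : Subgroup G) (fun g => φ g * conj ((ψ : G → ℂ) g))
        = c * conj (psum (P : Subgroup G) (ψ : G → ℂ)) := by
      intro ψ
      rw [← helper20_psum_conj, ← helper20_psum_mul_left]
      apply helper20_psum_congr
      intro x hx hx1
      rw [hc x hx hx1]
    rw [h1, h1, psum_Y hctx D θ hθ, psum_Y hctx D θ' hθ', sub_self, mul_zero]
  · intro g hg
    rw [D.agree θ hθ θ' hθ' g hg, sub_self]

end Cfsg.Agent.Lib.helper20.Br
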