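import Mathlib

/-!
# S3359 piece A: a finite non-solvable group has a nontrivial normal perfect subgroup
-/

set_option autoImplicit false

namespace Cfsg.Agent.Lib.helper20

theorem z2a_exists_stable {G : Type*} [Group G] [Finite G] :
    ∃ n : ℕ, derivedSeries G (n + 1) = derivedSeries G n := by
  by_contra hcon
  push Not at hcon
  have hlt : ∀ n, derivedSeries G (n + 1) < derivedSeries G n := fun n =>
    lt_of_le_of_ne (derivedSeries_antitone G (Nat.le_succ n)) (hcon n)
  have hcard : ∀ n, Nat.card (derivedSeries G n) + n ≤ Nat.card G := by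
    intro n
    induction n with
    | zero =>
      rw [add_zero]
      exact Subgroup.card_le_card_group _
    | succ n ih =>
      have h1 : Nat.card (derivedSeries G (n + 1)) < Nat.card (derivedSeries G n) := by
        have h2 : ((derivedSeries G (n + 1) : Subgroup G) : Set G) ⊂ (derivedSeries G n : Set G) :=
          SetLike.coe_ssubset_coe.mpr (hlt n)
        have h3 := Set.ncard_lt_ncard h2 (Set.toFinite _)
        rw [← Nat.card_coe_set_eq, ← Nat.card_coe_set_eq] at h3
        exact h3
      omega
  have h := hcard (Nat.card G + 1)
  omega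

/-- PIECE A -/
theorem perfect_core {G : Type*} [Group G] [Finite G] (hns : ¬ Group.IsSolvable G) :
    ∃ S : Subgroup G, S.Normal ∧ S ≠ ⊥ ∧ commutator S = ⊤ := by
  obtain ⟨n, hn⟩ := z2a_exists_stable (G := G)
  refine ⟨derivedSeries G n, inferInstance, ?_, ?_⟩
  · intro hbot
    exact hns ((Group.isSolvable_def G).mpr ⟨n, hbot⟩)
  · have h1 : ⁅derivedSeries G n, derivedSeries G n⁆ = derivedSeries G n := by
      rw [← derivedSeries_succ]
      exact hn
    apply Subgroup.map_injective (derivedSeries G n).subtype_injective
    rw [commutator_def, Subgroup.map_commutator, ← MonoidHom.range_eq_map,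
      Subgroup.range_subtype]
    exact h1

end Cfsg.Agent.Lib.helper20
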