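import Mathlib

/-!
# S3359 piece G: a subgroup whose only 2-elements are `1` and a central involution `z`
has a complement of odd order to `⟨z⟩`
-/

set_option autoImplicit false

namespace Cfsg.Agent.Lib.helper20

/-- PIECE G -/
theorem exists_odd_compl {G : Type*} [Group G] [Finite G] (C : Subgroup G) (z : G) (hz : z ∈ C)
    (hz2 : z ^ 2 = 1) (hzc : ∀ g ∈ C, g * z = z * g)
    (h2 : ∀ t ∈ C, ∀ k : ℕ, t ^ 2 ^ k = 1 → t = 1 ∨ t = z) :
    ∃ M : Subgroup G, M ≤ C ∧ Odd (Nat.card M) ∧ M ⊔ Subgroup.zpowers z = C := by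
  classical
  -- the subgroup `Z' = ⟨z⟩` inside `C`
  let zC : C := ⟨z, hz⟩
  let Z' : Subgroup C := Subgroup.zpowers zC
  have hzC2 : zC ^ 2 = 1 := Subtype.ext (by simpa using hz2)
  have hzCc : ∀ g : C, g * zC = zC * g := fun g => Subtype.ext (hzc g.1 g.2)
  have hZ'mem : ∀ x : C, x ∈ Z' ↔ x = 1 ∨ x = zC := by
    intro x
    constructor
    · intro hx
      obtain ⟨n, rfl⟩ := Subgroup.mem_zpowers_iff.mp hx
      rcases Int.even_or_odd' n with ⟨j, rfl | rfl⟩
      · left
        rw [zpow_mul, zpow_ofNat, hzC2, one_zpow]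
      · right
        rw [zpow_add, zpow_mul, zpow_ofNat, hzC2, one_zpow, one_mul, zpow_one]
    · rintro (rfl | rfl)
      · exact Z'.one_mem
      · exact Subgroup.mem_zpowers zC
  have hZ'n : Z'.Normal := by
    constructor
    intro x hx g
    rcases (hZ'mem x).mp hx with rfl | rfl
    · simp [Z'.one_mem]
    · rw [hzCc g, mul_inv_cancel_right]
      exact Subgroup.mem_zpowers zC
  have hZ'card : Nat.card Z' ∣ 2 := by
    rw [Nat.card_zpowers]
    exact orderOf_dvd_of_pow_eq_one hzC2
  -- the index of `Z'` is odd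
  have hodd : Odd Z'.index := by
    by_contra hcon
    rw [Nat.not_odd_iff_even] at hcon
    have h2dvd : 2 ∣ Nat.card (C ⧸ Z') := by
      rw [← Subgroup.index_eq_card]
      exact hcon.two_dvd
    haveI : Fact (Nat.Prime 2) := ⟨Nat.prime_two⟩
    obtain ⟨q, hq⟩ := exists_prime_orderOf_dvd_card' (G := C ⧸ Z') 2 h2dvd
    obtain ⟨g, rfl⟩ := QuotientGroup.mk_surjective q
    have hq1 : (g : C ⧸ Z') ≠ 1 := by
      intro h1
      rw [h1, orderOf_one] at hq
      omega
    have hq2 : (g : C ⧸ Z') ^ 2 = 1 := by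
      rw [← hq]
      exact pow_orderOf_eq_one _
    have hg2 : g ^ 2 ∈ Z' := by
      rw [← QuotientGroup.eq_one_iff, QuotientGroup.mk_pow]
      exact hq2
    have hgnot : g ∉ Z' := by
      intro hg
      exact hq1 ((QuotientGroup.eq_one_iff g).mpr hg)
    have hg4 : g ^ 2 ^ 2 = 1 := by
      rcases (hZ'mem _).mp hg2 with h | h
      · have : g ^ 4 = (g ^ 2) ^ 2 := by rw [← pow_mul]
        norm_num
        rw [this, h, one_pow]
      · have : g ^ 4 = (g ^ 2) ^ 2 := by rw [← pow_mul]
        norm_num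
        rw [this, h, hzC2]
    have hg4' : (g : G) ^ 2 ^ 2 = 1 := by
      have := congrArg (Subtype.val) hg4
      simpa using this
    rcases h2 g.1 g.2 2 hg4' with h | h
    · exact hgnot ((hZ'mem g).mpr (Or.inl (Subtype.ext h)))
    · exact hgnot ((hZ'mem g).mpr (Or.inr (Subtype.ext h)))
  -- Schur–Zassenhaus
  have hcop : Nat.Coprime (Nat.card Z') Z'.index := by
    have h1 : Nat.Coprime 2 Z'.index := (Nat.coprime_two_left).mpr hodd
    exact Nat.Coprime.coprime_dvd_left hZ'card h1
  obtain ⟨H, hH⟩ := Subgroup.exists_right_complement'_of_coprime hcop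
  refine ⟨H.map C.subtype, ?_, ?_, ?_⟩
  · rintro x ⟨y, -, rfl⟩
    exact y.2
  · have h1 : Nat.card (H.map C.subtype) = Nat.card H :=
      Subgroup.card_map_of_injective C.subtype_injective
    rw [h1]
    have h3 : Nat.card H = Z'.index := by
      have := hH.symm.index_eq_card
      rw [← this]
    rw [h3]
    exact hodd
  · have hsup : H ⊔ Z' = ⊤ := by
      rw [sup_comm]
      exact hH.sup_eq_top
    have hmapZ : Z'.map C.subtype = Subgroup.zpowers z := by
      rw [MonoidHom.map_zpowers]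
      rfl
    rw [← hmapZ, ← Subgroup.map_sup, hsup, ← MonoidHom.range_eq_map, Subgroup.range_subtype]

end Cfsg.Agent.Lib.helper20
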