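import Mathlib

/-!
# S3359 piece J: the arithmetic of `|SL(2,5)| * m` versus `p^(2k) - 1`
-/

set_option autoImplicit false

namespace Cfsg.Agent.Lib.helper20

theorem z2j_not_119 (p k : ℕ) (hp : p.Prime) (h : p ^ k = 119) : False := by
  have hk : k ≠ 0 := by
    rintro rfl
    simp at h
  have hdvd : p ∣ 7 * 17 := by
    have : p ∣ p ^ k := dvd_pow_self p hk
    rw [h] at this
    exact this
  rcases (Nat.Prime.dvd_mul hp).mp hdvd with h7 | h17
  · have hp7 : p = 7 := (Nat.prime_dvd_prime_iff_eq hp (by norm_num)).mp h7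
    subst hp7
    have hk3 : k < 3 := by
      by_contra hge
      push Not at hge
      have : 7 ^ 3 ≤ 7 ^ k := Nat.pow_le_pow_right (by norm_num) hge
      omega
    interval_cases k <;> omega
  · have hp17 : p = 17 := (Nat.prime_dvd_prime_iff_eq hp (by norm_num)).mp h17
    subst hp17
    have hk2 : k < 2 := by
      by_contra hge
      push Not at hge
      have : 17 ^ 2 ≤ 17 ^ k := Nat.pow_le_pow_right (by norm_num) hge
      omega
    interval_cases k <;> omega

/-- PIECE J -/
theorem arith_689 (p k m e : ℕ) (hp : p.Prime) (he : e = 1 ∨ e = 2) (hm : m ∣ p ^ k - 1)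
    (hm30 : m.Coprime 30) (hcard : p ^ (2 * k) - 1 = e * (120 * m)) :
    e = 1 ∧ ((p ^ k = 11 ∧ m = 1) ∨ (p ^ k = 29 ∧ m = 7) ∨ (p ^ k = 59 ∧ m = 29)) := by
  have hm0 : 0 < m := by
    rcases Nat.eq_zero_or_pos m with h0 | h0
    · subst h0
      simp [Nat.Coprime] at hm30
    · exact h0
  have hQ1 : 1 ≤ p ^ k := Nat.one_le_pow _ _ hp.pos
  obtain ⟨a, ha⟩ := hm
  obtain ⟨Q, hQ⟩ : ∃ Q, Q = p ^ k := ⟨_, rfl⟩
  have hQ2 : p ^ (2 * k) = Q * Q := by
    rw [hQ, ← pow_two, ← pow_mul, Nat.mul_comm]
  rw [hQ2] at hcard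
  rw [← hQ] at ha hQ1 ⊢
  have hQeq : Q = m * a + 1 := by omega
  have hnot119 : Q ≠ 119 := by
    intro h119
    exact z2j_not_119 p k hp (hQ ▸ h119)
  clear hQ hQ2 hp
  subst hQeq
  have hmain : m * (a * (m * a + 2)) = m * (120 * e) := by
    have h1 : (m * a + 1) * (m * a + 1) - 1 = m * (a * (m * a + 2)) := by
      have : (m * a + 1) * (m * a + 1) = m * (a * (m * a + 2)) + 1 := by ring
      omega
    rw [h1] at hcard
    rw [hcard]
    ring
  have hmain2 : a * (m * a + 2) = 120 * e := Nat.eq_of_mul_eq_mul_left hm0 hmain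
  have ha14 : a ≤ 14 := by
    by_contra hgt
    push Not at hgt
    have h1 : a * a ≤ a * (m * a) := by
      have : a ≤ m * a := Nat.le_mul_of_pos_left a hm0
      exact Nat.mul_le_mul_left a this
    have h2 : 15 * 15 ≤ a * a := Nat.mul_le_mul hgt hgt
    have h3 : a * (m * a + 2) = a * (m * a) + 2 * a := by ring
    rcases he with rfl | rfl <;> omega
  have ha0 : a ≠ 0 := by
    rintro rfl
    rcases he with rfl | rfl <;> omega
  rcases he with rfl | rfl
  · refine ⟨rfl, ?_⟩
    interval_cases a
    all_goals first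
      | omega
      | (have hm' : m = 118 := by omega
         subst hm'; exact absurd hm30 (by decide))
      | (have hm' : m = 3 := by omega
         subst hm'; exact absurd hm30 (by decide))
      | (have hm' : m = 29 := by omega
         subst hm'; right; right; exact ⟨by norm_num, rfl⟩)
      | (have hm' : m = 7 := by omega
         subst hm'; right; left; exact ⟨by norm_num, rfl⟩)
      | (have hm' : m = 1 := by omega
         subst hm'; left; exact ⟨by norm_num, rfl⟩)
  · exfalso
    interval_cases a
    all_goals first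
      | omega
      | (have hm' : m = 238 := by omega
         subst hm'; exact absurd hm30 (by decide))
      | (have hm' : m = 26 := by omega
         subst hm'; exact absurd hm30 (by decide))
      | (have hm' : m = 59 := by omega
         subst hm'; exact hnot119 (by norm_num))

end Cfsg.Agent.Lib.helper20
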