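import Mathlib
import Cfsg.Agent.Lib.helper21.BRDefs
import Cfsg.Agent.S4441
import Cfsg.Agent.Lib.helper76.KazCore
import Cfsg.Agent.Lib.helper82.CharQuot
import Cfsg.Agent.Lib.helper81.Blocks
import Cfsg.Agent.Lib.helper81.CharOrtho

/-!
# S0999 piece CH1 (`brdata_exists`) : the interface to S4441 (principal block of defect one).
-/

set_option autoImplicit false

namespace Cfsg.Agent.Lib.helper21.BR

open Cfsg Cfsg.Agent.Lib.helper21

universe u

/-- A non-cyclic simple group is perfect. -/
theorem helper20_commutator_eq_top {G : Type u} [Group G] [IsSimpleGroup G]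
    (hG : ¬ IsCyclic G) : commutator G = ⊤ := by
  haveI : (commutator G).Normal := by
    rw [commutator_def]; infer_instance
  rcases (Subgroup.Normal.eq_bot_or_eq_top (H := commutator G) inferInstance) with h | h
  · exfalso
    apply hG
    have hcomm : ∀ a b : G, a * b = b * a := by
      intro a b
      have h1 : (⊤ : Subgroup G) ≤ Subgroup.centralizer ((⊤ : Subgroup G) : Set G) := by
        rw [← Subgroup.commutator_eq_bot_iff_le_centralizer, ← commutator_def]; exact h
      exact Subgroup.mem_centralizer_iff.mp (h1 (Subgroup.mem_top b)) a (Subgroup.mem_top a)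
    letI : CommGroup G := { ‹Group G› with mul_comm := hcomm }
    exact IsSimpleGroup.isCyclic
  · exact h

variable {G : Type u} [Group G] [Fintype G]

/-- A linear irreducible character of a perfect group is trivial. -/
theorem helper20_lin_trivIrr (hperf : commutator G = ⊤) (χ : IrrCharacter G)
    (h : (χ : G → ℂ) 1 = 1) : χ = trivIrr G := by
  apply Subtype.ext
  funext x
  have h2 := Cfsg.Agent.Lib.helper82.linear_commutator
    (Cfsg.Agent.Lib.helper81.irr_isCharacter χ) h x (by rw [hperf]; trivial)
  rw [h2, h]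
  rfl

variable (p : ℕ) [Fact p.Prime] (P : Sylow p G)

/-- CH1 -/
theorem brdata_exists [IsSimpleGroup G] (hG : ¬ IsCyclic G) (hodd : p ≠ 2)
    (hP : Nat.card P = p) (e : ℕ)
    (he : (Subgroup.centralizer ((P : Subgroup G) : Set G)).relIndex
      (Subgroup.normalizer ((P : Subgroup G) : Set G)) = e)
    (hdvd : e ∣ p - 1) (he2 : 2 * e ≤ p - 1) :
    ∃ (X Y : Finset (IrrCharacter G)) (εX : IrrCharacter G → ℤ) (ε : ℤ),
      BRData (P : Subgroup G) p e X Y εX ε := by
  classical
  have hp : p.Prime := Fact.out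
  have hperf := helper20_commutator_eq_top hG
  obtain ⟨M, hM⟩ := Cfsg.Agent.Lib.helper76.exists_isPModular p hp
  have hMprime : M.IsPrime := hM.2.1.isPrime
  obtain ⟨X, Y, hB, hdisj, hcX, hcY, εX, ε, hX, hε, hdY, hagree, hrelY⟩ :=
    Cfsg.Agent.S4441.result p M hM hodd P hP e he
  have hXfin : X.Finite := Set.toFinite X
  have hYfin : Y.Finite := Set.toFinite Y
  have hcXF : hXfin.toFinset.card = e := by
    rw [← Set.ncard_eq_toFinset_card X hXfin, ← Nat.card_coe_set_eq]; exact hcX
  have hcYF : hYfin.toFinset.card = (p - 1) / e := by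
    rw [← Set.ncard_eq_toFinset_card Y hYfin, ← Nat.card_coe_set_eq]; exact hcY
  have hcYe : hYfin.toFinset.card * e = p - 1 := by
    rw [hcYF]; exact Nat.div_mul_cancel hdvd
  have hreg1 : ¬ p ∣ orderOf (1 : G) := by
    rw [orderOf_one]; exact fun hd => hp.one_lt.ne' (Nat.dvd_one.mp hd)
  have htrivEq : trivIrr G = Cfsg.Agent.Lib.helper81.trivChar G := rfl
  have htriv : trivIrr G ∈ X ∪ Y := by
    rw [← hB, htrivEq]; exact Cfsg.Agent.Lib.helper81.trivChar_mem_principalBlock hMprime
  have h1X : trivIrr G ∈ X := by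
    rcases htriv with h | h1Y
    · exact h
    · exfalso
      -- `Y` has at least two members
      have hcard2 : 1 < hYfin.toFinset.card := by
        by_contra hle
        have hle' : hYfin.toFinset.card ≤ 1 := by omega
        have : hYfin.toFinset.card * e ≤ 1 * e := Nat.mul_le_mul_right e hle'
        have hp2 := hp.two_le
        have he0 : e ≠ 0 := by
          rintro rfl
          rw [zero_dvd_iff] at hdvd
          omega
        omega
      obtain ⟨θ', hθ', hne⟩ := Finset.exists_mem_ne hcard2 (trivIrr G)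
      apply hne
      apply helper20_lin_trivIrr hperf
      rw [hagree θ' ((Set.Finite.mem_toFinset _).mp hθ') (trivIrr G) h1Y 1 hreg1]
      rfl
  -- a non-identity element of `P`
  have hPnt : Nontrivial ↥(P : Subgroup G) := by
    rw [← Finite.one_lt_card_iff_nontrivial, hP]; exact hp.one_lt
  obtain ⟨x, hx⟩ := exists_ne (1 : ↥(P : Subgroup G))
  have hx1 : (x : G) ≠ 1 := fun h => hx (Subtype.ext h)
  have hsgn1 : εX (trivIrr G) = 1 := by
    have h := (hX (trivIrr G) h1X).2.2 (x : G) x.2 hx1 1 (Subgroup.one_mem _) hreg1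
    have h2 : ((trivIrr G : IrrCharacter G) : G → ℂ) ((x : G) * 1) = 1 := rfl
    rw [h2] at h
    exact_mod_cast h.symm
  refine ⟨hXfin.toFinset, hYfin.toFinset, εX, ε, ?_⟩
  exact
    { disj := by
        rw [Finset.disjoint_left]
        intro a ha hb
        rw [Set.Finite.mem_toFinset] at ha hb
        exact Set.disjoint_left.mp hdisj ha hb
      cardX := hcXF
      cardY := hcYe
      one_mem := by rw [Set.Finite.mem_toFinset]; exact h1X
      one_sgn := hsgn1
      sgnX := fun χ hχ => (hX χ ((Set.Finite.mem_toFinset _).mp hχ)).1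
      degX := fun χ hχ =>
        Int.modEq_iff_dvd.mp (hX χ ((Set.Finite.mem_toFinset _).mp hχ)).2.1.symm
      valX := fun χ hχ x hx hx1 y hy hreg =>
        (hX χ ((Set.Finite.mem_toFinset _).mp hχ)).2.2 x hx hx1 y hy hreg
      sgn := hε
      degY := fun θ hθ => Int.modEq_iff_dvd.mp (hdY θ ((Set.Finite.mem_toFinset _).mp hθ)).symm
      relY := by
        intro θ hθ g hg
        rw [hrelY θ ((Set.Finite.mem_toFinset _).mp hθ) g hg,
          finsum_mem_eq_finite_toFinset_sum _ hXfin] }

end Cfsg.Agent.Lib.helper21.BR
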