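import Mathlib
import Cfsg.Prelude.Def_Characters
import Cfsg.Prelude.Def_Blocks
import Cfsg.Agent.Lib.helper84.BrDefs
import Cfsg.Agent.Lib.helper20.BrC0
import Cfsg.Agent.Lib.helper20.BrC1
import Cfsg.Agent.Lib.helper20.BrC5
import Cfsg.Agent.Lib.helper20.BrPS
import Cfsg.Agent.Lib.helper20.BR_CH1
import Cfsg.Agent.Lib.helper78.BR_GT2

/-!
# S0998 pieces DATA (`exists_data_simple`), ORTH (`orth_Y_gen`), PSUM (`psum_Y_gen`).
-/

set_option autoImplicit false

namespace Cfsg.Agent.Lib.helper20.BT

open Cfsg Cfsg.Agent.Lib.helper81 Cfsg.Agent.Lib.helper84.Br Cfsg.Agent.Lib.helper20.Br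
open scoped ComplexConjugate

universe u

variable {G : Type u} [Group G] [Fintype G] {p : ℕ} [Fact p.Prime] {P : Sylow p G} {e : ℕ}

/-- The principal block data from explicit hypotheses (copy of `Br.exists_data` without `Ctx`). -/
theorem helper20_exists_data_gen (hperf : commutator G = ⊤) (hP : Nat.card P = p)
    (hC : Subgroup.centralizer ((P : Subgroup G) : Set G) = (P : Subgroup G)) (hp2 : p ≠ 2)
    (he2 : 2 ≤ e) (hep : e ∣ p - 1)
    (hrel : (Subgroup.centralizer ((P : Subgroup G) : Set G)).relIndex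
      (Subgroup.normalizer ((P : Subgroup G) : Set G)) = e) :
    Nonempty (Data G p P e) := by
  classical
  have hp : p.Prime := Fact.out
  obtain ⟨M, hM⟩ := Cfsg.Agent.Lib.helper76.exists_isPModular p hp
  have hMprime : M.IsPrime := hM.2.1.isPrime
  have hPN : (P : Subgroup G) ≤ Subgroup.normalizer ((P : Subgroup G) : Set G) :=
    Subgroup.le_normalizer
  obtain ⟨X, Y, hB, hdisj, hcX, hcY, εX, ε, hX, hε, hdY, hagree, hrelY⟩ :=
    Cfsg.Agent.S4441.result p M hM hp2 P hP e hrel
  have hXfin : X.Finite := Set.toFinite X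
  have hYfin : Y.Finite := Set.toFinite Y
  have hcXF : hXfin.toFinset.card = e := by
    rw [← Set.ncard_eq_toFinset_card X hXfin, ← Nat.card_coe_set_eq]; exact hcX
  have hcYF : hYfin.toFinset.card = (p - 1) / e := by
    rw [← Set.ncard_eq_toFinset_card Y hYfin, ← Nat.card_coe_set_eq]; exact hcY
  have hcYe : hYfin.toFinset.card * e = p - 1 := by
    rw [hcYF]; exact Nat.div_mul_cancel hep
  have hvan : ∀ ψ : IrrCharacter G, ψ ∉ X → ψ ∉ Y → ∀ x : G, x ∈ (P : Subgroup G) → x ≠ 1 →
      (ψ : G → ℂ) x = 0 := by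
    intro ψ h1 h2 x hx hx1
    apply helper20_vanish M hM hP hC ψ _ x hx hx1
    rw [hB]
    exact fun h => h.elim h1 h2
  have hvalX : ∀ χ ∈ X, ∀ x : G, x ∈ (P : Subgroup G) → x ≠ 1 →
      (χ : G → ℂ) x = (εX χ : ℂ) := by
    intro χ hχ x hx hx1
    have h := (hX χ hχ).2.2 x hx hx1 1 (Subgroup.one_mem _)
      (by rw [orderOf_one]; exact fun hd => hp.one_lt.ne' (Nat.dvd_one.mp hd))
    rwa [mul_one] at h
  have hrelF : ∀ θ ∈ Y, ∀ g : G, ¬ p ∣ orderOf g →
      (ε : ℂ) * (θ : G → ℂ) g = ∑ χ ∈ hXfin.toFinset, (εX χ : ℂ) * (χ : G → ℂ) g := by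
    intro θ hθ g hg
    rw [hrelY θ hθ g hg, finsum_mem_eq_finite_toFinset_sum _ hXfin]
  have htriv : trivChar G ∈ X ∪ Y := by
    rw [← hB]; exact trivChar_mem_principalBlock hMprime
  rcases htriv with h1X | h1Y
  · -- the trivial character is non-exceptional: take the data as it is
    exact ⟨{ X := hXfin.toFinset
             Y := hYfin.toFinset
             δ := εX
             ε := ε
             disj := by
               rw [Finset.disjoint_left]
               intro a ha hb
               rw [Set.Finite.mem_toFinset] at ha hb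
               exact Set.disjoint_left.mp hdisj ha hb
             cardX := hcXF
             cardY := hcYe
             one_mem := by rw [Set.Finite.mem_toFinset]; exact h1X
             δ_sq := fun χ hχ => (hX χ ((Set.Finite.mem_toFinset _).mp hχ)).1
             deg_X := fun χ hχ => (hX χ ((Set.Finite.mem_toFinset _).mp hχ)).2.1
             val_X := fun χ hχ => hvalX χ ((Set.Finite.mem_toFinset _).mp hχ)
             ε_sq := hε
             deg_Y := fun θ hθ => hdY θ ((Set.Finite.mem_toFinset _).mp hθ)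
             agree := fun θ hθ θ' hθ' =>
               hagree θ ((Set.Finite.mem_toFinset _).mp hθ) θ' ((Set.Finite.mem_toFinset _).mp hθ')
             rel := fun θ hθ => hrelF θ ((Set.Finite.mem_toFinset _).mp hθ)
             vanish := fun ψ h1 h2 => hvan ψ (fun h => h1 ((Set.Finite.mem_toFinset _).mpr h))
               (fun h => h2 ((Set.Finite.mem_toFinset _).mpr h)) }⟩
  · -- the trivial character is exceptional: then `Y = {1}`, `e = p - 1`, `ε = -1`; swap
    have hreg1 : ¬ p ∣ orderOf (1 : G) := by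
      rw [orderOf_one]; exact fun hd => hp.one_lt.ne' (Nat.dvd_one.mp hd)
    have hYsing : ∀ θ ∈ Y, θ = trivChar G := by
      intro θ hθ
      apply helper20_lin_perfect_val hperf
      rw [hagree θ hθ (trivChar G) h1Y 1 hreg1]
      rfl
    have h1X : trivChar G ∉ X := fun h => Set.disjoint_left.mp hdisj h h1Y
    have hYF : hYfin.toFinset = {trivChar G} := by
      ext θ
      rw [Set.Finite.mem_toFinset, Finset.mem_singleton]
      exact ⟨hYsing θ, fun h => h ▸ h1Y⟩
    have he1 : e = p - 1 := by
      rw [hYF, Finset.card_singleton, one_mul] at hcYe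
      exact hcYe
    have hp1 : 1 ≤ p := hp.pos
    have hp3 : 3 ≤ p := by
      have := hp.two_le
      have := hp2
      omega
    have hdeg1 : charDegree ((trivChar G : IrrCharacter G) : G → ℂ) = 1 := by
      have h := irr_one_eq_charDegree (trivChar G)
      rw [trivChar_apply] at h
      exact_mod_cast h.symm
    have hεm : ε = -1 := by
      rcases hε with h | h
      · exfalso
        have h2 := hdY (trivChar G) h1Y
        rw [hdeg1, h, he1, one_mul] at h2
        have h3 : (p : ℤ) ∣ ((p - 1 : ℕ) : ℤ) - ((1 : ℕ) : ℤ) := (Int.modEq_iff_dvd).mp h2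
        have h4 : (p : ℤ) ∣ 2 := by
          have h5 : ((p - 1 : ℕ) : ℤ) = (p : ℤ) - 1 := by
            rw [Nat.cast_sub hp1]; simp
          rw [h5] at h3
          have h6 : (p : ℤ) ∣ (p : ℤ) - (((p : ℤ) - 1) - ((1 : ℕ) : ℤ)) :=
            dvd_sub dvd_rfl h3
          have h7 : (p : ℤ) - (((p : ℤ) - 1) - ((1 : ℕ) : ℤ)) = 2 := by push_cast; ring
          rwa [h7] at h6
        have h8 : p ∣ 2 := by exact_mod_cast h4
        have := Nat.le_of_dvd (by norm_num) h8
        omega
      · exact h
    -- choose a member of `X`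
    have hXne : hXfin.toFinset.Nonempty := by
      rw [← Finset.card_pos, hcXF]
      have := he2
      omega
    obtain ⟨χ0, hχ0F⟩ := hXne
    have hχ0 : χ0 ∈ X := (Set.Finite.mem_toFinset _).mp hχ0F
    have hχ0ne : χ0 ≠ trivChar G := fun h => h1X (h ▸ hχ0)
    have h1erase : trivChar G ∉ hXfin.toFinset.erase χ0 := by
      intro h
      exact h1X ((Set.Finite.mem_toFinset _).mp (Finset.mem_of_mem_erase h))
    -- relation at `1 ∈ Y`
    have hrel1 : ∀ g : G, ¬ p ∣ orderOf g →
        ∑ χ ∈ hXfin.toFinset.erase χ0, (εX χ : ℂ) * (χ : G → ℂ) g =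
          -1 - (εX χ0 : ℂ) * (χ0 : G → ℂ) g := by
      intro g hg
      have h := hrelF (trivChar G) h1Y g hg
      rw [trivChar_apply, hεm, ← Finset.add_sum_erase _ _ hχ0F] at h
      push_cast at h
      linear_combination -h
    exact ⟨{ X := insert (trivChar G) (hXfin.toFinset.erase χ0)
             Y := {χ0}
             δ := fun χ => if χ = trivChar G then 1 else εX χ
             ε := -εX χ0
             disj := by
               rw [Finset.disjoint_singleton_right, Finset.mem_insert, not_or]
               exact ⟨hχ0ne, fun h => (Finset.mem_erase.mp h).1 rfl⟩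
             cardX := by
               rw [Finset.card_insert_of_notMem h1erase, Finset.card_erase_of_mem hχ0F, hcXF]
               have := he2
               omega
             cardY := by rw [Finset.card_singleton, one_mul, he1]
             one_mem := Finset.mem_insert_self _ _
             δ_sq := by
               intro χ hχ
               by_cases h : χ = trivChar G
               · left; simp [h]
               · rw [if_neg h]
                 rcases Finset.mem_insert.mp hχ with h' | h'
                 · exact absurd h' h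
                 · exact (hX χ ((Set.Finite.mem_toFinset _).mp (Finset.mem_of_mem_erase h'))).1
             deg_X := by
               intro χ hχ
               by_cases h : χ = trivChar G
               · rw [if_pos h, h, hdeg1]; rfl
               · rw [if_neg h]
                 rcases Finset.mem_insert.mp hχ with h' | h'
                 · exact absurd h' h
                 · exact (hX χ ((Set.Finite.mem_toFinset _).mp (Finset.mem_of_mem_erase h'))).2.1
             val_X := by
               intro χ hχ x hx hx1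
               by_cases h : χ = trivChar G
               · rw [if_pos h, h, trivChar_apply]; simp
               · rw [if_neg h]
                 rcases Finset.mem_insert.mp hχ with h' | h'
                 · exact absurd h' h
                 · exact hvalX χ ((Set.Finite.mem_toFinset _).mp (Finset.mem_of_mem_erase h'))
                     x hx hx1
             ε_sq := by
               rcases (hX χ0 hχ0).1 with h | h
               · right; rw [h]
               · left; rw [h]; norm_num
             deg_Y := by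
               intro θ hθ
               rw [Finset.mem_singleton] at hθ
               rw [hθ, he1]
               have h := (hX χ0 hχ0).2.1
               have h5 : ((p - 1 : ℕ) : ℤ) = (p : ℤ) - 1 := by
                 rw [Nat.cast_sub hp1]; simp
               rw [h5]
               refine h.trans ?_
               rw [Int.modEq_iff_dvd]
               exact ⟨-εX χ0, by ring⟩
             agree := by
               intro θ hθ θ' hθ' g _
               rw [Finset.mem_singleton] at hθ hθ'
               rw [hθ, hθ']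
             rel := by
               intro θ hθ g hg
               rw [Finset.mem_singleton] at hθ
               rw [hθ, Finset.sum_insert h1erase, if_pos rfl, trivChar_apply]
               have hsum : ∑ χ ∈ hXfin.toFinset.erase χ0,
                   (((if χ = trivChar G then (1 : ℤ) else εX χ : ℤ) : ℂ)) * (χ : G → ℂ) g =
                   ∑ χ ∈ hXfin.toFinset.erase χ0, (εX χ : ℂ) * (χ : G → ℂ) g := by
                 apply Finset.sum_congr rfl
                 intro χ hχ
                 have : χ ≠ trivChar G := fun h => h1erase (h ▸ hχ)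
                 rw [if_neg this]
               rw [hsum, hrel1 g hg]
               push_cast
               ring
             vanish := by
               intro ψ h1 h2 x hx hx1
               rw [Finset.mem_insert, not_or] at h1
               rw [Finset.mem_singleton] at h2
               apply hvan ψ _ _ x hx hx1
               · intro h
                 exact h1.2 (Finset.mem_erase.mpr ⟨h2, (Set.Finite.mem_toFinset _).mpr h⟩)
               · intro h
                 exact h1.1 (hYsing ψ h) }⟩


/-- DATA : the principal block data of a simple group with a self-centralizing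
Sylow subgroup of prime order. -/
theorem exists_data_simple [IsSimpleGroup G] (hG : ¬ IsCyclic G) (hP : Nat.card P = p)
    (hC : Subgroup.centralizer ((P : Subgroup G) : Set G) = (P : Subgroup G)) :
    ∃ e : ℕ, 2 ≤ e ∧ e ∣ p - 1 ∧
      Nat.card (Subgroup.normalizer ((P : Subgroup G) : Set G)) = e * p ∧
      Nonempty (Data G p P e) := by
  have hp : p.Prime := Fact.out
  obtain ⟨h2, hdvd⟩ := Cfsg.Agent.Lib.helper21.BR.relIndex_facts hG p P hP
  have hperf := Cfsg.Agent.Lib.helper21.BR.helper20_commutator_eq_top (G := G) hG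
  have hp2 : p ≠ 2 := by
    intro h
    have h3 : p - 1 = 1 := by omega
    rw [h3] at hdvd
    have := Nat.le_of_dvd (by norm_num) hdvd
    omega
  refine ⟨_, h2, hdvd, ?_, helper20_exists_data_gen hperf hP hC hp2 h2 hdvd rfl⟩
  have hPN : (P : Subgroup G) ≤ Subgroup.normalizer ((P : Subgroup G) : Set G) :=
    Subgroup.le_normalizer
  have h1 := Subgroup.relIndex_mul_relIndex (⊥ : Subgroup G) (P : Subgroup G)
    (Subgroup.normalizer ((P : Subgroup G) : Set G)) bot_le hPN
  rw [Subgroup.relIndex_bot_left, Subgroup.relIndex_bot_left, hP] at h1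
  rw [hC, ← h1, mul_comm]

/-- ORTH : `Σ_{θ ∈ Y} θ(x) = -ε` on `P ∖ 1` (no `Ctx` needed). -/
theorem orth_Y_gen (D : Data G p P e) (x : G) (hx : x ∈ (P : Subgroup G)) (hx1 : x ≠ 1) :
    ∑ θ ∈ D.Y, (θ : G → ℂ) x = -(D.ε : ℂ) := by
  classical
  have hp : p.Prime := Fact.out
  have hYne : D.Y.Nonempty := by
    rw [← Finset.card_pos]
    by_contra h
    have h0 : D.Y.card = 0 := by omega
    have h1 := D.cardY
    rw [h0, zero_mul] at h1
    have := hp.two_le
    omega
  obtain ⟨θ0, hθ0⟩ := hYne
  have hreg1 : ¬ p ∣ orderOf (1 : G) := by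
    rw [orderOf_one]; exact fun hd => hp.one_lt.ne' (Nat.dvd_one.mp hd)
  have hcol := irr_col_orth x (1 : G)
  rw [if_neg (by rw [isConj_one_left]; exact hx1)] at hcol
  have h1 : ∑ ψ : IrrCharacter G, (ψ : G → ℂ) x * (ψ : G → ℂ) 1 = 0 := by
    rw [← hcol]
    refine Finset.sum_congr rfl fun ψ _ => ?_
    rw [irr_one_eq_charDegree, Complex.conj_natCast]
  have h2 : ∑ ψ : IrrCharacter G, (ψ : G → ℂ) x * (ψ : G → ℂ) 1
      = ∑ ψ ∈ D.X ∪ D.Y, (ψ : G → ℂ) x * (ψ : G → ℂ) 1 := by
    symm
    apply Finset.sum_subset (Finset.subset_univ _)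
    intro ψ _ hψ
    rw [Finset.mem_union, not_or] at hψ
    rw [D.vanish ψ hψ.1 hψ.2 x hx hx1, zero_mul]
  rw [h2, Finset.sum_union D.disj] at h1
  have h3 : ∑ χ ∈ D.X, (χ : G → ℂ) x * (χ : G → ℂ) 1 = (D.ε : ℂ) * (θ0 : G → ℂ) 1 := by
    rw [D.rel θ0 hθ0 1 hreg1]
    refine Finset.sum_congr rfl fun χ hχ => ?_
    rw [D.val_X χ hχ x hx hx1]
  have h4 : ∑ θ ∈ D.Y, (θ : G → ℂ) x * (θ : G → ℂ) 1
      = (∑ θ ∈ D.Y, (θ : G → ℂ) x) * (θ0 : G → ℂ) 1 := by
    rw [Finset.sum_mul]
    refine Finset.sum_congr rfl fun θ hθ => ?_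
    rw [D.agree θ hθ θ0 hθ0 1 hreg1]
  rw [h3, h4] at h1
  have h5 : (θ0 : G → ℂ) 1 ≠ 0 := irr_one_ne_zero θ0
  have h6 : ((D.ε : ℂ) + ∑ θ ∈ D.Y, (θ : G → ℂ) x) * (θ0 : G → ℂ) 1 = 0 := by
    linear_combination h1
  rcases mul_eq_zero.mp h6 with h | h
  · linear_combination h
  · exact absurd h h5

omit [Fact p.Prime] in
theorem helper20_card_syl_ne' : (Nat.card (Sylow p G) : ℂ) ≠ 0 := by
  have h : Nat.card (Sylow p G) ≠ 0 := Nat.card_pos.ne'
  exact_mod_cast h

theorem helper20_card_G' (hN : Nat.card (Subgroup.normalizer ((P : Subgroup G) : Set G)) = e * p) :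
    (Nat.card G : ℂ) = (Nat.card (Sylow p G) : ℂ) * ((e : ℂ) * (p : ℂ)) := by
  have h1 := Subgroup.card_mul_index (Subgroup.normalizer ((P : Subgroup G) : Set G))
  have h0 : Nat.card (Sylow p G) = (Subgroup.normalizer ((P : Subgroup G) : Set G)).index :=
    Sylow.card_eq_index_normalizer P
  rw [← h0, hN] at h1
  rw [← h1]
  push_cast
  ring

/-- `S(θ) = -ε e`. -/
theorem helper20_psum_Y_gen1 (hP : Nat.card P = p)
    (hC : Subgroup.centralizer ((P : Subgroup G) : Set G) = (P : Subgroup G))
    (D : Data G p P e) (θ : IrrCharacter G) (hθ : θ ∈ D.Y) :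
    psum (P : Subgroup G) (θ : G → ℂ) = -(D.ε : ℂ) * (e : ℂ) := by
  classical
  have hsyl := helper20_card_syl_ne' (G := G) (p := p)
  -- independence of `θ`
  have hind : ∀ θ' ∈ D.Y, psum (P : Subgroup G) (θ' : G → ℂ) = psum (P : Subgroup G) (θ : G → ℂ) := by
    intro θ' hθ'
    have h1 := helper20_sing_sum_Y D θ' θ hθ' hθ
    rw [helper20_psing_sum hP hC _ (irr_classFun θ'),
      helper20_psing_sum hP hC _ (irr_classFun θ)] at h1
    exact mul_left_cancel₀ hsyl h1
  -- the total
  have htot : ∑ θ' ∈ D.Y, psum (P : Subgroup G) (θ' : G → ℂ) = -(D.ε : ℂ) * ((p : ℂ) - 1) := by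
    rw [← helper20_psum_sum]
    rw [helper20_psum_congr (P : Subgroup G) (g := fun _ => -(D.ε : ℂ))
      (fun x hx hx1 => orth_Y_gen D x hx hx1)]
    rw [helper20_psum_const, hP]
    ring
  rw [Finset.sum_congr rfl hind, Finset.sum_const, nsmul_eq_mul, ← helper20_cardY_mul D] at htot
  have hY := helper20_cardY_ne D
  have h5 : (D.Y.card : ℂ) * psum (P : Subgroup G) (θ : G → ℂ) =
      (D.Y.card : ℂ) * (-(D.ε : ℂ) * (e : ℂ)) := by
    linear_combination htot
  exact mul_left_cancel₀ hY h5

/-- `S(θ θ̄) = e (p - e)`. -/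
theorem helper20_psum_Y_gen2 (hP : Nat.card P = p)
    (hC : Subgroup.centralizer ((P : Subgroup G) : Set G) = (P : Subgroup G))
    (hN : Nat.card (Subgroup.normalizer ((P : Subgroup G) : Set G)) = e * p)
    (D : Data G p P e) (θ : IrrCharacter G)
    (hθ : θ ∈ D.Y) :
    psum (P : Subgroup G) (fun g => (θ : G → ℂ) g * conj ((θ : G → ℂ) g)) =
      (e : ℂ) * ((p : ℂ) - (e : ℂ)) := by
  classical
  have hsyl := helper20_card_syl_ne' (G := G) (p := p)
  have hN0 : (Nat.card G : ℂ) ≠ 0 := card_ne_zero_complex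
  -- `Σ_g θ conj θ' = |G| [θ = θ']`
  have hinner : ∀ ψ ψ' : IrrCharacter G,
      ∑ g : G, (ψ : G → ℂ) g * conj ((ψ' : G → ℂ) g) = if ψ = ψ' then (Nat.card G : ℂ) else 0 := by
    intro ψ ψ'
    have h := irr_classInner ψ ψ'
    unfold classInner at h
    have h2 : ∑ g : G, (ψ : G → ℂ) g * conj ((ψ' : G → ℂ) g) =
        (Nat.card G : ℂ) * (if ψ = ψ' then (1 : ℂ) else 0) := by
      rw [← h, ← mul_assoc, mul_inv_cancel₀ hN0, one_mul]
    rw [h2]
    split_ifs <;> simp
  -- the difference for `θ' ≠ θ`
  have hdiff : ∀ θ' ∈ D.Y, θ' ≠ θ →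
      psum (P : Subgroup G) (fun g => (θ : G → ℂ) g * conj ((θ : G → ℂ) g)) -
        psum (P : Subgroup G) (fun g => (θ : G → ℂ) g * conj ((θ' : G → ℂ) g)) =
        (e : ℂ) * (p : ℂ) := by
    intro θ' hθ' hne
    have h1 := hinner θ θ
    have h2 := hinner θ θ'
    rw [if_pos rfl] at h1
    rw [if_neg (Ne.symm hne)] at h2
    have h3 : ∑ g : G, ((θ : G → ℂ) g * conj ((θ : G → ℂ) g) -
        (θ : G → ℂ) g * conj ((θ' : G → ℂ) g)) = (Nat.card G : ℂ) := by
      rw [Finset.sum_sub_distrib, h1, h2, sub_zero]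
    rw [helper20_sum_sing (p := p)] at h3
    · have hcf : IsClassFunction G (fun g => (θ : G → ℂ) g * conj ((θ : G → ℂ) g) -
          (θ : G → ℂ) g * conj ((θ' : G → ℂ) g)) := by
        intro g h
        simp only [irr_classFun θ g h, irr_classFun θ' g h]
      rw [helper20_psing_sum hP hC _ hcf, helper20_card_G' hN,
        helper20_psum_sub] at h3
      exact mul_left_cancel₀ hsyl h3
    · intro g hg
      rw [D.agree θ' hθ' θ hθ g hg, sub_self]
  -- the sum over `θ'`
  have hsum : ∑ θ' ∈ D.Y, psum (P : Subgroup G) (fun g => (θ : G → ℂ) g * conj ((θ' : G → ℂ) g))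
      = (e : ℂ) := by
    rw [← helper20_psum_sum]
    have h1 : psum (P : Subgroup G) (fun g => ∑ θ' ∈ D.Y, (θ : G → ℂ) g * conj ((θ' : G → ℂ) g))
        = psum (P : Subgroup G) (fun g => -(D.ε : ℂ) * (θ : G → ℂ) g) := by
      apply helper20_psum_congr
      intro x hx hx1
      rw [← Finset.mul_sum, ← map_sum, orth_Y_gen D x hx hx1]
      simp only [map_neg, map_intCast]
      ring
    rw [h1, helper20_psum_mul_left, helper20_psum_Y_gen1 hP hC D θ hθ]
    rcases D.ε_sq with h | h <;> rw [h] <;> push_cast <;> ring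
  -- total
  have htot : ∑ θ' ∈ D.Y, (psum (P : Subgroup G) (fun g => (θ : G → ℂ) g * conj ((θ : G → ℂ) g)) -
        psum (P : Subgroup G) (fun g => (θ : G → ℂ) g * conj ((θ' : G → ℂ) g))) =
      ((D.Y.card : ℂ) - 1) * ((e : ℂ) * (p : ℂ)) := by
    rw [← Finset.add_sum_erase _ _ hθ, sub_self, zero_add]
    rw [Finset.sum_congr rfl (fun θ' hθ' => hdiff θ' (Finset.mem_of_mem_erase hθ')
      (Finset.ne_of_mem_erase hθ'))]
    rw [Finset.sum_const, nsmul_eq_mul, Finset.card_erase_of_mem hθ,
      Nat.cast_sub (Finset.card_pos.mpr ⟨θ, hθ⟩)]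
    simp
  rw [Finset.sum_sub_distrib, hsum, Finset.sum_const, nsmul_eq_mul] at htot
  have hY := helper20_cardY_ne D
  have hYe := helper20_cardY_mul D
  have h5 : (D.Y.card : ℂ) * psum (P : Subgroup G) (fun g => (θ : G → ℂ) g * conj ((θ : G → ℂ) g))
      = (D.Y.card : ℂ) * ((e : ℂ) * ((p : ℂ) - (e : ℂ))) := by
    linear_combination htot + (e : ℂ) * hYe
  exact mul_left_cancel₀ hY h5

/-- PSUM : `S(θ) = -ε e` and `S(θ θ̄) = e (p - e)` for `θ ∈ Y`. -/
theorem psum_Y_gen (hP : Nat.card P = p)
    (hC : Subgroup.centralizer ((P : Subgroup G) : Set G) = (P : Subgroup G))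
    (hN : Nat.card (Subgroup.normalizer ((P : Subgroup G) : Set G)) = e * p)
    (D : Data G p P e) (θ : IrrCharacter G) (hθ : θ ∈ D.Y) :
    psum (P : Subgroup G) (θ : G → ℂ) = -(D.ε : ℂ) * (e : ℂ) ∧
    psum (P : Subgroup G) (fun g => (θ : G → ℂ) g * conj ((θ : G → ℂ) g)) =
      (e : ℂ) * ((p : ℂ) - (e : ℂ)) :=
  ⟨helper20_psum_Y_gen1 hP hC D θ hθ, helper20_psum_Y_gen2 hP hC hN D θ hθ⟩

end Cfsg.Agent.Lib.helper20.BT
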