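import Mathlib
import Cfsg.Prelude.Def_Blocks
import Cfsg.Agent.Lib.helper20.Basic

/-!
# The induced function `Cfsg.indFun` (helper20): class function, Frobenius reciprocity
-/

set_option autoImplicit false

namespace Cfsg.Agent.Lib.helper20

open Cfsg
open scoped ComplexConjugate

variable {G : Type*} [Group G]

open scoped Classical in
/-- Extension by zero as a sum over the subgroup. -/
theorem extendByZero_eq_sum' (H : Subgroup G) [Fintype H] (ξ : H → ℂ)
    (y : G) : Cfsg.extendByZero H ξ y = ∑ h : H, if (h : G) = y then ξ h else 0 := by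
  unfold Cfsg.extendByZero
  by_cases hy : y ∈ H
  · have h1 : Function.extend (Subtype.val : H → G) ξ 0 ((⟨y, hy⟩ : H) : G) = ξ ⟨y, hy⟩ :=
      Subtype.val_injective.extend_apply ξ 0 ⟨y, hy⟩
    rw [show y = ((⟨y, hy⟩ : H) : G) from rfl, h1]
    rw [Finset.sum_eq_single (⟨y, hy⟩ : H)]
    · simp
    · intro b _ hb
      rw [if_neg]
      intro hb'
      exact hb (Subtype.ext hb')
    · intro h; exact absurd (Finset.mem_univ _) h
  · rw [Function.extend_apply']
    · symm
      apply Finset.sum_eq_zero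
      intro h _
      rw [if_neg]
      · intro hh; exact hy (hh ▸ h.2)
    · rintro ⟨h, rfl⟩; exact hy h.2

/-- Summing the extension by zero against a function. -/
theorem sum_extendByZero_mul [Fintype G] (H : Subgroup G) [Fintype H] (ξ : H → ℂ) (F : G → ℂ) :
    ∑ y : G, Cfsg.extendByZero H ξ y * F y = ∑ h : H, ξ h * F h := by
  classical
  simp_rw [extendByZero_eq_sum', Finset.sum_mul]
  rw [Finset.sum_comm]
  apply Finset.sum_congr rfl
  intro h _
  simp_rw [ite_mul, zero_mul]
  rw [Finset.sum_ite_eq]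
  simp

/-- The induced function is a class function. -/
theorem indFun_conj [Fintype G] (H : Subgroup G) (ξ : H → ℂ) (x y : G) (hxy : IsConj x y) :
    Cfsg.indFun H ξ x = Cfsg.indFun H ξ y := by
  obtain ⟨c, rfl⟩ := isConj_iff.mp hxy
  unfold Cfsg.indFun
  congr 1
  rw [← Equiv.sum_comp (Equiv.mulLeft c)
    (fun t => Cfsg.extendByZero H ξ (t⁻¹ * (c * x * c⁻¹) * t))]
  apply Finset.sum_congr rfl
  intro t _
  congr 1
  simp only [Equiv.coe_mulLeft]
  group

theorem isClassFunction_indFun [Fintype G] (H : Subgroup G) (ξ : H → ℂ) :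
    IsClassFunction G (Cfsg.indFun H ξ) := by
  intro g h
  exact (indFun_conj H ξ g (h * g * h⁻¹) (isConj_iff.mpr ⟨h, rfl⟩)).symm

/-- Frobenius reciprocity, in unnormalised form. -/
theorem sum_indFun_mul [Fintype G] (H : Subgroup G) [Fintype H] (ξ : H → ℂ) (F : G → ℂ)
    (hF : ∀ x y : G, IsConj x y → F x = F y) :
    ∑ g : G, Cfsg.indFun H ξ g * F g
      = (Nat.card H : ℂ)⁻¹ * ((Nat.card G : ℂ) * ∑ h : H, ξ h * F h) := by
  unfold Cfsg.indFun
  have hre : ∀ g : G, ((Nat.card H : ℂ)⁻¹ * ∑ x : G, Cfsg.extendByZero H ξ (x⁻¹ * g * x)) * F g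
      = (Nat.card H : ℂ)⁻¹ * ∑ x : G, Cfsg.extendByZero H ξ (x⁻¹ * g * x) * F g := by
    intro g
    rw [mul_assoc, Finset.sum_mul]
  simp_rw [hre]
  rw [← Finset.mul_sum, Finset.sum_comm]
  congr 1
  have key : ∀ x : G, ∑ g : G, Cfsg.extendByZero H ξ (x⁻¹ * g * x) * F g
      = ∑ h : H, ξ h * F h := by
    intro x
    rw [← sum_extendByZero_mul H ξ F]
    rw [← Equiv.sum_comp (MulAut.conj x).toEquiv
      (fun g => Cfsg.extendByZero H ξ (x⁻¹ * g * x) * F g)]
    apply Finset.sum_congr rfl
    intro g _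
    have h1 : x⁻¹ * ((MulAut.conj x).toEquiv g) * x = g := by
      simp [MulAut.conj_apply, mul_assoc]
    have h2 : F ((MulAut.conj x).toEquiv g) = F g := by
      apply (hF _ _ _).symm
      rw [isConj_iff]
      exact ⟨x, by simp [MulAut.conj_apply]⟩
    rw [h1, h2]
  simp_rw [key]
  rw [Finset.sum_const, Finset.card_univ, nsmul_eq_mul, Nat.card_eq_fintype_card]

/-- Frobenius reciprocity for `classInner`. -/
theorem classInner_indFun [Fintype G] (H : Subgroup G) [Fintype H] (ξ : H → ℂ) (χ : G → ℂ)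
    (hχ : ∀ x y : G, IsConj x y → χ x = χ y) :
    classInner (Cfsg.indFun H ξ) χ = classInner ξ (fun h : H => χ h) := by
  unfold classInner
  rw [sum_indFun_mul H ξ (fun g => conj (χ g)) (fun x y hxy => by rw [hχ x y hxy])]
  have hG : (Nat.card G : ℂ) ≠ 0 := by exact_mod_cast Nat.card_pos.ne'
  field_simp

/-- Swapping the arguments of `classInner` conjugates. -/
theorem classInner_conj_symm' {K : Type*} [Group K] [Fintype K] (φ ψ : K → ℂ) :
    classInner ψ φ = conj (classInner φ ψ) := by
  unfold classInner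
  rw [map_mul, map_sum, map_inv₀, Complex.conj_natCast]
  congr 1
  apply Finset.sum_congr rfl
  intro g _
  rw [map_mul, Complex.conj_conj, mul_comm]

end Cfsg.Agent.Lib.helper20
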