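import Cfsg.Agent.Lib.helper20.BGFieldMain

/-!
S5977 / S5978: final assembly lemmas (helper20) in the shapes exported by the blocks:
block [A] (helper59): `HA`, `HSQ`; block [B] (helper96): `fe_main_plus` / `fe_main_minus` (`HB`);
block [C] (helper2): `qfc_plus` / `qfc_minus` (`HC`), or `h20_hc_plus` / `h20_hc_minus` below from `HCI`.
-/

set_option autoImplicit false
open scoped MatrixGroups

namespace Cfsg.Agent.Lib.helper20.BG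

/-- Generic final assembly. -/
theorem h20_bg_asm {F : Type*} [Field F] {ι : Type} [Fintype ι] [DecidableEq ι]
    {p : ℕ} (Q : (ι → F) → F) (K : Subalgebra F (Matrix ι ι F)) (r : ℕ) [Fact r.Prime] (good : Prop)
    (HA : r = 2 → ∀ x ∈ Cfsg.Geo.omegaGL Q,
      (∃ z : F, ((x ^ r : GL ι F) : Matrix ι ι F) = z • (1 : Matrix ι ι F)) →
      (∀ z : F, (x : Matrix ι ι F) ≠ z • (1 : Matrix ι ι F)) →
      ∃ g ∈ Cfsg.Geo.omegaGL Q, g⁻¹ * x * g ∈ Cfsg.Geo.subalgebraNormalizer K)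
    (HSQ : ∀ x ∈ Cfsg.isometryGroup F Q, x * x ∈ Cfsg.Geo.omegaGL Q)
    (HB : r ≠ 2 → (r = p ∨ (r ≠ p ∧ good)) →
      ∃ x : GL ι F, x ∈ Cfsg.isometryGroup F Q ∧ x ^ r = 1 ∧
        ∀ g ∈ Cfsg.isometryGroup F Q, g⁻¹ * x * g ∉ Cfsg.Geo.subalgebraNormalizer K)
    (HC : r ≠ 2 → r ≠ p → good) :
    (∀ x ∈ Cfsg.Geo.omegaGL Q,
      (∃ z : F, ((x ^ r : GL ι F) : Matrix ι ι F) = z • (1 : Matrix ι ι F)) →
      (∀ z : F, (x : Matrix ι ι F) ≠ z • (1 : Matrix ι ι F)) →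
      ∃ g ∈ Cfsg.Geo.omegaGL Q, g⁻¹ * x * g ∈ Cfsg.Geo.subalgebraNormalizer K) ↔ r = 2 := by
  classical
  have hr : r.Prime := Fact.out
  have hle : Cfsg.Geo.omegaGL Q ≤ Cfsg.isometryGroup F Q := Subgroup.map_subtype_le _
  constructor
  · intro hL
    by_contra hr2
    have hcase : r = p ∨ (r ≠ p ∧ good) := by
      by_cases hrp : r = p
      · exact Or.inl hrp
      · exact Or.inr ⟨hrp, HC hr2 hrp⟩
    obtain ⟨x, hx, hxr, hder⟩ := HB hr2 hcase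
    have hxΩ : x ∈ Cfsg.Geo.omegaGL Q := by
      obtain ⟨k, hk⟩ := hr.odd_of_ne_two hr2
      have h1 : x = (x * x) ^ (k + 1) := by
        rw [← pow_two, ← pow_mul]
        have h2 : 2 * (k + 1) = r + 1 := by omega
        rw [h2, pow_succ, hxr, one_mul]
      rw [h1]
      exact Subgroup.pow_mem _ (HSQ x hx) _
    have hsc : ∃ z : F, ((x ^ r : GL ι F) : Matrix ι ι F) = z • (1 : Matrix ι ι F) :=
      ⟨1, by rw [hxr]; simp⟩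
    have hns : ∀ z : F, (x : Matrix ι ι F) ≠ z • (1 : Matrix ι ι F) := by
      intro z hz
      apply hder 1 (Subgroup.one_mem _)
      rw [inv_one, one_mul, mul_one]
      change ∀ k : Matrix ι ι F, k ∈ K ↔
        (x : Matrix ι ι F) * k * ((x⁻¹ : GL ι F) : Matrix ι ι F) ∈ K
      intro k
      have h3 : (x : Matrix ι ι F) * k * ((x⁻¹ : GL ι F) : Matrix ι ι F) = k := by
        have h4 : (x : Matrix ι ι F) * k = k * (x : Matrix ι ι F) := by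
          rw [hz]; simp
        rw [h4, Units.mul_inv_cancel_right]
      rw [h3]
    obtain ⟨g, hg, hgN⟩ := hL x hxΩ hsc hns
    exact hder g (hle hg) hgN
  · exact HA

/-- Final assembly of S5977 from the exports `fe_main_plus` (HB) and `qfc_plus` (HC). -/
theorem h20_s5977_asm {F : Type*} [Field F] [Fintype F] {p : ℕ} (d : ℕ) (hd : 4 ≤ d)
    (K : Subalgebra F (Matrix (Fin d ⊕ Fin d) (Fin d ⊕ Fin d) F)) (r : ℕ) [Fact r.Prime]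
    (HA : r = 2 → ∀ x ∈ Cfsg.Geo.omegaGL (Cfsg.quadFormPlus d F),
      (∃ z : F, ((x ^ r : GL (Fin d ⊕ Fin d) F) : Matrix (Fin d ⊕ Fin d) (Fin d ⊕ Fin d) F) = z • (1 : Matrix (Fin d ⊕ Fin d) (Fin d ⊕ Fin d) F)) →
      (∀ z : F, (x : Matrix (Fin d ⊕ Fin d) (Fin d ⊕ Fin d) F) ≠ z • (1 : Matrix (Fin d ⊕ Fin d) (Fin d ⊕ Fin d) F)) →
      ∃ g ∈ Cfsg.Geo.omegaGL (Cfsg.quadFormPlus d F), g⁻¹ * x * g ∈ Cfsg.Geo.subalgebraNormalizer K)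
    (HSQ : ∀ x ∈ Cfsg.isometryGroup F (Cfsg.quadFormPlus d F),
      x * x ∈ Cfsg.Geo.omegaGL (Cfsg.quadFormPlus d F))
    (HB : r ≠ 2 → (r = p ∨ (r ≠ p ∧ ((Odd (orderOf ((Fintype.card F : ℕ) : ZMod r)) ∧
          orderOf ((Fintype.card F : ℕ) : ZMod r) ≤ d) ∨
        (orderOf ((Fintype.card F : ℕ) : ZMod r) % 4 = 2 ∧
          orderOf ((Fintype.card F : ℕ) : ZMod r) + 2 ≤ 2 * d)))) →
      ∃ x : GL (Fin d ⊕ Fin d) F, x ∈ Cfsg.isometryGroup F (Cfsg.quadFormPlus d F) ∧ x ^ r = 1 ∧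
        ∀ g ∈ Cfsg.isometryGroup F (Cfsg.quadFormPlus d F),
          g⁻¹ * x * g ∉ Cfsg.Geo.subalgebraNormalizer K)
    (HC : r ≠ 2 → r ≠ p → (Odd (orderOf ((Fintype.card F : ℕ) : ZMod r)) ∧
          orderOf ((Fintype.card F : ℕ) : ZMod r) ≤ d) ∨
        (orderOf ((Fintype.card F : ℕ) : ZMod r) % 4 = 2 ∧
          orderOf ((Fintype.card F : ℕ) : ZMod r) ≤ 2 * d - 2)) :
    (∀ x ∈ Cfsg.Geo.omegaGL (Cfsg.quadFormPlus d F), (∃ z : F, ((x ^ r : GL (Fin d ⊕ Fin d) F) : Matrix (Fin d ⊕ Fin d) (Fin d ⊕ Fin d) F) = z • (1 : Matrix (Fin d ⊕ Fin d) (Fin d ⊕ Fin d) F)) →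
      (∀ z : F, (x : Matrix (Fin d ⊕ Fin d) (Fin d ⊕ Fin d) F) ≠ z • (1 : Matrix (Fin d ⊕ Fin d) (Fin d ⊕ Fin d) F)) →
      ∃ g ∈ Cfsg.Geo.omegaGL (Cfsg.quadFormPlus d F), g⁻¹ * x * g ∈ Cfsg.Geo.subalgebraNormalizer K) ↔ r = 2 :=
  h20_bg_asm (p := p) (Cfsg.quadFormPlus d F) K r _ HA HSQ HB (fun hr2 hrp => by
    rcases HC hr2 hrp with h | h
    · exact Or.inl h
    · exact Or.inr ⟨h.1, by omega⟩)

/-- Final assembly of S5978 from the exports `fe_main_minus` (HB, with `m = d - 1`) and `qfc_minus` (HC). -/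
theorem h20_s5978_asm {F : Type*} [Field F] [Fintype F] {p : ℕ} (d : ℕ) (hd : 4 ≤ d) (a b : F)
    (K : Subalgebra F (Matrix ((Fin (d - 1) ⊕ Fin (d - 1)) ⊕ Fin 2) ((Fin (d - 1) ⊕ Fin (d - 1)) ⊕ Fin 2) F))
    (r : ℕ) [Fact r.Prime]
    (HA : r = 2 → ∀ x ∈ Cfsg.Geo.omegaGL (Cfsg.quadFormMinus (d - 1) F a b),
      (∃ z : F, ((x ^ r : GL ((Fin (d - 1) ⊕ Fin (d - 1)) ⊕ Fin 2) F) : Matrix ((Fin (d - 1) ⊕ Fin (d - 1)) ⊕ Fin 2) ((Fin (d - 1) ⊕ Fin (d - 1)) ⊕ Fin 2) F) = z • (1 : Matrix ((Fin (d - 1) ⊕ Fin (d - 1)) ⊕ Fin 2) ((Fin (d - 1) ⊕ Fin (d - 1)) ⊕ Fin 2) F)) →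
      (∀ z : F, (x : Matrix ((Fin (d - 1) ⊕ Fin (d - 1)) ⊕ Fin 2) ((Fin (d - 1) ⊕ Fin (d - 1)) ⊕ Fin 2) F) ≠ z • (1 : Matrix ((Fin (d - 1) ⊕ Fin (d - 1)) ⊕ Fin 2) ((Fin (d - 1) ⊕ Fin (d - 1)) ⊕ Fin 2) F)) →
      ∃ g ∈ Cfsg.Geo.omegaGL (Cfsg.quadFormMinus (d - 1) F a b), g⁻¹ * x * g ∈ Cfsg.Geo.subalgebraNormalizer K)
    (HSQ : ∀ x ∈ Cfsg.isometryGroup F (Cfsg.quadFormMinus (d - 1) F a b),
      x * x ∈ Cfsg.Geo.omegaGL (Cfsg.quadFormMinus (d - 1) F a b))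
    (HB : r ≠ 2 → (r = p ∨ (r ≠ p ∧ ((Odd (orderOf ((Fintype.card F : ℕ) : ZMod r)) ∧
          orderOf ((Fintype.card F : ℕ) : ZMod r) ≤ d - 1) ∨
        (orderOf ((Fintype.card F : ℕ) : ZMod r) % 4 = 2 ∧
          orderOf ((Fintype.card F : ℕ) : ZMod r) ≤ 2 * (d - 1) + 2)))) →
      ∃ x : GL ((Fin (d - 1) ⊕ Fin (d - 1)) ⊕ Fin 2) F,
        x ∈ Cfsg.isometryGroup F (Cfsg.quadFormMinus (d - 1) F a b) ∧ x ^ r = 1 ∧
        ∀ g ∈ Cfsg.isometryGroup F (Cfsg.quadFormMinus (d - 1) F a b),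
          g⁻¹ * x * g ∉ Cfsg.Geo.subalgebraNormalizer K)
    (HC : r ≠ 2 → r ≠ p → (Odd (orderOf ((Fintype.card F : ℕ) : ZMod r)) ∧
          orderOf ((Fintype.card F : ℕ) : ZMod r) ≤ d - 1) ∨
        (orderOf ((Fintype.card F : ℕ) : ZMod r) % 4 = 2 ∧
          orderOf ((Fintype.card F : ℕ) : ZMod r) ≤ 2 * d)) :
    (∀ x ∈ Cfsg.Geo.omegaGL (Cfsg.quadFormMinus (d - 1) F a b), (∃ z : F, ((x ^ r : GL ((Fin (d - 1) ⊕ Fin (d - 1)) ⊕ Fin 2) F) : Matrix ((Fin (d - 1) ⊕ Fin (d - 1)) ⊕ Fin 2) ((Fin (d - 1) ⊕ Fin (d - 1)) ⊕ Fin 2) F) = z • (1 : Matrix ((Fin (d - 1) ⊕ Fin (d - 1)) ⊕ Fin 2) ((Fin (d - 1) ⊕ Fin (d - 1)) ⊕ Fin 2) F)) →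
      (∀ z : F, (x : Matrix ((Fin (d - 1) ⊕ Fin (d - 1)) ⊕ Fin 2) ((Fin (d - 1) ⊕ Fin (d - 1)) ⊕ Fin 2) F) ≠ z • (1 : Matrix ((Fin (d - 1) ⊕ Fin (d - 1)) ⊕ Fin 2) ((Fin (d - 1) ⊕ Fin (d - 1)) ⊕ Fin 2) F)) →
      ∃ g ∈ Cfsg.Geo.omegaGL (Cfsg.quadFormMinus (d - 1) F a b), g⁻¹ * x * g ∈ Cfsg.Geo.subalgebraNormalizer K) ↔ r = 2 :=
  h20_bg_asm (p := p) (Cfsg.quadFormMinus (d - 1) F a b) K r _ HA HSQ HB (fun hr2 hrp => by
    rcases HC hr2 hrp with h | h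
    · exact Or.inl h
    · exact Or.inr ⟨h.1, by omega⟩)

/-- `HC` for S5977 from `HSQ` and `HCI` (route through `h20_bg_cglue` and `h20_bg_arith_plus`). -/
theorem h20_hc_plus {F : Type*} [Field F] [Fintype F] {p : ℕ} [Fact p.Prime] [CharP F p] (d : ℕ)
    (hd : 4 ≤ d) (K : Subalgebra F (Matrix (Fin d ⊕ Fin d) (Fin d ⊕ Fin d) F)) (r : ℕ) [Fact r.Prime]
    (hΩ : r ∣ (Cfsg.Geo.subalgebraNormalizer K).relIndex (Cfsg.Geo.omegaGL (Cfsg.quadFormPlus d F)))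
    (HSQ : ∀ x ∈ Cfsg.isometryGroup F (Cfsg.quadFormPlus d F),
      x * x ∈ Cfsg.Geo.omegaGL (Cfsg.quadFormPlus d F))
    (HCI : orderOf ((Fintype.card F : ℕ) : ZMod r) % 4 = 0 →
      padicValNat r (Nat.card ↥(Cfsg.isometryGroup F (Cfsg.quadFormPlus d F))) ≤
        padicValNat r (Nat.card ↥(Cfsg.isometryGroup F (Cfsg.quadFormPlus d F) ⊓
          Cfsg.Geo.subalgebraNormalizer K)))
    (hr2 : r ≠ 2) (hrp : r ≠ p) :
    (Odd (orderOf ((Fintype.card F : ℕ) : ZMod r)) ∧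
        orderOf ((Fintype.card F : ℕ) : ZMod r) ≤ d) ∨
      (orderOf ((Fintype.card F : ℕ) : ZMod r) % 4 = 2 ∧
        orderOf ((Fintype.card F : ℕ) : ZMod r) ≤ 2 * d - 2) := by
  classical
  have hr : r.Prime := Fact.out
  have hle : Cfsg.Geo.omegaGL (Cfsg.quadFormPlus d F) ≤ Cfsg.isometryGroup F (Cfsg.quadFormPlus d F) :=
    Subgroup.map_subtype_le _
  by_cases h4 : orderOf ((Fintype.card F : ℕ) : ZMod r) % 4 = 0
  · exact absurd hΩ (h20_bg_cglue _ _ _ hle HSQ r hr2 (HCI h4))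
  · have hdvd : r ∣ Nat.card ↥(Cfsg.isometryGroup F (Cfsg.quadFormPlus d F)) :=
      dvd_trans hΩ (dvd_trans (Subgroup.relIndex_dvd_card _ _) (Subgroup.card_dvd_of_le hle))
    rw [Cfsg.Agent.S0287.result rfl d (by omega)] at hdvd
    rcases h20_bg_arith_plus (Fintype.card F) r d hr hr2 (h20_bg_not_dvd_q rfl r hrp) (by omega) hdvd
      with ⟨ho, hle'⟩ | ⟨he, hle'⟩
    · exact Or.inl ⟨ho, hle'⟩
    · refine Or.inr ⟨?_, hle'⟩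
      obtain ⟨k, hk⟩ := he
      omega

/-- `HC` for S5978 from `HSQ` and `HCI`. -/
theorem h20_hc_minus {F : Type*} [Field F] [Fintype F] {p : ℕ} [Fact p.Prime] [CharP F p] (d : ℕ)
    (hd : 4 ≤ d) (a b : F) (hab : ∀ x y : F, x ^ 2 + a * x * y + b * y ^ 2 = 0 → x = 0 ∧ y = 0)
    (K : Subalgebra F (Matrix ((Fin (d - 1) ⊕ Fin (d - 1)) ⊕ Fin 2) ((Fin (d - 1) ⊕ Fin (d - 1)) ⊕ Fin 2) F))
    (r : ℕ) [Fact r.Prime]
    (hΩ : r ∣ (Cfsg.Geo.subalgebraNormalizer K).relIndex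
      (Cfsg.Geo.omegaGL (Cfsg.quadFormMinus (d - 1) F a b)))
    (HSQ : ∀ x ∈ Cfsg.isometryGroup F (Cfsg.quadFormMinus (d - 1) F a b),
      x * x ∈ Cfsg.Geo.omegaGL (Cfsg.quadFormMinus (d - 1) F a b))
    (HCI : orderOf ((Fintype.card F : ℕ) : ZMod r) % 4 = 0 →
      padicValNat r (Nat.card ↥(Cfsg.isometryGroup F (Cfsg.quadFormMinus (d - 1) F a b))) ≤
        padicValNat r (Nat.card ↥(Cfsg.isometryGroup F (Cfsg.quadFormMinus (d - 1) F a b) ⊓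
          Cfsg.Geo.subalgebraNormalizer K)))
    (hr2 : r ≠ 2) (hrp : r ≠ p) :
    (Odd (orderOf ((Fintype.card F : ℕ) : ZMod r)) ∧
        orderOf ((Fintype.card F : ℕ) : ZMod r) ≤ d - 1) ∨
      (orderOf ((Fintype.card F : ℕ) : ZMod r) % 4 = 2 ∧
        orderOf ((Fintype.card F : ℕ) : ZMod r) ≤ 2 * d) := by
  classical
  have hr : r.Prime := Fact.out
  have hle : Cfsg.Geo.omegaGL (Cfsg.quadFormMinus (d - 1) F a b) ≤
      Cfsg.isometryGroup F (Cfsg.quadFormMinus (d - 1) F a b) := Subgroup.map_subtype_le _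
  by_cases h4 : orderOf ((Fintype.card F : ℕ) : ZMod r) % 4 = 0
  · exact absurd hΩ (h20_bg_cglue _ _ _ hle HSQ r hr2 (HCI h4))
  · have hdvd : r ∣ Nat.card ↥(Cfsg.isometryGroup F (Cfsg.quadFormMinus (d - 1) F a b)) :=
      dvd_trans hΩ (dvd_trans (Subgroup.relIndex_dvd_card _ _) (Subgroup.card_dvd_of_le hle))
    rw [Cfsg.Agent.S0288.result rfl d (by omega) a b hab] at hdvd
    rcases h20_bg_arith_minus (Fintype.card F) r d hr hr2 (h20_bg_not_dvd_q rfl r hrp) (by omega) hdvd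
      with ⟨ho, hle'⟩ | ⟨he, hle'⟩
    · exact Or.inl ⟨ho, hle'⟩
    · refine Or.inr ⟨?_, ?_⟩
      · obtain ⟨k, hk⟩ := he
        omega
      · rcases hle' with h | h <;> omega

end Cfsg.Agent.Lib.helper20.BG
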