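import Mathlib
import Cfsg.Prelude.Def_GeometricClasses
import Cfsg.Agent.S0287
import Cfsg.Agent.S0288

/-!
S5977 / S5978 (orthogonal groups in even dimension, field-extension subgroups of degree 2):
top level of block [C] and the MAIN cores (helper20, co-architect with helper59 / helper96).

* `h20_bg_arith_plus`, `h20_bg_arith_minus`: which orders `i` of `q` modulo `r` allow `r ∣ |O^±_{2d}(q)|`.
* `h20_bg_cglue`: passing from `O` to `Ω` (all squares of `O` lie in `Ω`).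
* `h20_bg_core`, `h20_s5977_core`, `h20_s5978_core`: the frozen statements from interface hypotheses.
-/

set_option autoImplicit false

namespace Cfsg.Agent.Lib.helper20.BG

theorem h20_bg_order_dvd (q r m : ℕ) (hq : 1 ≤ q) (h : r ∣ q ^ m - 1) :
    orderOf (q : ZMod r) ∣ m := by
  apply orderOf_dvd_of_pow_eq_one
  have h1 : ((q ^ m - 1 : ℕ) : ZMod r) = 0 := (ZMod.natCast_eq_zero_iff _ _).mpr h
  have h2 : 1 ≤ q ^ m := Nat.one_le_pow _ _ hq
  have h3 : ((q ^ m : ℕ) : ZMod r) = 1 := by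
    have h4 : q ^ m = (q ^ m - 1) + 1 := by omega
    rw [h4, Nat.cast_add, h1, zero_add, Nat.cast_one]
  rw [← h3, Nat.cast_pow]

theorem h20_bg_prod_case (q r d : ℕ) (hr : r.Prime) (hq : 1 ≤ q)
    (h : r ∣ ∏ j ∈ Finset.range (d - 1), (q ^ (2 * (j + 1)) - 1)) :
    (Odd (orderOf (q : ZMod r)) ∧ orderOf (q : ZMod r) ≤ d - 1) ∨
      (Even (orderOf (q : ZMod r)) ∧ orderOf (q : ZMod r) ≤ 2 * d - 2) := by
  obtain ⟨j, hj, hdj⟩ := (Prime.dvd_finset_prod_iff hr.prime _).mp h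
  rw [Finset.mem_range] at hj
  have h1 := h20_bg_order_dvd q r (2 * (j + 1)) hq hdj
  rcases Nat.even_or_odd (orderOf (q : ZMod r)) with he | ho
  · right
    refine ⟨he, ?_⟩
    have := Nat.le_of_dvd (by omega) h1
    omega
  · left
    refine ⟨ho, ?_⟩
    have hcop : Nat.Coprime (orderOf (q : ZMod r)) 2 := ho.coprime_two_right
    have h2 : orderOf (q : ZMod r) ∣ j + 1 := (Nat.Coprime.dvd_mul_left hcop).mp h1
    have := Nat.le_of_dvd (by omega) h2
    omega

/-- ARITH+ -/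
theorem h20_bg_arith_plus (q r d : ℕ) (hr : r.Prime) (hr2 : r ≠ 2) (hrq : ¬ r ∣ q) (hd : 2 ≤ d)
    (hdiv : r ∣ 2 * q ^ (d * (d - 1)) * (q ^ d - 1) *
      ∏ j ∈ Finset.range (d - 1), (q ^ (2 * (j + 1)) - 1)) :
    (Odd (orderOf (q : ZMod r)) ∧ orderOf (q : ZMod r) ≤ d) ∨
      (Even (orderOf (q : ZMod r)) ∧ orderOf (q : ZMod r) ≤ 2 * d - 2) := by
  have hq : 1 ≤ q := by
    rcases Nat.eq_zero_or_pos q with h0 | h0
    · exact absurd (h0 ▸ dvd_zero r) hrq
    · exact h0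
  rcases (Nat.Prime.dvd_mul hr).mp hdiv with h1 | h1
  · rcases (Nat.Prime.dvd_mul hr).mp h1 with h2 | h2
    · rcases (Nat.Prime.dvd_mul hr).mp h2 with h3 | h3
      · exact absurd ((Nat.prime_dvd_prime_iff_eq hr Nat.prime_two).mp h3) hr2
      · exact absurd (hr.dvd_of_dvd_pow h3) hrq
    · have h3 := h20_bg_order_dvd q r d hq h2
      have h4 := Nat.le_of_dvd (by omega) h3
      rcases Nat.even_or_odd (orderOf (q : ZMod r)) with he | ho
      · right; exact ⟨he, by omega⟩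
      · left; exact ⟨ho, h4⟩
  · rcases h20_bg_prod_case q r d hr hq h1 with ⟨ho, hle⟩ | h2
    · left; exact ⟨ho, by omega⟩
    · right; exact h2

/-- ARITH- -/
theorem h20_bg_arith_minus (q r d : ℕ) (hr : r.Prime) (hr2 : r ≠ 2) (hrq : ¬ r ∣ q) (hd : 2 ≤ d)
    (hdiv : r ∣ 2 * q ^ (d * (d - 1)) * (q ^ d + 1) *
      ∏ j ∈ Finset.range (d - 1), (q ^ (2 * (j + 1)) - 1)) :
    (Odd (orderOf (q : ZMod r)) ∧ orderOf (q : ZMod r) ≤ d - 1) ∨
      (Even (orderOf (q : ZMod r)) ∧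
        (orderOf (q : ZMod r) ≤ 2 * d - 2 ∨ orderOf (q : ZMod r) = 2 * d)) := by
  have hq : 1 ≤ q := by
    rcases Nat.eq_zero_or_pos q with h0 | h0
    · exact absurd (h0 ▸ dvd_zero r) hrq
    · exact h0
  rcases (Nat.Prime.dvd_mul hr).mp hdiv with h1 | h1
  · rcases (Nat.Prime.dvd_mul hr).mp h1 with h2 | h2
    · rcases (Nat.Prime.dvd_mul hr).mp h2 with h3 | h3
      · exact absurd ((Nat.prime_dvd_prime_iff_eq hr Nat.prime_two).mp h3) hr2
      · exact absurd (hr.dvd_of_dvd_pow h3) hrq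
    · -- `r ∣ q ^ d + 1`
      have h3 : ((q ^ d + 1 : ℕ) : ZMod r) = 0 := (ZMod.natCast_eq_zero_iff _ _).mpr h2
      have h4 : (q : ZMod r) ^ d = -1 := by
        rw [Nat.cast_add, Nat.cast_pow, Nat.cast_one] at h3
        exact eq_neg_of_add_eq_zero_left h3
      have h5 : (q : ZMod r) ^ (2 * d) = 1 := by
        rw [mul_comm, pow_mul, h4]; norm_num
      have h6 : orderOf (q : ZMod r) ∣ 2 * d := orderOf_dvd_of_pow_eq_one h5
      have h7 : ¬ orderOf (q : ZMod r) ∣ d := by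
        intro hdv
        have h8 : (q : ZMod r) ^ d = 1 := orderOf_dvd_iff_pow_eq_one.mp hdv
        rw [h4] at h8
        have h9 : ((2 : ℕ) : ZMod r) = 0 := by
          have : (2 : ZMod r) = 1 + 1 := by norm_num
          rw [Nat.cast_ofNat, this]
          nth_rewrite 1 [← h8]
          ring
        have h10 := (ZMod.natCast_eq_zero_iff _ _).mp h9
        exact hr2 ((Nat.prime_dvd_prime_iff_eq hr Nat.prime_two).mp h10)
      rcases Nat.even_or_odd (orderOf (q : ZMod r)) with he | ho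
      · right
        refine ⟨he, ?_⟩
        obtain ⟨k, hk⟩ := h6
        have hi : 0 < orderOf (q : ZMod r) := Nat.pos_of_ne_zero (fun h0 => by
          rw [h0, zero_mul] at hk; omega)
        rcases Nat.lt_or_ge k 2 with hk2 | hk2
        · have hk1 : k = 1 := by
            rcases Nat.eq_zero_or_pos k with h0 | h0
            · rw [h0, mul_zero] at hk; omega
            · omega
          right; rw [hk, hk1, mul_one]
        · left
          have : orderOf (q : ZMod r) * 2 ≤ orderOf (q : ZMod r) * k :=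
            Nat.mul_le_mul_left _ hk2
          omega
      · exfalso
        have hcop : Nat.Coprime (orderOf (q : ZMod r)) 2 := ho.coprime_two_right
        exact h7 ((Nat.Coprime.dvd_mul_left hcop).mp h6)
  · rcases h20_bg_prod_case q r d hr hq h1 with h2 | ⟨he, hle⟩
    · left; exact h2
    · right; exact ⟨he, Or.inl hle⟩

/-- CGLUE: all squares of `O` lie in `Om`, and `O ⊓ N` has full `r`-part (`r` odd), then `r` does
not divide the index of `N ⊓ Om` in `Om`. -/
theorem h20_bg_cglue {G : Type*} [Group G] [Finite G] (O Om N : Subgroup G) (hle : Om ≤ O)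
    (hsq : ∀ x ∈ O, x * x ∈ Om) (r : ℕ) [Fact r.Prime] (hr2 : r ≠ 2)
    (hval : padicValNat r (Nat.card ↥O) ≤ padicValNat r (Nat.card ↥(O ⊓ N))) :
    ¬ r ∣ N.relIndex Om := by
  classical
  have hr : r.Prime := Fact.out
  have hodd : ∀ y ∈ O, Odd (orderOf y) → y ∈ Om := by
    intro y hy ⟨k, hk⟩
    have h1 : y = (y * y) ^ (k + 1) := by
      rw [← pow_two, ← pow_mul]
      have h2 : 2 * (k + 1) = orderOf y + 1 := by omega
      rw [h2, pow_succ, pow_orderOf_eq_one, one_mul]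
    rw [h1]
    exact Subgroup.pow_mem _ (hsq y hy) _
  obtain ⟨P⟩ : Nonempty (Sylow r ↥(O ⊓ N)) := inferInstance
  have hPc := P.card_eq_multiplicity
  have hS : (P : Subgroup ↥(O ⊓ N)).map (O ⊓ N).subtype ≤ N ⊓ Om := by
    rintro _ ⟨y, hy, rfl⟩
    refine Subgroup.mem_inf.mpr ⟨(Subgroup.mem_inf.mp y.2).2, ?_⟩
    apply hodd _ (Subgroup.mem_inf.mp y.2).1
    obtain ⟨k, hk⟩ := P.isPGroup' ⟨y, hy⟩
    have hk' : ((y : ↥(O ⊓ N)) : G) ^ (r ^ k) = 1 := by
      have := congrArg (fun z : ↥(P : Subgroup ↥(O ⊓ N)) => ((z : ↥(O ⊓ N)) : G)) hk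
      simpa using this
    have h3 : orderOf ((y : ↥(O ⊓ N)) : G) ∣ r ^ k := orderOf_dvd_of_pow_eq_one hk'
    exact Odd.of_dvd_nat ((hr.odd_of_ne_two hr2).pow) h3
  have hSc : Nat.card ↥((P : Subgroup ↥(O ⊓ N)).map (O ⊓ N).subtype) = Nat.card ↥(P : Subgroup ↥(O ⊓ N)) :=
    Subgroup.card_map_of_injective (Subgroup.subtype_injective _)
  have h4 : r ^ padicValNat r (Nat.card ↥(O ⊓ N)) ∣ Nat.card ↥(N ⊓ Om) := by
    have h5 := Subgroup.card_dvd_of_le hS
    rw [hSc, hPc, Nat.factorization_def _ hr] at h5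
    exact h5
  have h6 : Nat.card ↥(N ⊓ Om) * N.relIndex Om = Nat.card ↥Om := by
    have h7 := Subgroup.relIndex_mul_relIndex (H := (⊥ : Subgroup G)) (K := N ⊓ Om) (L := Om)
      bot_le inf_le_right
    rw [Subgroup.relIndex_bot_left, Subgroup.relIndex_bot_left, Subgroup.inf_relIndex_right] at h7
    exact h7
  intro hdvd
  have hOm0 : Nat.card ↥Om ≠ 0 := Nat.card_pos.ne'
  have hO0 : Nat.card ↥O ≠ 0 := Nat.card_pos.ne'
  have h8 : r ^ (padicValNat r (Nat.card ↥(O ⊓ N)) + 1) ∣ Nat.card ↥Om := by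
    rw [← h6, pow_succ]
    exact mul_dvd_mul h4 hdvd
  have h9 := (padicValNat_dvd_iff_le hOm0).mp h8
  have h10 : padicValNat r (Nat.card ↥Om) ≤ padicValNat r (Nat.card ↥O) := by
    apply (padicValNat_dvd_iff_le hO0).mp
    exact dvd_trans pow_padicValNat_dvd (Subgroup.card_dvd_of_le hle)
  omega

end Cfsg.Agent.Lib.helper20.BG
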