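import Cfsg.Agent.Lib.helper20.BGFieldCore

/-!
S5977 / S5978: the MAIN cores (helper20).  The frozen statements follow from the interface
hypotheses `HA`, `HSQ` (block [A]), `HBp`, `HBa`, `HBb` (block [B]) and `HCI` (block [C-I]).
-/

set_option autoImplicit false
open scoped MatrixGroups

namespace Cfsg.Agent.Lib.helper20.BG

/-- Generic core. -/
theorem h20_bg_core {F : Type*} [Field F] [Fintype F] {ι : Type} [Fintype ι] [DecidableEq ι]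
    {p : ℕ} {q : ℕ} (Q : (ι → F) → F) (K : Subalgebra F (Matrix ι ι F)) (r : ℕ) [Fact r.Prime]
    (hΩ : r ∣ (Cfsg.Geo.subalgebraNormalizer K).relIndex (Cfsg.Geo.omegaGL Q))
    (HA : r = 2 → ∀ x ∈ Cfsg.Geo.omegaGL Q,
      (∃ z : F, ((x ^ r : GL ι F) : Matrix ι ι F) = z • (1 : Matrix ι ι F)) →
      (∀ z : F, (x : Matrix ι ι F) ≠ z • (1 : Matrix ι ι F)) →
      ∃ g ∈ Cfsg.Geo.omegaGL Q, g⁻¹ * x * g ∈ Cfsg.Geo.subalgebraNormalizer K)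
    (HSQ : ∀ x ∈ Cfsg.isometryGroup F Q, x * x ∈ Cfsg.Geo.omegaGL Q)
    (HBp : r = p → ∃ x ∈ Cfsg.Geo.omegaGL Q,
      (∃ z : F, ((x ^ r : GL ι F) : Matrix ι ι F) = z • (1 : Matrix ι ι F)) ∧
      (∀ z : F, (x : Matrix ι ι F) ≠ z • (1 : Matrix ι ι F)) ∧
      ∀ g ∈ Cfsg.Geo.omegaGL Q, g⁻¹ * x * g ∉ Cfsg.Geo.subalgebraNormalizer K)
    (Hgood : r ≠ p → r ≠ 2 → orderOf (q : ZMod r) % 4 ≠ 0 → ∃ x ∈ Cfsg.Geo.omegaGL Q,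
      (∃ z : F, ((x ^ r : GL ι F) : Matrix ι ι F) = z • (1 : Matrix ι ι F)) ∧
      (∀ z : F, (x : Matrix ι ι F) ≠ z • (1 : Matrix ι ι F)) ∧
      ∀ g ∈ Cfsg.Geo.omegaGL Q, g⁻¹ * x * g ∉ Cfsg.Geo.subalgebraNormalizer K)
    (HCI : r ≠ p → r ≠ 2 → orderOf (q : ZMod r) % 4 = 0 →
      padicValNat r (Nat.card ↥(Cfsg.isometryGroup F Q)) ≤
        padicValNat r (Nat.card ↥(Cfsg.isometryGroup F Q ⊓ Cfsg.Geo.subalgebraNormalizer K))) :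
    (∀ x ∈ Cfsg.Geo.omegaGL Q,
      (∃ z : F, ((x ^ r : GL ι F) : Matrix ι ι F) = z • (1 : Matrix ι ι F)) →
      (∀ z : F, (x : Matrix ι ι F) ≠ z • (1 : Matrix ι ι F)) →
      ∃ g ∈ Cfsg.Geo.omegaGL Q, g⁻¹ * x * g ∈ Cfsg.Geo.subalgebraNormalizer K) ↔ r = 2 := by
  classical
  have hle : Cfsg.Geo.omegaGL Q ≤ Cfsg.isometryGroup F Q := Subgroup.map_subtype_le _
  constructor
  · intro hL
    by_contra hr2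
    have hder : ∃ x ∈ Cfsg.Geo.omegaGL Q,
        (∃ z : F, ((x ^ r : GL ι F) : Matrix ι ι F) = z • (1 : Matrix ι ι F)) ∧
        (∀ z : F, (x : Matrix ι ι F) ≠ z • (1 : Matrix ι ι F)) ∧
        ∀ g ∈ Cfsg.Geo.omegaGL Q, g⁻¹ * x * g ∉ Cfsg.Geo.subalgebraNormalizer K := by
      by_cases hrp : r = p
      · exact HBp hrp
      · by_cases h4 : orderOf (q : ZMod r) % 4 = 0
        · exfalso
          exact h20_bg_cglue (Cfsg.isometryGroup F Q) (Cfsg.Geo.omegaGL Q)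
            (Cfsg.Geo.subalgebraNormalizer K) hle HSQ r hr2 (HCI hrp hr2 h4) hΩ
        · exact Hgood hrp hr2 h4
    obtain ⟨x, hx, hz, hns, hd⟩ := hder
    obtain ⟨g, hg, hgN⟩ := hL x hx hz hns
    exact hd g hg hgN
  · intro h2
    exact HA h2

theorem h20_bg_not_dvd_q {F : Type*} [Field F] [Fintype F] {p : ℕ} [Fact p.Prime] [CharP F p]
    {q : ℕ} (hq : Fintype.card F = q) (r : ℕ) [Fact r.Prime] (hrp : r ≠ p) : ¬ r ∣ q := by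
  intro h
  obtain ⟨n, hp, hn⟩ := FiniteField.card F p
  rw [← hq, hn] at h
  have hr : r.Prime := Fact.out
  exact hrp ((Nat.prime_dvd_prime_iff_eq hr hp).mp (hr.dvd_of_dvd_pow h))

/-- MAIN core of S5977 (plus type). -/
theorem h20_s5977_core {F : Type*} [Field F] [Fintype F] {p : ℕ} [Fact p.Prime] [CharP F p] {q : ℕ}
    (hq : Fintype.card F = q) (d : ℕ) (hd : 4 ≤ d)
    (K : Subalgebra F (Matrix (Fin d ⊕ Fin d) (Fin d ⊕ Fin d) F))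
    (r : ℕ) [Fact r.Prime]
    (hΩ : r ∣ (Cfsg.Geo.subalgebraNormalizer K).relIndex (Cfsg.Geo.omegaGL (Cfsg.quadFormPlus d F)))
    (HA : r = 2 → ∀ x ∈ Cfsg.Geo.omegaGL (Cfsg.quadFormPlus d F),
      (∃ z : F, ((x ^ r : GL (Fin d ⊕ Fin d) F) : Matrix (Fin d ⊕ Fin d) (Fin d ⊕ Fin d) F) = z • (1 : Matrix (Fin d ⊕ Fin d) (Fin d ⊕ Fin d) F)) →
      (∀ z : F, (x : Matrix (Fin d ⊕ Fin d) (Fin d ⊕ Fin d) F) ≠ z • (1 : Matrix (Fin d ⊕ Fin d) (Fin d ⊕ Fin d) F)) →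
      ∃ g ∈ Cfsg.Geo.omegaGL (Cfsg.quadFormPlus d F), g⁻¹ * x * g ∈ Cfsg.Geo.subalgebraNormalizer K)
    (HSQ : ∀ x ∈ Cfsg.isometryGroup F (Cfsg.quadFormPlus d F), x * x ∈ Cfsg.Geo.omegaGL (Cfsg.quadFormPlus d F))
    (HBp : r = p → ∃ x ∈ Cfsg.Geo.omegaGL (Cfsg.quadFormPlus d F),
      (∃ z : F, ((x ^ r : GL (Fin d ⊕ Fin d) F) : Matrix (Fin d ⊕ Fin d) (Fin d ⊕ Fin d) F) = z • (1 : Matrix (Fin d ⊕ Fin d) (Fin d ⊕ Fin d) F)) ∧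
      (∀ z : F, (x : Matrix (Fin d ⊕ Fin d) (Fin d ⊕ Fin d) F) ≠ z • (1 : Matrix (Fin d ⊕ Fin d) (Fin d ⊕ Fin d) F)) ∧
      ∀ g ∈ Cfsg.Geo.omegaGL (Cfsg.quadFormPlus d F), g⁻¹ * x * g ∉ Cfsg.Geo.subalgebraNormalizer K)
    (HBa : r ≠ p → r ≠ 2 → Odd (orderOf (q : ZMod r)) → orderOf (q : ZMod r) ≤ d →
      ∃ x ∈ Cfsg.Geo.omegaGL (Cfsg.quadFormPlus d F),
      (∃ z : F, ((x ^ r : GL (Fin d ⊕ Fin d) F) : Matrix (Fin d ⊕ Fin d) (Fin d ⊕ Fin d) F) = z • (1 : Matrix (Fin d ⊕ Fin d) (Fin d ⊕ Fin d) F)) ∧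
      (∀ z : F, (x : Matrix (Fin d ⊕ Fin d) (Fin d ⊕ Fin d) F) ≠ z • (1 : Matrix (Fin d ⊕ Fin d) (Fin d ⊕ Fin d) F)) ∧
      ∀ g ∈ Cfsg.Geo.omegaGL (Cfsg.quadFormPlus d F), g⁻¹ * x * g ∉ Cfsg.Geo.subalgebraNormalizer K)
    (HBb : r ≠ p → r ≠ 2 → orderOf (q : ZMod r) % 4 = 2 → orderOf (q : ZMod r) ≤ 2 * d - 2 →
      ∃ x ∈ Cfsg.Geo.omegaGL (Cfsg.quadFormPlus d F),
      (∃ z : F, ((x ^ r : GL (Fin d ⊕ Fin d) F) : Matrix (Fin d ⊕ Fin d) (Fin d ⊕ Fin d) F) = z • (1 : Matrix (Fin d ⊕ Fin d) (Fin d ⊕ Fin d) F)) ∧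
      (∀ z : F, (x : Matrix (Fin d ⊕ Fin d) (Fin d ⊕ Fin d) F) ≠ z • (1 : Matrix (Fin d ⊕ Fin d) (Fin d ⊕ Fin d) F)) ∧
      ∀ g ∈ Cfsg.Geo.omegaGL (Cfsg.quadFormPlus d F), g⁻¹ * x * g ∉ Cfsg.Geo.subalgebraNormalizer K)
    (HCI : r ≠ p → r ≠ 2 → orderOf (q : ZMod r) % 4 = 0 →
      padicValNat r (Nat.card ↥(Cfsg.isometryGroup F (Cfsg.quadFormPlus d F))) ≤
        padicValNat r (Nat.card ↥(Cfsg.isometryGroup F (Cfsg.quadFormPlus d F) ⊓ Cfsg.Geo.subalgebraNormalizer K))) :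
    (∀ x ∈ Cfsg.Geo.omegaGL (Cfsg.quadFormPlus d F), (∃ z : F, ((x ^ r : GL (Fin d ⊕ Fin d) F) : Matrix (Fin d ⊕ Fin d) (Fin d ⊕ Fin d) F) = z • (1 : Matrix (Fin d ⊕ Fin d) (Fin d ⊕ Fin d) F)) →
      (∀ z : F, (x : Matrix (Fin d ⊕ Fin d) (Fin d ⊕ Fin d) F) ≠ z • (1 : Matrix (Fin d ⊕ Fin d) (Fin d ⊕ Fin d) F)) →
      ∃ g ∈ Cfsg.Geo.omegaGL (Cfsg.quadFormPlus d F), g⁻¹ * x * g ∈ Cfsg.Geo.subalgebraNormalizer K) ↔ r = 2 := by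
  classical
  have hr : r.Prime := Fact.out
  refine h20_bg_core (p := p) (q := q) (Cfsg.quadFormPlus d F) K r hΩ HA HSQ HBp ?_ HCI
  intro hrp hr2 h4
  have hle : Cfsg.Geo.omegaGL (Cfsg.quadFormPlus d F) ≤ Cfsg.isometryGroup F (Cfsg.quadFormPlus d F) :=
    Subgroup.map_subtype_le _
  have hdvd : r ∣ Nat.card ↥(Cfsg.isometryGroup F (Cfsg.quadFormPlus d F)) :=
    dvd_trans hΩ (dvd_trans (Subgroup.relIndex_dvd_card _ _) (Subgroup.card_dvd_of_le hle))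
  rw [Cfsg.Agent.S0287.result hq d (by omega)] at hdvd
  rcases h20_bg_arith_plus q r d hr hr2 (h20_bg_not_dvd_q hq r hrp) (by omega) hdvd with
    ⟨ho, hle'⟩ | ⟨he, hle'⟩
  · exact HBa hrp hr2 ho hle'
  · refine HBb hrp hr2 ?_ hle'
    obtain ⟨k, hk⟩ := he
    omega

/-- MAIN core of S5978 (minus type). -/
theorem h20_s5978_core {F : Type*} [Field F] [Fintype F] {p : ℕ} [Fact p.Prime] [CharP F p] {q : ℕ}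
    (hq : Fintype.card F = q) (d : ℕ) (hd : 4 ≤ d) (a b : F)
    (hab : ∀ x y : F, x ^ 2 + a * x * y + b * y ^ 2 = 0 → x = 0 ∧ y = 0)
    (K : Subalgebra F (Matrix ((Fin (d - 1) ⊕ Fin (d - 1)) ⊕ Fin 2) ((Fin (d - 1) ⊕ Fin (d - 1)) ⊕ Fin 2) F))
    (r : ℕ) [Fact r.Prime]
    (hΩ : r ∣ (Cfsg.Geo.subalgebraNormalizer K).relIndex (Cfsg.Geo.omegaGL (Cfsg.quadFormMinus (d - 1) F a b)))
    (HA : r = 2 → ∀ x ∈ Cfsg.Geo.omegaGL (Cfsg.quadFormMinus (d - 1) F a b),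
      (∃ z : F, ((x ^ r : GL ((Fin (d - 1) ⊕ Fin (d - 1)) ⊕ Fin 2) F) : Matrix ((Fin (d - 1) ⊕ Fin (d - 1)) ⊕ Fin 2) ((Fin (d - 1) ⊕ Fin (d - 1)) ⊕ Fin 2) F) = z • (1 : Matrix ((Fin (d - 1) ⊕ Fin (d - 1)) ⊕ Fin 2) ((Fin (d - 1) ⊕ Fin (d - 1)) ⊕ Fin 2) F)) →
      (∀ z : F, (x : Matrix ((Fin (d - 1) ⊕ Fin (d - 1)) ⊕ Fin 2) ((Fin (d - 1) ⊕ Fin (d - 1)) ⊕ Fin 2) F) ≠ z • (1 : Matrix ((Fin (d - 1) ⊕ Fin (d - 1)) ⊕ Fin 2) ((Fin (d - 1) ⊕ Fin (d - 1)) ⊕ Fin 2) F)) →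
      ∃ g ∈ Cfsg.Geo.omegaGL (Cfsg.quadFormMinus (d - 1) F a b), g⁻¹ * x * g ∈ Cfsg.Geo.subalgebraNormalizer K)
    (HSQ : ∀ x ∈ Cfsg.isometryGroup F (Cfsg.quadFormMinus (d - 1) F a b), x * x ∈ Cfsg.Geo.omegaGL (Cfsg.quadFormMinus (d - 1) F a b))
    (HBp : r = p → ∃ x ∈ Cfsg.Geo.omegaGL (Cfsg.quadFormMinus (d - 1) F a b),
      (∃ z : F, ((x ^ r : GL ((Fin (d - 1) ⊕ Fin (d - 1)) ⊕ Fin 2) F) : Matrix ((Fin (d - 1) ⊕ Fin (d - 1)) ⊕ Fin 2) ((Fin (d - 1) ⊕ Fin (d - 1)) ⊕ Fin 2) F) = z • (1 : Matrix ((Fin (d - 1) ⊕ Fin (d - 1)) ⊕ Fin 2) ((Fin (d - 1) ⊕ Fin (d - 1)) ⊕ Fin 2) F)) ∧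
      (∀ z : F, (x : Matrix ((Fin (d - 1) ⊕ Fin (d - 1)) ⊕ Fin 2) ((Fin (d - 1) ⊕ Fin (d - 1)) ⊕ Fin 2) F) ≠ z • (1 : Matrix ((Fin (d - 1) ⊕ Fin (d - 1)) ⊕ Fin 2) ((Fin (d - 1) ⊕ Fin (d - 1)) ⊕ Fin 2) F)) ∧
      ∀ g ∈ Cfsg.Geo.omegaGL (Cfsg.quadFormMinus (d - 1) F a b), g⁻¹ * x * g ∉ Cfsg.Geo.subalgebraNormalizer K)
    (HBa : r ≠ p → r ≠ 2 → Odd (orderOf (q : ZMod r)) → orderOf (q : ZMod r) ≤ d - 1 →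
      ∃ x ∈ Cfsg.Geo.omegaGL (Cfsg.quadFormMinus (d - 1) F a b),
      (∃ z : F, ((x ^ r : GL ((Fin (d - 1) ⊕ Fin (d - 1)) ⊕ Fin 2) F) : Matrix ((Fin (d - 1) ⊕ Fin (d - 1)) ⊕ Fin 2) ((Fin (d - 1) ⊕ Fin (d - 1)) ⊕ Fin 2) F) = z • (1 : Matrix ((Fin (d - 1) ⊕ Fin (d - 1)) ⊕ Fin 2) ((Fin (d - 1) ⊕ Fin (d - 1)) ⊕ Fin 2) F)) ∧
      (∀ z : F, (x : Matrix ((Fin (d - 1) ⊕ Fin (d - 1)) ⊕ Fin 2) ((Fin (d - 1) ⊕ Fin (d - 1)) ⊕ Fin 2) F) ≠ z • (1 : Matrix ((Fin (d - 1) ⊕ Fin (d - 1)) ⊕ Fin 2) ((Fin (d - 1) ⊕ Fin (d - 1)) ⊕ Fin 2) F)) ∧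
      ∀ g ∈ Cfsg.Geo.omegaGL (Cfsg.quadFormMinus (d - 1) F a b), g⁻¹ * x * g ∉ Cfsg.Geo.subalgebraNormalizer K)
    (HBb : r ≠ p → r ≠ 2 → orderOf (q : ZMod r) % 4 = 2 →
      (orderOf (q : ZMod r) ≤ 2 * d - 2 ∨ orderOf (q : ZMod r) = 2 * d) →
      ∃ x ∈ Cfsg.Geo.omegaGL (Cfsg.quadFormMinus (d - 1) F a b),
      (∃ z : F, ((x ^ r : GL ((Fin (d - 1) ⊕ Fin (d - 1)) ⊕ Fin 2) F) : Matrix ((Fin (d - 1) ⊕ Fin (d - 1)) ⊕ Fin 2) ((Fin (d - 1) ⊕ Fin (d - 1)) ⊕ Fin 2) F) = z • (1 : Matrix ((Fin (d - 1) ⊕ Fin (d - 1)) ⊕ Fin 2) ((Fin (d - 1) ⊕ Fin (d - 1)) ⊕ Fin 2) F)) ∧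
      (∀ z : F, (x : Matrix ((Fin (d - 1) ⊕ Fin (d - 1)) ⊕ Fin 2) ((Fin (d - 1) ⊕ Fin (d - 1)) ⊕ Fin 2) F) ≠ z • (1 : Matrix ((Fin (d - 1) ⊕ Fin (d - 1)) ⊕ Fin 2) ((Fin (d - 1) ⊕ Fin (d - 1)) ⊕ Fin 2) F)) ∧
      ∀ g ∈ Cfsg.Geo.omegaGL (Cfsg.quadFormMinus (d - 1) F a b), g⁻¹ * x * g ∉ Cfsg.Geo.subalgebraNormalizer K)
    (HCI : r ≠ p → r ≠ 2 → orderOf (q : ZMod r) % 4 = 0 →
      padicValNat r (Nat.card ↥(Cfsg.isometryGroup F (Cfsg.quadFormMinus (d - 1) F a b))) ≤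
        padicValNat r (Nat.card ↥(Cfsg.isometryGroup F (Cfsg.quadFormMinus (d - 1) F a b) ⊓ Cfsg.Geo.subalgebraNormalizer K))) :
    (∀ x ∈ Cfsg.Geo.omegaGL (Cfsg.quadFormMinus (d - 1) F a b), (∃ z : F, ((x ^ r : GL ((Fin (d - 1) ⊕ Fin (d - 1)) ⊕ Fin 2) F) : Matrix ((Fin (d - 1) ⊕ Fin (d - 1)) ⊕ Fin 2) ((Fin (d - 1) ⊕ Fin (d - 1)) ⊕ Fin 2) F) = z • (1 : Matrix ((Fin (d - 1) ⊕ Fin (d - 1)) ⊕ Fin 2) ((Fin (d - 1) ⊕ Fin (d - 1)) ⊕ Fin 2) F)) →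
      (∀ z : F, (x : Matrix ((Fin (d - 1) ⊕ Fin (d - 1)) ⊕ Fin 2) ((Fin (d - 1) ⊕ Fin (d - 1)) ⊕ Fin 2) F) ≠ z • (1 : Matrix ((Fin (d - 1) ⊕ Fin (d - 1)) ⊕ Fin 2) ((Fin (d - 1) ⊕ Fin (d - 1)) ⊕ Fin 2) F)) →
      ∃ g ∈ Cfsg.Geo.omegaGL (Cfsg.quadFormMinus (d - 1) F a b), g⁻¹ * x * g ∈ Cfsg.Geo.subalgebraNormalizer K) ↔ r = 2 := by
  classical
  have hr : r.Prime := Fact.out
  refine h20_bg_core (p := p) (q := q) (Cfsg.quadFormMinus (d - 1) F a b) K r hΩ HA HSQ HBp ?_ HCI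
  intro hrp hr2 h4
  have hle : Cfsg.Geo.omegaGL (Cfsg.quadFormMinus (d - 1) F a b) ≤
      Cfsg.isometryGroup F (Cfsg.quadFormMinus (d - 1) F a b) := Subgroup.map_subtype_le _
  have hdvd : r ∣ Nat.card ↥(Cfsg.isometryGroup F (Cfsg.quadFormMinus (d - 1) F a b)) :=
    dvd_trans hΩ (dvd_trans (Subgroup.relIndex_dvd_card _ _) (Subgroup.card_dvd_of_le hle))
  rw [Cfsg.Agent.S0288.result hq d (by omega) a b hab] at hdvd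
  rcases h20_bg_arith_minus q r d hr hr2 (h20_bg_not_dvd_q hq r hrp) (by omega) hdvd with
    ⟨ho, hle'⟩ | ⟨he, hle'⟩
  · exact HBa hrp hr2 ho hle'
  · refine HBb hrp hr2 ?_ hle'
    obtain ⟨k, hk⟩ := he
    omega

end Cfsg.Agent.Lib.helper20.BG
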