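import Mathlib

/-!
# Integer arithmetic for the Brauer--Leonard theorem with `|N_G(P) : C_G(P)| = 3` (helper20)
-/

set_option autoImplicit false

namespace Cfsg.Agent.Lib.helper20

/-- If `1 + x₂ + x₃ + x₄ = 0`, `1 + w₂ + w₃ + w₄ = 0` and `∑ wᵢ² / xᵢ = 0` (`x₁ = w₁ = 1`),
with `w ≠ x`, then `x₂ x₃ x₄` is a perfect square. -/
theorem bl3_square_key (x₂ x₃ x₄ w₂ w₃ w₄ : ℤ) (hx₂ : x₂ ≠ 0) (hx₄ : x₄ ≠ 0)
    (hx : 1 + x₂ + x₃ + x₄ = 0) (hw : 1 + w₂ + w₃ + w₄ = 0)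
    (hS : x₂ * x₃ * x₄ + w₂ ^ 2 * x₃ * x₄ + w₃ ^ 2 * x₂ * x₄ + w₄ ^ 2 * x₂ * x₃ = 0)
    (hne : w₂ ≠ x₂) : ∃ s : ℤ, x₂ * x₃ * x₄ = s ^ 2 := by
  obtain ⟨D₁, hD₁⟩ : ∃ D₁ : ℤ, D₁ = x₄ - w₄ := ⟨_, rfl⟩
  obtain ⟨D₂, hD₂⟩ : ∃ D₂ : ℤ, D₂ = w₂ * x₄ - w₄ * x₂ := ⟨_, rfl⟩
  have hx₄' : x₄ = -1 - x₂ - x₃ := by linarith
  have hw₄' : w₄ = -1 - w₂ - w₃ := by linarith
  have hkey : (x₂ * (x₃ + 1) * D₁ + x₂ * D₂) ^ 2 = x₂ * x₃ * x₄ * D₂ ^ 2 := by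
    rw [hD₁, hD₂]
    rw [hx₄', hw₄'] at hS ⊢
    linear_combination (x₂ * (x₃ + 1) * (-1 - x₂ - x₃)) * hS
  by_cases hD : D₂ = 0
  · rw [hD] at hkey
    have h1 : x₂ * (x₃ + 1) * D₁ = 0 := by
      have h0 : (x₂ * (x₃ + 1) * D₁) ^ 2 = 0 := by linear_combination hkey
      exact pow_eq_zero_iff (two_ne_zero) |>.mp h0
    rcases mul_eq_zero.mp h1 with h2 | h2
    · rcases mul_eq_zero.mp h2 with h3 | h3
      · exact absurd h3 hx₂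
      · refine ⟨x₂, ?_⟩
        have h4 : x₃ = -1 := by linarith
        have h5 : x₄ = -x₂ := by linarith
        rw [h4, h5]; ring
    · exfalso
      have h4 : (w₂ - x₂) * x₄ = 0 := by
        have h5 : D₂ = (w₂ - x₂) * x₄ + x₂ * D₁ := by rw [hD₁, hD₂]; ring
        rw [hD, h2] at h5; linarith
      rcases mul_eq_zero.mp h4 with h5 | h5
      · exact hne (by linarith)
      · exact hx₄ h5
  · have hdvd : D₂ ^ 2 ∣ (x₂ * (x₃ + 1) * D₁ + x₂ * D₂) ^ 2 :=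
      ⟨x₂ * x₃ * x₄, by rw [hkey]; ring⟩
    have hdvd' : D₂ ∣ x₂ * (x₃ + 1) * D₁ + x₂ * D₂ :=
      (Int.pow_dvd_pow_iff (two_ne_zero)).mp hdvd
    obtain ⟨s, hs⟩ := hdvd'
    refine ⟨s, ?_⟩
    have h6 : D₂ ^ 2 * (x₂ * x₃ * x₄) = D₂ ^ 2 * s ^ 2 := by
      rw [hs] at hkey; linear_combination -hkey
    exact mul_left_cancel₀ (pow_ne_zero 2 hD) h6

/-- The arithmetic endgame for odd `p`. -/
theorem bl3_int_endgame (a₂ a₃ δ : ℤ) (n₂ n₃ n₄ : ℕ) (v₂ v₃ v₄ : ℤ)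
    (ha₂ : a₂ = 1 ∨ a₂ = -1) (ha₃ : a₃ = 1 ∨ a₃ = -1) (hδ : δ = 1 ∨ δ = -1)
    (hn₂ : 0 < n₂) (hn₃ : 0 < n₃) (hn₄ : 0 < n₄)
    (E1 : 1 + a₂ * n₂ + a₃ * n₃ - δ * n₄ = 0)
    (E2 : 1 + a₂ * v₂ + a₃ * v₃ - δ * v₄ = 0)
    (E3 : (1 : ℚ) + a₂ * v₂ ^ 2 / n₂ + a₃ * v₃ ^ 2 / n₃ - δ * v₄ ^ 2 / n₄ = 0)
    (hk : v₂ ≠ n₂) :
    ((if a₂ = -1 then 1 else 0) + (if a₃ = -1 then 1 else 0) + (if δ = 1 then 1 else 0) = 2)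
      ∧ IsSquare (n₄ * (n₂ * n₃)) := by
  have h2 : (n₂ : ℚ) ≠ 0 := by exact_mod_cast hn₂.ne'
  have h3 : (n₃ : ℚ) ≠ 0 := by exact_mod_cast hn₃.ne'
  have h4 : (n₄ : ℚ) ≠ 0 := by exact_mod_cast hn₄.ne'
  have E3' : (n₂ : ℤ) * n₃ * n₄ + a₂ * v₂ ^ 2 * n₃ * n₄ + a₃ * v₃ ^ 2 * n₂ * n₄
      - δ * v₄ ^ 2 * n₂ * n₃ = 0 := by
    have h5 : ((n₂ : ℚ) * n₃ * n₄ + a₂ * v₂ ^ 2 * n₃ * n₄ + a₃ * v₃ ^ 2 * n₂ * n₄
        - δ * v₄ ^ 2 * n₂ * n₃) = 0 := by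
      have h6 := congrArg (fun q : ℚ => q * (n₂ * n₃ * n₄)) E3
      simp only [zero_mul] at h6
      rw [← h6]
      field_simp
    exact_mod_cast h5
  have hS : (a₂ * n₂) * (a₃ * n₃) * (-δ * n₄) + (a₂ * v₂) ^ 2 * (a₃ * n₃) * (-δ * n₄)
      + (a₃ * v₃) ^ 2 * (a₂ * n₂) * (-δ * n₄) + (-δ * v₄) ^ 2 * (a₂ * n₂) * (a₃ * n₃) = 0 := by
    linear_combination (-a₂ * a₃ * δ) * E3'
  have ha₂0 : a₂ ≠ 0 := by rcases ha₂ with h | h <;> rw [h] <;> norm_num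
  have hδ0 : δ ≠ 0 := by rcases hδ with h | h <;> rw [h] <;> norm_num
  have hn₂' : (n₂ : ℤ) ≠ 0 := by exact_mod_cast hn₂.ne'
  have hn₄' : (n₄ : ℤ) ≠ 0 := by exact_mod_cast hn₄.ne'
  obtain ⟨s, hs⟩ := bl3_square_key (a₂ * n₂) (a₃ * n₃) (-δ * n₄) (a₂ * v₂) (a₃ * v₃) (-δ * v₄)
    (mul_ne_zero ha₂0 hn₂') (mul_ne_zero (neg_ne_zero.mpr hδ0) hn₄') (by linarith) (by linarith)
    hS (fun h => hk (mul_left_cancel₀ ha₂0 h))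
  have hpos : (0 : ℤ) < n₂ * n₃ * n₄ := by positivity
  have hs2 : 0 ≤ s ^ 2 := sq_nonneg s
  have hsq : ∀ N : ℕ, (N : ℤ) = s ^ 2 → IsSquare N := by
    intro N hN
    refine ⟨s.natAbs, ?_⟩
    have h7 : ((N : ℕ) : ℤ) = ((s.natAbs * s.natAbs : ℕ) : ℤ) := by
      rw [Nat.cast_mul, Int.natAbs_mul_self', hN]; ring
    exact_mod_cast h7
  rcases ha₂ with rfl | rfl <;> rcases ha₃ with rfl | rfl <;> rcases hδ with rfl | rfl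
  all_goals first
    | (exfalso; linarith)
    | (refine ⟨by decide, hsq _ ?_⟩
       push_cast
       linarith)

/-- The arithmetic endgame for `p = 2`. -/
theorem bl3_two_key (x₂ x₃ x₄ : ℤ) (hx : 1 + x₂ + x₃ + x₄ = 0)
    (hS : x₂ * x₃ * x₄ + x₃ * x₄ + x₂ * x₄ + 9 * x₂ * x₃ = 0)
    (h₂ : (16 : ℤ) ∣ x₂ - 1) (h₃ : (16 : ℤ) ∣ x₃ - 1) : x₂ = 1 := by
  have hx₄ : x₄ = -1 - x₂ - x₃ := by linarith
  rw [hx₄] at hS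
  obtain ⟨k₂, hk₂⟩ := h₂
  obtain ⟨k₃, hk₃⟩ := h₃
  obtain ⟨k, hk⟩ : ∃ k : ℤ, k = k₂ + k₃ := ⟨_, rfl⟩
  have he : x₂ + x₃ - 8 = 16 * k - 6 := by rw [hk]; linarith
  have h72 : (x₂ + x₃ - 8) * (-(x₂ * x₃) - (x₂ + x₃ - 8) - 17) = 72 := by
    linear_combination hS
  rw [he] at h72
  have hdvd : (16 * k - 6) ∣ 72 := ⟨_, h72.symm⟩
  have hk0 : k = 0 := by
    have hle := Int.le_of_dvd (by norm_num) hdvd
    have hle' : -(16 * k - 6) ≤ 72 := Int.le_of_dvd (by norm_num) ((neg_dvd).mpr hdvd)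
    have hk1 : -4 ≤ k := by omega
    have hk2 : k ≤ 4 := by omega
    interval_cases k <;> first | rfl | (exfalso; norm_num at hdvd)
  rw [hk0] at h72 he
  have hs : x₂ + x₃ = 2 := by linarith
  have hq : x₂ * x₃ = 1 := by linarith
  have h0 : (x₂ - 1) ^ 2 = 0 := by
    have hx₃ : x₃ = 2 - x₂ := by linarith
    rw [hx₃] at hq
    linear_combination -hq
  have h1 : x₂ - 1 = 0 := pow_eq_zero_iff (two_ne_zero) |>.mp h0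
  linarith

/-- The norm equation `(d - ε)² + (r - 1) d² + S = 4`. -/
theorem bl3_norm_cases (d ε r S : ℤ) (hε : ε = 1 ∨ ε = -1) (hr : 2 ≤ r) (hS : 1 ≤ S)
    (h : (d - ε) ^ 2 + (r - 1) * d ^ 2 + S = 4) :
    (d = 0 ∧ S = 3) ∨ (d = ε ∧ r - 1 + S = 4) := by
  have h1 : 0 ≤ (r - 2) * d ^ 2 := mul_nonneg (by linarith) (sq_nonneg d)
  have h2 : d ^ 2 ≤ 3 := by nlinarith [sq_nonneg (d - ε)]
  have hd1 : d ≤ 1 := by nlinarith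
  have hd2 : -1 ≤ d := by nlinarith
  rcases hε with rfl | rfl <;> interval_cases d
  all_goals (try norm_num at h)
  all_goals first
    | (left; exact ⟨rfl, by linarith⟩)
    | (right; exact ⟨rfl, by linarith⟩)
    | (exfalso; linarith)

theorem bl3_sum_sq_le_three {ι : Type*} (X : Finset ι) (a : ι → ℤ) (hne : ∀ χ ∈ X, a χ ≠ 0)
    (hS : ∑ χ ∈ X, a χ ^ 2 ≤ 3) :
    (∀ χ ∈ X, a χ = 1 ∨ a χ = -1) ∧ (X.card : ℤ) = ∑ χ ∈ X, a χ ^ 2 := by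
  have h1 : ∀ χ ∈ X, a χ = 1 ∨ a χ = -1 := by
    intro χ hχ
    have h2 : a χ ^ 2 ≤ ∑ χ ∈ X, a χ ^ 2 :=
      Finset.single_le_sum (fun i _ => sq_nonneg (a i)) hχ
    have h3 : a χ ^ 2 ≤ 3 := le_trans h2 hS
    have h4 : a χ ≤ 1 := by nlinarith
    have h5 : -1 ≤ a χ := by nlinarith
    have h6 := hne χ hχ
    omega
  refine ⟨h1, ?_⟩
  have h7 : ∀ χ ∈ X, a χ ^ 2 = 1 := by
    intro χ hχ
    rcases h1 χ hχ with h | h <;> rw [h] <;> norm_num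
  rw [Finset.sum_congr rfl h7]
  simp

theorem bl3_prime_pow_ne_ten (p k : ℕ) (hp : p.Prime) : p ^ k ≠ 10 := by
  intro h
  have h2 : 2 ∣ p ^ k := by rw [h]; norm_num
  have h5 : 5 ∣ p ^ k := by rw [h]; norm_num
  have e2 := (Nat.prime_dvd_prime_iff_eq Nat.prime_two hp).mp
    (Nat.Prime.dvd_of_dvd_pow Nat.prime_two h2)
  have e5 := (Nat.prime_dvd_prime_iff_eq Nat.prime_five hp).mp
    (Nat.Prime.dvd_of_dvd_pow Nat.prime_five h5)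
  omega

theorem bl3_two_pow_ne_seven (k : ℕ) : 2 ^ k ≠ 7 := by
  intro h
  rcases Nat.eq_zero_or_pos k with hk | hk
  · rw [hk] at h; norm_num at h
  · have h2 : 2 ∣ 7 := by rw [← h]; exact dvd_pow_self 2 hk.ne'
    omega

end Cfsg.Agent.Lib.helper20
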