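import Mathlib
import Cfsg.Agent.Lib.helper81.BlRel

/-!
# Group theory for the Brauer--Leonard theorem with `|N_G(P) : C_G(P)| = 3` (helper20)

`P` is an abelian Sylow `p`-subgroup, `N = N_G(P)`, `C = C_G(P)`, `|N : C| = 3` and
`C_G(y) ∩ N = C` for `y ∈ P^#`.

* `bl3_sq_mem`, `bl3_cube_mem`, `bl3_trichotomy`: the quotient `N / C` has order `3`;
* `bl3_prod_orbit`: `w · w^n · w^{n²} = 1` for `w ∈ P`, `n ∈ N \ C`;
* `bl3_not_inverted`: an element of `P` inverted by an element of `G` is an involution or trivial;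
* `bl3_H_odd`, `bl3_H_two`: no power of exponent prime to `p` of a suitable `w ∈ P` is conjugate
  to the same power of a product of two conjugates of an involution `t`.
-/

set_option autoImplicit false

namespace Cfsg.Agent.Lib.helper20

open Cfsg Cfsg.Agent.Lib.helper81

universe u

theorem bl3_order_three {Q : Type*} [Group Q] (hQ : Nat.card Q = 3) (q q' : Q) (hq : q ≠ 1) :
    q' = 1 ∨ q' = q ∨ q' = q * q := by
  haveI : Fact (Nat.Prime 3) := ⟨Nat.prime_three⟩
  obtain ⟨k, hk⟩ := mem_powers_of_prime_card hQ (g' := q') hq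
  have hq3 : q ^ 3 = 1 := by rw [← hQ]; exact pow_card_eq_one'
  have h : q' = q ^ (k % 3) := by
    rw [← hk]
    show q ^ k = q ^ (k % 3)
    conv_lhs => rw [← Nat.div_add_mod k 3, pow_add, pow_mul, hq3, one_pow, one_mul]
  have hlt : k % 3 < 3 := Nat.mod_lt _ (by norm_num)
  interval_cases hk3 : k % 3
  · left; simpa using h
  · right; left; simpa using h
  · right; right; rw [h, pow_two]

section

variable {G : Type u} [Group G]

theorem bl3_card_quot (P : Subgroup G)
    (hCN : (Subgroup.centralizer (P : Set G)).relIndex (Subgroup.normalizer (P : Set G)) = 3) :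
    Nat.card (Subgroup.normalizer (P : Set G) ⧸
      (Subgroup.centralizer (P : Set G)).subgroupOf (Subgroup.normalizer (P : Set G))) = 3 := by
  rw [← Subgroup.index_eq_card]
  exact hCN

theorem bl3_exists_not_mem (P : Subgroup G)
    (hCN : (Subgroup.centralizer (P : Set G)).relIndex (Subgroup.normalizer (P : Set G)) = 3) :
    ∃ n ∈ Subgroup.normalizer (P : Set G), n ∉ Subgroup.centralizer (P : Set G) := by
  by_contra h
  push Not at h
  have h1 : Subgroup.normalizer (P : Set G) ≤ Subgroup.centralizer (P : Set G) := fun n hn => h n hn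
  rw [Subgroup.relIndex_eq_one.mpr h1] at hCN
  exact absurd hCN (by norm_num)

theorem bl3_cube_mem (P : Subgroup G)
    (hCN : (Subgroup.centralizer (P : Set G)).relIndex (Subgroup.normalizer (P : Set G)) = 3)
    {n : G} (hn : n ∈ Subgroup.normalizer (P : Set G)) :
    n * n * n ∈ Subgroup.centralizer (P : Set G) := by
  have hcard := bl3_card_quot P hCN
  have hq3 : (QuotientGroup.mk (⟨n, hn⟩ : Subgroup.normalizer (P : Set G)) :
      Subgroup.normalizer (P : Set G) ⧸
        (Subgroup.centralizer (P : Set G)).subgroupOf (Subgroup.normalizer (P : Set G))) ^ 3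
      = 1 := by
    rw [← hcard]; exact pow_card_eq_one'
  rw [← QuotientGroup.mk_pow, QuotientGroup.eq_one_iff, Subgroup.mem_subgroupOf] at hq3
  have h1 : (((⟨n, hn⟩ : Subgroup.normalizer (P : Set G)) ^ 3 :
      Subgroup.normalizer (P : Set G)) : G) = n * n * n := by
    rw [Subgroup.coe_pow]
    show n ^ 3 = n * n * n
    rw [pow_succ, pow_two]
  rwa [h1] at hq3

theorem bl3_sq_mem (P : Subgroup G)
    (hCN : (Subgroup.centralizer (P : Set G)).relIndex (Subgroup.normalizer (P : Set G)) = 3)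
    {n : G} (hn : n ∈ Subgroup.normalizer (P : Set G))
    (h : n * n ∈ Subgroup.centralizer (P : Set G)) :
    n ∈ Subgroup.centralizer (P : Set G) := by
  have h3 := bl3_cube_mem P hCN hn
  have h4 : n = (n * n * n) * (n * n)⁻¹ := by group
  rw [h4]
  exact Subgroup.mul_mem _ h3 (Subgroup.inv_mem _ h)

theorem bl3_trichotomy (P : Subgroup G)
    (hCN : (Subgroup.centralizer (P : Set G)).relIndex (Subgroup.normalizer (P : Set G)) = 3)
    {n n' : G} (hn : n ∈ Subgroup.normalizer (P : Set G))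
    (hnC : n ∉ Subgroup.centralizer (P : Set G)) (hn' : n' ∈ Subgroup.normalizer (P : Set G)) :
    n' ∈ Subgroup.centralizer (P : Set G) ∨ n⁻¹ * n' ∈ Subgroup.centralizer (P : Set G) ∨
      n⁻¹ * n⁻¹ * n' ∈ Subgroup.centralizer (P : Set G) := by
  have hcard := bl3_card_quot P hCN
  have hq : (QuotientGroup.mk (⟨n, hn⟩ : Subgroup.normalizer (P : Set G)) :
      Subgroup.normalizer (P : Set G) ⧸
        (Subgroup.centralizer (P : Set G)).subgroupOf (Subgroup.normalizer (P : Set G))) ≠ 1 := by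
    rw [Ne, QuotientGroup.eq_one_iff, Subgroup.mem_subgroupOf]; exact hnC
  rcases bl3_order_three hcard _
    (QuotientGroup.mk (⟨n', hn'⟩ : Subgroup.normalizer (P : Set G))) hq with h | h | h
  · left
    rw [QuotientGroup.eq_one_iff, Subgroup.mem_subgroupOf] at h
    exact h
  · right; left
    have h1 := QuotientGroup.eq.mp h.symm
    rw [Subgroup.mem_subgroupOf] at h1
    exact h1
  · right; right
    rw [← QuotientGroup.mk_mul] at h
    have h1 := QuotientGroup.eq.mp h.symm
    rw [Subgroup.mem_subgroupOf] at h1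
    have h2 : ((((⟨n, hn⟩ : Subgroup.normalizer (P : Set G)) * ⟨n, hn⟩)⁻¹ * ⟨n', hn'⟩ :
        Subgroup.normalizer (P : Set G)) : G) = n⁻¹ * n⁻¹ * n' := by
      show (n * n)⁻¹ * n' = n⁻¹ * n⁻¹ * n'
      group
    rwa [h2] at h1

theorem bl3_prod_orbit (P : Subgroup G) (hab : ∀ a b : P, a * b = b * a)
    (hCN : (Subgroup.centralizer (P : Set G)).relIndex (Subgroup.normalizer (P : Set G)) = 3)
    (hfree : ∀ n ∈ Subgroup.normalizer (P : Set G), n ∉ Subgroup.centralizer (P : Set G) →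
      ∀ w : P, n * (w : G) = (w : G) * n → w = 1)
    {n : G} (hn : n ∈ Subgroup.normalizer (P : Set G))
    (hnC : n ∉ Subgroup.centralizer (P : Set G)) {w : G} (hw : w ∈ P) :
    w * (n * w * n⁻¹) * (n * (n * w * n⁻¹) * n⁻¹) = 1 := by
  have h3 := bl3_cube_mem P hCN hn
  have hw1 : n * w * n⁻¹ ∈ P := (Subgroup.mem_normalizer_iff.mp hn w).mp hw
  have hw2 : n * (n * w * n⁻¹) * n⁻¹ ∈ P := (Subgroup.mem_normalizer_iff.mp hn _).mp hw1
  have hw3 : n * (n * (n * w * n⁻¹) * n⁻¹) * n⁻¹ = w := by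
    have h4 := Subgroup.mem_centralizer_iff.mp h3 w hw
    calc n * (n * (n * w * n⁻¹) * n⁻¹) * n⁻¹ = (n * n * n) * w * (n * n * n)⁻¹ := by group
      _ = w * (n * n * n) * (n * n * n)⁻¹ := by rw [h4]
      _ = w := by group
  obtain ⟨v, hv⟩ : ∃ v : G, v = w * (n * w * n⁻¹) * (n * (n * w * n⁻¹) * n⁻¹) := ⟨_, rfl⟩
  have hvP : v ∈ P := by rw [hv]; exact P.mul_mem (P.mul_mem hw hw1) hw2
  have hcomm : n * v = v * n := by
    have h1 : n * v * n⁻¹ = (n * w * n⁻¹) * (n * (n * w * n⁻¹) * n⁻¹) * w := by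
      rw [hv]
      calc n * (w * (n * w * n⁻¹) * (n * (n * w * n⁻¹) * n⁻¹)) * n⁻¹
          = (n * w * n⁻¹) * (n * (n * w * n⁻¹) * n⁻¹)
            * (n * (n * (n * w * n⁻¹) * n⁻¹) * n⁻¹) := by group
        _ = _ := by rw [hw3]
    have h2 : (n * w * n⁻¹) * (n * (n * w * n⁻¹) * n⁻¹) * w = v := by
      have e1 := congrArg Subtype.val
        (hab ⟨w, hw⟩ (⟨n * w * n⁻¹, hw1⟩ * ⟨n * (n * w * n⁻¹) * n⁻¹, hw2⟩))
      simp only [Subgroup.coe_mul] at e1
      rw [hv, mul_assoc w, e1]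
    calc n * v = (n * v * n⁻¹) * n := by group
      _ = v * n := by rw [h1, h2]
  have h5 := hfree n hn hnC ⟨v, hvP⟩ hcomm
  rw [← hv]
  exact congrArg Subtype.val h5

/-- Conjugates of `w ∈ P` under `N`: there are at most three of them. -/
theorem bl3_conj_trichotomy (P : Subgroup G)
    (hCN : (Subgroup.centralizer (P : Set G)).relIndex (Subgroup.normalizer (P : Set G)) = 3)
    {n n' : G} (hn : n ∈ Subgroup.normalizer (P : Set G))
    (hnC : n ∉ Subgroup.centralizer (P : Set G)) (hn' : n' ∈ Subgroup.normalizer (P : Set G))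
    {w : G} (hw : w ∈ P) :
    n' * w * n'⁻¹ = w ∨ n' * w * n'⁻¹ = n * w * n⁻¹ ∨
      n' * w * n'⁻¹ = n * (n * w * n⁻¹) * n⁻¹ := by
  have key : ∀ c : G, c ∈ Subgroup.centralizer (P : Set G) → c * w * c⁻¹ = w := by
    intro c hc
    have h1 := Subgroup.mem_centralizer_iff.mp hc w hw
    calc c * w * c⁻¹ = w * c * c⁻¹ := by rw [h1]
      _ = w := by group
  rcases bl3_trichotomy P hCN hn hnC hn' with h | h | h
  · left; exact key n' h
  · right; left
    calc n' * w * n'⁻¹ = n * ((n⁻¹ * n') * w * (n⁻¹ * n')⁻¹) * n⁻¹ := by group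
      _ = n * w * n⁻¹ := by rw [key _ h]
  · right; right
    calc n' * w * n'⁻¹ = n * (n * ((n⁻¹ * n⁻¹ * n') * w * (n⁻¹ * n⁻¹ * n')⁻¹) * n⁻¹) * n⁻¹ := by
          group
      _ = n * (n * w * n⁻¹) * n⁻¹ := by rw [key _ h]

end

end Cfsg.Agent.Lib.helper20
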