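import Mathlib
import Cfsg.Agent.Lib.helper20.BL3Grp

/-!
# Linear characters of `P` for the Brauer--Leonard theorem with `|N_G(P) : C_G(P)| = 3` (helper20)

* `bl3_exists_hom`: a nontrivial linear character trivial on two given involutions;
* `bl3_not_rel_inv`: `ψ` and `ψ⁻¹` are not conjugate under `N` when `|P|` is odd;
* `bl3_relabel_sum`: for `|P| = 7` the two classes of nontrivial linear characters are those of
  `ψ` and `ψ⁻¹`.
-/

set_option autoImplicit false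

namespace Cfsg.Agent.Lib.helper20

open Cfsg Cfsg.Agent.Lib.helper81

universe u

theorem bl3_three_decomp {ι : Type*} [DecidableEq ι] (Xf : Finset ι) (o : ι)
    (hcard : Xf.card = 3) (ho : o ∈ Xf) :
    ∃ x₂ x₃ : ι, x₂ ≠ x₃ ∧ x₂ ≠ o ∧ x₃ ≠ o ∧ x₂ ∈ Xf ∧ x₃ ∈ Xf ∧
      Xf = insert o ({x₂, x₃} : Finset ι) := by
  obtain ⟨x₂, x₃, h23, hXe⟩ : ∃ x₂ x₃, x₂ ≠ x₃ ∧ Xf.erase o = {x₂, x₃} := by
    apply Finset.card_eq_two.mp
    rw [Finset.card_erase_of_mem ho, hcard]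
  have h2 : x₂ ∈ Xf.erase o := by rw [hXe]; simp
  have h3 : x₃ ∈ Xf.erase o := by rw [hXe]; simp
  exact ⟨x₂, x₃, h23, (Finset.mem_erase.mp h2).1, (Finset.mem_erase.mp h3).1,
    (Finset.mem_erase.mp h2).2, (Finset.mem_erase.mp h3).2,
    by rw [← hXe, Finset.insert_erase ho]⟩

theorem bl3_exists_hom {H : Type u} [Group H] [Finite H] (hH : ∀ a b : H, a * b = b * a)
    (hcard : Nat.card H ≠ 4) (τ τ' : H) (hτ : τ * τ = 1) (hτ' : τ' * τ' = 1) (hτ1 : τ ≠ 1)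
    (hτ'1 : τ' ≠ 1) (hne : τ ≠ τ') : ∃ ψ₀ : H →* ℂˣ, ψ₀ ≠ 1 ∧ ψ₀ τ = 1 ∧ ψ₀ τ' = 1 := by
  classical
  by_contra hcon
  push Not at hcon
  haveI : Finite (H →* ℂˣ) := bl_finite_hom
  have : Fintype H := Fintype.ofFinite H
  have : Fintype (H →* ℂˣ) := Fintype.ofFinite _
  have hsq : ∀ (ψ : H →* ℂˣ) (x : H), x * x = 1 →
      ((ψ x : ℂˣ) : ℂ) = 1 ∨ ((ψ x : ℂˣ) : ℂ) = -1 := by
    intro ψ x hx
    have h1 : ((ψ x : ℂˣ) : ℂ) * ((ψ x : ℂˣ) : ℂ) = 1 := by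
      rw [← Units.val_mul, ← map_mul, hx, map_one, Units.val_one]
    exact mul_self_eq_one_iff.mp h1
  have hττ' : τ * τ' ≠ 1 := by
    intro h
    apply hne
    have h1 : τ' = τ⁻¹ := eq_inv_of_mul_eq_one_right h
    have h2 : τ⁻¹ = τ := inv_eq_of_mul_eq_one_left hτ
    rw [h1, h2]
  have hterm : ∀ ψ : H →* ℂˣ, ψ ≠ 1 →
      (1 + ((ψ τ : ℂˣ) : ℂ)) * (1 + ((ψ τ' : ℂˣ) : ℂ)) = 0 := by
    intro ψ hψ
    rcases hsq ψ τ hτ with h1 | h1
    · have h2 : ψ τ = 1 := Units.ext (by rw [h1]; rfl)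
      have h3 := hcon ψ hψ h2
      rcases hsq ψ τ' hτ' with h4 | h4
      · exact absurd (Units.ext (by rw [h4]; rfl)) h3
      · rw [h4]; ring
    · rw [h1]; ring
  have hsum : ∑ ψ : H →* ℂˣ, (1 + ((ψ τ : ℂˣ) : ℂ)) * (1 + ((ψ τ' : ℂˣ) : ℂ))
      = (Nat.card H : ℂ) := by
    have h1 : ∀ ψ : H →* ℂˣ, (1 + ((ψ τ : ℂˣ) : ℂ)) * (1 + ((ψ τ' : ℂˣ) : ℂ))
        = 1 + ((ψ τ : ℂˣ) : ℂ) + ((ψ τ' : ℂˣ) : ℂ) + ((ψ (τ * τ') : ℂˣ) : ℂ) := by
      intro ψ; rw [map_mul, Units.val_mul]; ring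
    rw [Finset.sum_congr rfl (fun ψ _ => h1 ψ), Finset.sum_add_distrib, Finset.sum_add_distrib,
      Finset.sum_add_distrib, bl_sum_hom hH τ hτ1, bl_sum_hom hH τ' hτ'1,
      bl_sum_hom hH (τ * τ') hττ', add_zero, add_zero, add_zero]
    rw [Finset.sum_const, Finset.card_univ, ← Nat.card_eq_fintype_card, bl_card_hom hH]
    simp
  rw [Finset.sum_eq_single (1 : H →* ℂˣ) (fun ψ _ hψ => hterm ψ hψ)
    (fun h => absurd (Finset.mem_univ _) h)] at hsum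
  simp only [MonoidHom.one_apply, Units.val_one] at hsum
  have h4 : (Nat.card H : ℂ) = 4 := by rw [← hsum]; norm_num
  exact hcard (by exact_mod_cast h4)

theorem bl3_inv_ne_one {H : Type u} [Group H] (ψ : H →* ℂˣ) (hψ : ψ ≠ 1) : ψ⁻¹ ≠ 1 := by
  intro h'
  apply hψ
  apply MonoidHom.ext
  intro y
  have h3 := congrArg (fun φ : H →* ℂˣ => φ y) h'
  simp only [MonoidHom.inv_apply, MonoidHom.one_apply] at h3
  rw [MonoidHom.one_apply]
  exact inv_eq_one.mp h3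

theorem bl3_inv_inv_hom {H : Type u} [Group H] (ψ : H →* ℂˣ) : ψ⁻¹⁻¹ = ψ := by
  apply MonoidHom.ext
  intro y
  rw [MonoidHom.inv_apply, MonoidHom.inv_apply, inv_inv]

section

variable {G : Type u} [Group G]

theorem bl3_not_rel_inv (P : Subgroup G) [Finite P] (hab : ∀ a b : P, a * b = b * a)
    (hCN : (Subgroup.centralizer (P : Set G)).relIndex (Subgroup.normalizer (P : Set G)) = 3)
    (hfree : ∀ n ∈ Subgroup.normalizer (P : Set G), n ∉ Subgroup.centralizer (P : Set G) →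
      ∀ w : P, n * (w : G) = (w : G) * n → w = 1)
    (hodd : Odd (Nat.card P)) (ψ : P →* ℂˣ) (hψ : ψ ≠ 1) : ¬ blRel P ψ ψ⁻¹ := by
  intro hrel
  obtain ⟨n, hn, h⟩ := (blRel_iff P ψ ψ⁻¹).mp hrel
  have h1 : blTw P n hn ψ = ψ⁻¹ := by
    apply MonoidHom.ext
    intro w
    have h0 := congrArg (fun φ : P →* ℂˣ => φ w) h
    have h0' : (ψ (blConj P n hn w))⁻¹ = ψ w := h0
    rw [blTw_apply, MonoidHom.inv_apply, ← h0', inv_inv]
  have h2 : blTw P (n * n) (Subgroup.mul_mem _ hn hn) ψ = ψ := by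
    rw [blTw_mul P n n hn hn, h1, h]
  have hnn : n * n ∈ Subgroup.centralizer (P : Set G) := by
    by_contra hnot
    exact hψ (bl_tw_fix P hab (n * n) (Subgroup.mul_mem _ hn hn)
      (hfree _ (Subgroup.mul_mem _ hn hn) hnot) ψ h2)
  have hnC := bl3_sq_mem P hCN hn hnn
  have h3 : blTw P n hn ψ = ψ := by
    apply MonoidHom.ext
    intro w
    rw [blTw_apply]
    congr 1
    apply Subtype.ext
    rw [blConj_coe]
    have h0 := Subgroup.mem_centralizer_iff.mp hnC (w : G) w.2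
    rw [← h0]
    group
  rw [h3] at h1
  apply hψ
  apply MonoidHom.ext
  intro w
  rw [MonoidHom.one_apply]
  have h4 : ψ w * ψ w = 1 := by
    have h0 := congrArg (fun φ : P →* ℂˣ => φ w) h1
    simp only [MonoidHom.inv_apply] at h0
    rw [mul_eq_one_iff_eq_inv]; exact h0
  have h5 : ψ w ^ Nat.card P = 1 := by rw [← map_pow, pow_card_eq_one', map_one]
  obtain ⟨k, hk⟩ := hodd
  rw [hk, pow_succ, pow_mul, pow_two, h4, one_pow, one_mul] at h5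
  exact h5

theorem bl3_relabel_sum [Finite G] (P : Subgroup G) (hab : ∀ a b : P, a * b = b * a)
    (hCN : (Subgroup.centralizer (P : Set G)).relIndex (Subgroup.normalizer (P : Set G)) = 3)
    (hfrob : ∀ y : G, y ∈ P → y ≠ 1 →
      Subgroup.centralizer ({y} : Set G) ⊓ Subgroup.normalizer (P : Set G)
        = Subgroup.centralizer (P : Set G))
    (h7 : Nat.card P = 7) (ψ : P →* ℂˣ) (hψ : ψ ≠ 1) (y : P) (hy : y ≠ 1) :
    (1 : ℂ) + ∑ᶠ ψ' ∈ {ψ' : P →* ℂˣ | blRel P ψ ψ'}, ((ψ' y : ℂˣ) : ℂ)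
      + ∑ᶠ ψ' ∈ {ψ' : P →* ℂˣ | blRel P ψ⁻¹ ψ'}, ((ψ' y : ℂˣ) : ℂ) = 0 := by
  classical
  haveI : Finite (P →* ℂˣ) := bl_finite_hom
  have : Fintype P := Fintype.ofFinite P
  have : Fintype (P →* ℂˣ) := Fintype.ofFinite _
  have hψi : ψ⁻¹ ≠ 1 := bl3_inv_ne_one ψ hψ
  obtain ⟨A, hA⟩ : ∃ A : Finset (P →* ℂˣ), ∀ ψ', ψ' ∈ A ↔ blRel P ψ ψ' :=
    ⟨Finset.univ.filter (fun ψ' => blRel P ψ ψ'), fun ψ' => by simp⟩
  obtain ⟨B, hB⟩ : ∃ B : Finset (P →* ℂˣ), ∀ ψ', ψ' ∈ B ↔ blRel P ψ⁻¹ ψ' :=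
    ⟨Finset.univ.filter (fun ψ' => blRel P ψ⁻¹ ψ'), fun ψ' => by simp⟩
  have hAcard : A.card = 3 := by
    rw [← bl_class_card P hab 3 hCN hfrob ψ hψ, ← Nat.card_congr (Equiv.subtypeEquivRight hA),
      Nat.card_eq_fintype_card, Fintype.card_coe]
  have hBcard : B.card = 3 := by
    rw [← bl_class_card P hab 3 hCN hfrob ψ⁻¹ hψi, ← Nat.card_congr (Equiv.subtypeEquivRight hB),
      Nat.card_eq_fintype_card, Fintype.card_coe]
  have hAB : Disjoint A B := by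
    rw [Finset.disjoint_left]
    intro ψ' h1 h2
    exact bl3_not_rel_inv P hab hCN (bl_hfree P hfrob) (by rw [h7]; decide) ψ hψ
      (blRel_trans P ((hA ψ').mp h1) (blRel_symm P ((hB ψ').mp h2)))
  have h1A : (1 : P →* ℂˣ) ∉ A := fun h => hψ (blRel_one_right P ((hA 1).mp h))
  have h1B : (1 : P →* ℂˣ) ∉ B := fun h => hψi (blRel_one_right P ((hB 1).mp h))
  have h1AB : (1 : P →* ℂˣ) ∉ A ∪ B := by
    rw [Finset.mem_union]; exact fun h => h.elim h1A h1B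
  have huniv : insert (1 : P →* ℂˣ) (A ∪ B) = Finset.univ := by
    apply Finset.eq_univ_of_card
    rw [Finset.card_insert_of_notMem h1AB, Finset.card_union_of_disjoint hAB, hAcard, hBcard,
      ← Nat.card_eq_fintype_card, bl_card_hom hab, h7]
  have hsum := bl_sum_hom hab y hy
  rw [← huniv, Finset.sum_insert h1AB, Finset.sum_union hAB] at hsum
  have hsetA : {ψ' : P →* ℂˣ | blRel P ψ ψ'} = ↑A := by ext ψ'; simp [hA]
  have hsetB : {ψ' : P →* ℂˣ | blRel P ψ⁻¹ ψ'} = ↑B := by ext ψ'; simp [hB]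
  rw [hsetA, hsetB, finsum_mem_coe_finset, finsum_mem_coe_finset]
  simp only [MonoidHom.one_apply, Units.val_one] at hsum
  linear_combination hsum

/-- The exact form of `bl_card_Y`: `|P| - 1 = 3 |Y|`. -/
theorem bl3_card_Y3 [Finite G] (P : Subgroup G) (hab : ∀ a b : P, a * b = b * a)
    (hCN : (Subgroup.centralizer (P : Set G)).relIndex (Subgroup.normalizer (P : Set G)) = 3)
    (hfrob : ∀ y : G, y ∈ P → y ≠ 1 →
      Subgroup.centralizer ({y} : Set G) ⊓ Subgroup.normalizer (P : Set G)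
        = Subgroup.centralizer (P : Set G))
    {ι : Type*} (Y : Finset ι) (ζ : (P →* ℂˣ) → ι)
    (hζY : ∀ ψ, ψ ≠ 1 → ζ ψ ∈ Y) (hsurj : ∀ η ∈ Y, ∃ ψ, ψ ≠ 1 ∧ ζ ψ = η)
    (hiff : ∀ ψ ψ', ψ ≠ 1 → ψ' ≠ 1 → (ζ ψ = ζ ψ' ↔ blRel P ψ ψ')) :
    Nat.card P - 1 = 3 * Y.card := by
  haveI : Finite (P →* ℂˣ) := bl_finite_hom
  have hcard : Nat.card {ψ : P →* ℂˣ // ψ ≠ 1} = Nat.card P - 1 := by
    rw [bl_card_ne, bl_card_hom hab]
  have h1 := bl_card_eq_mul_of_fiber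
    (fun ψ : {ψ : P →* ℂˣ // ψ ≠ 1} => (⟨ζ ψ.1, hζY ψ.1 ψ.2⟩ : (Y : Set ι))) 3 (by
      rintro ⟨η, hη⟩
      obtain ⟨ψ₀, hψ₀, hζ₀⟩ := hsurj η hη
      rw [← bl_class_card P hab 3 hCN hfrob ψ₀ hψ₀]
      apply Nat.card_congr
      refine
        { toFun := fun u => ⟨u.1.1, (hiff ψ₀ u.1.1 hψ₀ u.1.2).mp
            (hζ₀.trans (congrArg Subtype.val u.2).symm)⟩
          invFun := fun ψ' => ⟨⟨ψ'.1, fun h => hψ₀ (blRel_one_right P (h ▸ ψ'.2))⟩,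
            Subtype.ext (((hiff ψ₀ ψ'.1 hψ₀
              (fun h => hψ₀ (blRel_one_right P (h ▸ ψ'.2)))).mpr ψ'.2).symm.trans hζ₀)⟩
          left_inv := fun u => rfl
          right_inv := fun ψ' => rfl })
  rw [hcard] at h1
  have h2 : Nat.card (Y : Set ι) = Y.card := by
    rw [Nat.card_coe_set_eq, Set.ncard_coe_finset]
  rw [h2] at h1
  exact h1

end

end Cfsg.Agent.Lib.helper20
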