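import Mathlib
import Cfsg.Agent.Lib.helper20.BL3Grp

/-!
# Fusion arguments for the Brauer--Leonard theorem with `|N_G(P) : C_G(P)| = 3` (helper20)
-/

set_option autoImplicit false

namespace Cfsg.Agent.Lib.helper20

open Cfsg Cfsg.Agent.Lib.helper81
open scoped Pointwise

universe u

section

variable {G : Type u} [Group G]

/-- If `w ^ i` is conjugate to the `i`-th power of a product of two conjugates of an involution
(`i` prime to the order of `w`), then `w` is inverted by a conjugate of the involution. -/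
theorem bl3_inverted_of_pow_conj (t w b c : G) (ht : t * t = 1) (i : ℕ)
    (hcop : Nat.Coprime i (orderOf w))
    (hi : c⁻¹ * w ^ i * c = (b * t * b⁻¹ * t) ^ i) :
    (c * (b * t * b⁻¹) * c⁻¹) * w * (c * (b * t * b⁻¹) * c⁻¹)⁻¹ = w⁻¹ := by
  have htinv : t⁻¹ = t := inv_eq_of_mul_eq_one_left ht
  obtain ⟨t₁, ht₁⟩ : ∃ t₁ : G, t₁ = b * t * b⁻¹ := ⟨_, rfl⟩
  rw [← ht₁] at hi ⊢
  have ht₁sq : t₁ * t₁ = 1 := by
    rw [ht₁]
    calc b * t * b⁻¹ * (b * t * b⁻¹) = b * (t * t) * b⁻¹ := by group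
      _ = 1 := by rw [ht]; group
  have ht₁inv : t₁⁻¹ = t₁ := inv_eq_of_mul_eq_one_left ht₁sq
  obtain ⟨g, hg⟩ : ∃ g : G, g = t₁ * t := ⟨_, rfl⟩
  rw [← hg] at hi
  have hconj : t₁ * g * t₁⁻¹ = g⁻¹ := by
    have h1 : g⁻¹ = t * t₁ := by
      rw [hg, mul_inv_rev, htinv, ht₁inv]
    rw [h1, hg, ht₁inv, ← mul_assoc, ht₁sq, one_mul]
  have hconji : t₁ * g ^ i * t₁⁻¹ = (g ^ i)⁻¹ := by
    rw [← conj_pow, hconj, inv_pow]
  have hui : w ^ i = c * g ^ i * c⁻¹ := by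
    rw [← hi]; group
  obtain ⟨m, hm⟩ := exists_pow_eq_self_of_coprime hcop
  have h3 : c * t₁ * c⁻¹ * w ^ i * (c * t₁ * c⁻¹)⁻¹ = (w ^ i)⁻¹ := by
    rw [hui]
    calc c * t₁ * c⁻¹ * (c * g ^ i * c⁻¹) * (c * t₁ * c⁻¹)⁻¹
        = c * (t₁ * g ^ i * t₁⁻¹) * c⁻¹ := by group
      _ = (c * g ^ i * c⁻¹)⁻¹ := by rw [hconji]; group
  calc c * t₁ * c⁻¹ * w * (c * t₁ * c⁻¹)⁻¹
      = c * t₁ * c⁻¹ * (w ^ i) ^ m * (c * t₁ * c⁻¹)⁻¹ := by rw [hm]
    _ = (c * t₁ * c⁻¹ * w ^ i * (c * t₁ * c⁻¹)⁻¹) ^ m := by rw [conj_pow]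
    _ = w⁻¹ := by rw [h3, inv_pow, hm]

/-- An element of `P` which is inverted by some element of `G` has square `1`. -/
theorem bl3_not_inverted [Finite G] {p : ℕ} [Fact p.Prime] (P : Sylow p G)
    (hab : IsMulCommutative P)
    (hCN : (Subgroup.centralizer ((P : Subgroup G) : Set G)).relIndex
      (Subgroup.normalizer ((P : Subgroup G) : Set G)) = 3)
    (hfrob : ∀ y : G, y ∈ (P : Subgroup G) → y ≠ 1 →
      Subgroup.centralizer ({y} : Set G) ⊓ Subgroup.normalizer ((P : Subgroup G) : Set G)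
        = Subgroup.centralizer ((P : Subgroup G) : Set G))
    {w : G} (hw : w ∈ (P : Subgroup G)) (e : G) (he : e * w * e⁻¹ = w⁻¹) : w * w = 1 := by
  by_cases hw1 : w = 1
  · rw [hw1, mul_one]
  obtain ⟨n, hn, hn'⟩ := bl_fusion P hab w hw e (by rw [he]; exact Subgroup.inv_mem _ hw)
  rw [he] at hn'
  have a1 : n * w = w⁻¹ * n := by
    calc n * w = (n * w * n⁻¹) * n := by group
      _ = w⁻¹ * n := by rw [hn']
  have a2 : n * w⁻¹ = w * n := by
    have h : n * w⁻¹ * n⁻¹ = w := by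
      calc n * w⁻¹ * n⁻¹ = (n * w * n⁻¹)⁻¹ := by group
        _ = w := by rw [hn', inv_inv]
    calc n * w⁻¹ = (n * w⁻¹ * n⁻¹) * n := by group
      _ = w * n := by rw [h]
  have h2 : n * n ∈ Subgroup.centralizer ({w} : Set G) := by
    rw [Subgroup.mem_centralizer_singleton_iff]
    symm
    calc w * (n * n) = (w * n) * n := by group
      _ = (n * w⁻¹) * n := by rw [a2]
      _ = n * (w⁻¹ * n) := by group
      _ = n * (n * w) := by rw [a1]
      _ = n * n * w := by group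
  have hC : n * n ∈ Subgroup.centralizer ((P : Subgroup G) : Set G) := by
    rw [← hfrob w hw hw1]; exact ⟨h2, Subgroup.mul_mem _ hn hn⟩
  have hnC := bl3_sq_mem (P : Subgroup G) hCN hn hC
  have h3 := Subgroup.mem_centralizer_iff.mp hnC w hw
  have h4 : w = w⁻¹ := by
    calc w = (w * n) * n⁻¹ := by group
      _ = n * w * n⁻¹ := by rw [h3]
      _ = w⁻¹ := hn'
  exact mul_eq_one_iff_eq_inv.mpr h4

/-- For odd `p`, an element of `P` of square `1` is trivial. -/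
theorem bl3_eq_one_of_sq {p : ℕ} [Fact p.Prime] (hp2 : p ≠ 2) (P : Sylow p G) {w : G}
    (hw : w ∈ (P : Subgroup G)) (h : w * w = 1) : w = 1 := by
  have hp : p.Prime := Fact.out
  obtain ⟨k, hk⟩ := (IsPGroup.iff_orderOf.mp P.isPGroup') ⟨w, hw⟩
  rw [← Subgroup.orderOf_coe] at hk
  have hk' : orderOf w = p ^ k := hk
  have h2 : orderOf w ∣ 2 := orderOf_dvd_of_pow_eq_one (by rw [pow_two]; exact h)
  rw [hk'] at h2
  have hk0 : k = 0 := by
    by_contra hk0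
    have h3 : p ∣ 2 := (dvd_pow_self p hk0).trans h2
    exact hp2 ((Nat.prime_dvd_prime_iff_eq hp Nat.prime_two).mp h3)
  rw [hk0, pow_zero] at hk'
  exact orderOf_eq_one_iff.mp hk'

/-- The key hypothesis of the vanishing lemma, for odd `p`. -/
theorem bl3_H_odd [Finite G] {p : ℕ} [Fact p.Prime] (hp2 : p ≠ 2) (P : Sylow p G)
    (hab : IsMulCommutative P)
    (hCN : (Subgroup.centralizer ((P : Subgroup G) : Set G)).relIndex
      (Subgroup.normalizer ((P : Subgroup G) : Set G)) = 3)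
    (hfrob : ∀ y : G, y ∈ (P : Subgroup G) → y ≠ 1 →
      Subgroup.centralizer ({y} : Set G) ⊓ Subgroup.normalizer ((P : Subgroup G) : Set G)
        = Subgroup.centralizer ((P : Subgroup G) : Set G))
    (t : G) (ht : t * t = 1) {w : G} (hw : w ∈ (P : Subgroup G)) (hw1 : w ≠ 1) (b c : G) (i : ℕ)
    (h : c⁻¹ * w ^ i * c = (b * t * b⁻¹ * t) ^ i) : p ∣ i := by
  have hp : p.Prime := Fact.out
  by_contra hpi
  obtain ⟨k, hk⟩ := (IsPGroup.iff_orderOf.mp P.isPGroup') ⟨w, hw⟩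
  rw [← Subgroup.orderOf_coe] at hk
  have hk' : orderOf w = p ^ k := hk
  have hcop : Nat.Coprime i (orderOf w) := by
    rw [hk']
    exact Nat.Coprime.pow_right k ((Nat.Prime.coprime_iff_not_dvd hp).mpr hpi).symm
  have hinv := bl3_inverted_of_pow_conj t w b c ht i hcop h
  have hsq := bl3_not_inverted P hab hCN hfrob hw _ hinv
  exact hw1 (bl3_eq_one_of_sq hp2 P hw hsq)

/-- A `p`-element centralizing `w` is conjugate into `P` by an element centralizing `w`, when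
`P ≤ C_G(w)`. -/
theorem bl3_conj_mem_sylow [Finite G] {p : ℕ} [Fact p.Prime] (P : Sylow p G) (w : G)
    (hPw : (P : Subgroup G) ≤ Subgroup.centralizer ({w} : Set G)) (x : G)
    (hxw : x ∈ Subgroup.centralizer ({w} : Set G)) (k : ℕ) (hx : x ^ p ^ k = 1) :
    ∃ e : G, e ∈ Subgroup.centralizer ({w} : Set G) ∧ e * x * e⁻¹ ∈ (P : Subgroup G) := by
  have hx' : (⟨x, hxw⟩ : Subgroup.centralizer ({w} : Set G)) ^ p ^ k = 1 := by
    apply Subtype.ext
    rw [Subgroup.coe_pow, Subgroup.coe_one]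
    exact hx
  have hpg : IsPGroup p (Subgroup.zpowers (⟨x, hxw⟩ : Subgroup.centralizer ({w} : Set G))) := by
    rintro ⟨g, hg⟩
    obtain ⟨m, rfl⟩ := Subgroup.mem_zpowers_iff.mp hg
    refine ⟨k, Subtype.ext ?_⟩
    rw [Subgroup.coe_pow, Subgroup.coe_one]
    show ((⟨x, hxw⟩ : Subgroup.centralizer ({w} : Set G)) ^ m) ^ p ^ k = 1
    rw [← zpow_natCast, ← zpow_mul, mul_comm, zpow_mul, zpow_natCast, hx', one_zpow]
  obtain ⟨Q', hQ'⟩ := hpg.exists_le_sylow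
  obtain ⟨h, hh⟩ := MulAction.exists_smul_eq (Subgroup.centralizer ({w} : Set G)) Q'
    (P.subtype hPw)
  refine ⟨(h : G), h.2, ?_⟩
  have hx1 : (⟨x, hxw⟩ : Subgroup.centralizer ({w} : Set G))
      ∈ (Q' : Subgroup (Subgroup.centralizer ({w} : Set G))) := hQ' (Subgroup.mem_zpowers _)
  have h2 : MulAut.conj h • (⟨x, hxw⟩ : Subgroup.centralizer ({w} : Set G))
      ∈ MulAut.conj h • (Q' : Subgroup (Subgroup.centralizer ({w} : Set G))) :=
    Subgroup.smul_mem_pointwise_smul _ _ _ hx1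
  rw [← Sylow.coe_subgroup_smul, hh, Sylow.coe_subtype, Subgroup.mem_subgroupOf] at h2
  simpa [MulAut.smul_def] using h2

/-- A `p`-element is conjugate into `P`. -/
theorem bl3_conj_mem_sylow' [Finite G] {p : ℕ} [Fact p.Prime] (P : Sylow p G) (x : G) (k : ℕ)
    (hx : x ^ p ^ k = 1) : ∃ e : G, e * x * e⁻¹ ∈ (P : Subgroup G) := by
  obtain ⟨e, -, he⟩ := bl3_conj_mem_sylow P 1
    (fun g _ => Subgroup.mem_centralizer_singleton_iff.mpr (by rw [one_mul, mul_one])) x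
    (Subgroup.mem_centralizer_singleton_iff.mpr (by rw [one_mul, mul_one])) k hx
  exact ⟨e, he⟩

/-- The key hypothesis of the vanishing lemma, for `p = 2`: it holds for the elements of `P`
which are not conjugate to the involution `t`. -/
theorem bl3_H_two [Finite G] (P : Sylow 2 G) (hab : IsMulCommutative P)
    (hCN : (Subgroup.centralizer ((P : Subgroup G) : Set G)).relIndex
      (Subgroup.normalizer ((P : Subgroup G) : Set G)) = 3)
    (hfrob : ∀ y : G, y ∈ (P : Subgroup G) → y ≠ 1 →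
      Subgroup.centralizer ({y} : Set G) ⊓ Subgroup.normalizer ((P : Subgroup G) : Set G)
        = Subgroup.centralizer ((P : Subgroup G) : Set G))
    (t : G) (ht : t * t = 1) {w : G} (hw : w ∈ (P : Subgroup G)) (hw1 : w ≠ 1)
    (hwt : ∀ e : G, e * t * e⁻¹ ≠ w) (b c : G) (i : ℕ)
    (h : c⁻¹ * w ^ i * c = (b * t * b⁻¹ * t) ^ i) : 2 ∣ i := by
  by_contra h2i
  have hab' : ∀ a b : (P : Subgroup G), a * b = b * a := fun a b => hab.is_comm.comm a b
  obtain ⟨k, hk⟩ := (IsPGroup.iff_orderOf.mp P.isPGroup') ⟨w, hw⟩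
  rw [← Subgroup.orderOf_coe] at hk
  have hk' : orderOf w = 2 ^ k := hk
  have hcop : Nat.Coprime i (orderOf w) := by
    rw [hk']
    exact Nat.Coprime.pow_right k ((Nat.Prime.coprime_iff_not_dvd Nat.prime_two).mpr h2i).symm
  have hinv := bl3_inverted_of_pow_conj t w b c ht i hcop h
  have hsq : w * w = 1 := bl3_not_inverted P hab hCN hfrob hw _ hinv
  have hwinv : w⁻¹ = w := inv_eq_of_mul_eq_one_left hsq
  obtain ⟨j, hj⟩ : ∃ j, i = 2 * j + 1 := ⟨i / 2, by omega⟩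
  have hwi : w ^ i = w := by
    rw [hj, pow_succ, pow_mul, pow_two, hsq, one_pow, one_mul]
  rw [hwi] at h
  have htinv : t⁻¹ = t := inv_eq_of_mul_eq_one_left ht
  obtain ⟨t₁, ht₁⟩ : ∃ t₁ : G, t₁ = b * t * b⁻¹ := ⟨_, rfl⟩
  rw [← ht₁] at h
  have ht₁sq : t₁ * t₁ = 1 := by
    rw [ht₁]
    calc b * t * b⁻¹ * (b * t * b⁻¹) = b * (t * t) * b⁻¹ := by group
      _ = 1 := by rw [ht]; group
  have ht₁inv : t₁⁻¹ = t₁ := inv_eq_of_mul_eq_one_left ht₁sq
  obtain ⟨u, hu⟩ : ∃ u : G, u = t₁ * t := ⟨_, rfl⟩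
  rw [← hu] at h
  have htu : t * u * t⁻¹ = u⁻¹ := by
    calc t * u * t⁻¹ = t * t₁ := by rw [hu]; group
      _ = t⁻¹ * t₁⁻¹ := by rw [htinv, ht₁inv]
      _ = u⁻¹ := by rw [hu]; group
  -- `x = u ^ i` is an involution commuting with `t`
  have hxinv : (u ^ i)⁻¹ = u ^ i := by
    rw [← h]
    calc (c⁻¹ * w * c)⁻¹ = c⁻¹ * w⁻¹ * c := by group
      _ = c⁻¹ * w * c := by rw [hwinv]
  have hc1 : t * t₁ * t⁻¹ = u⁻¹ * t := by
    calc t * t₁ * t⁻¹ = (t * u * t⁻¹) * t⁻¹ := by rw [hu]; group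
      _ = u⁻¹ * t := by rw [htu, htinv]
  have hc2 : t * u ^ j = (u⁻¹) ^ j * t := by
    calc t * u ^ j = (t * u * t⁻¹) ^ j * t := by rw [conj_pow]; group
      _ = (u⁻¹) ^ j * t := by rw [htu]
  obtain ⟨g, hg⟩ : ∃ g : G, g = (u⁻¹) ^ j * t * b := ⟨_, rfl⟩
  have hK : g * t * g⁻¹ = u ^ i * t := by
    rw [hg]
    calc ((u⁻¹) ^ j * t * b) * t * ((u⁻¹) ^ j * t * b)⁻¹
        = (u⁻¹) ^ j * (t * (b * t * b⁻¹) * t⁻¹) * ((u⁻¹) ^ j)⁻¹ := by group
      _ = (u⁻¹) ^ j * (u⁻¹ * t) * ((u⁻¹) ^ j)⁻¹ := by rw [← ht₁, hc1]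
      _ = (u⁻¹) ^ j * u⁻¹ * (t * u ^ j) := by group
      _ = (u⁻¹) ^ j * u⁻¹ * ((u⁻¹) ^ j * t) := by rw [hc2]
      _ = (u ^ i)⁻¹ * t := by rw [hj]; group
      _ = u ^ i * t := by rw [hxinv]
  have hxt : t * u ^ i = u ^ i * t := by
    calc t * u ^ i = (t * u * t⁻¹) ^ i * t := by rw [conj_pow]; group
      _ = (u ^ i)⁻¹ * t := by rw [htu, inv_pow]
      _ = u ^ i * t := by rw [hxinv]
  -- conjugate by `c`
  have hwc : w = c * u ^ i * c⁻¹ := by rw [← h]; group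
  obtain ⟨t', ht'⟩ : ∃ t' : G, t' = c * t * c⁻¹ := ⟨_, rfl⟩
  have ht'sq : t' ^ 2 ^ 1 = 1 := by
    rw [pow_one, pow_two, ht']
    calc c * t * c⁻¹ * (c * t * c⁻¹) = c * (t * t) * c⁻¹ := by group
      _ = 1 := by rw [ht]; group
  have ht'w : w * t' = t' * w := by
    rw [hwc, ht']
    calc c * u ^ i * c⁻¹ * (c * t * c⁻¹) = c * (u ^ i * t) * c⁻¹ := by group
      _ = c * (t * u ^ i) * c⁻¹ := by rw [hxt]
      _ = c * t * c⁻¹ * (c * u ^ i * c⁻¹) := by group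
  have hwt' : w * t' = (c * g) * t * (c * g)⁻¹ := by
    rw [hwc, ht']
    calc c * u ^ i * c⁻¹ * (c * t * c⁻¹) = c * (u ^ i * t) * c⁻¹ := by group
      _ = c * (g * t * g⁻¹) * c⁻¹ := by rw [hK]
      _ = (c * g) * t * (c * g)⁻¹ := by group
  have hPw : (P : Subgroup G) ≤ Subgroup.centralizer ({w} : Set G) := by
    intro y hy
    rw [Subgroup.mem_centralizer_singleton_iff]
    exact congrArg Subtype.val (hab' ⟨y, hy⟩ ⟨w, hw⟩)
  obtain ⟨e, hew, heP⟩ := bl3_conj_mem_sylow P w hPw t'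
    (Subgroup.mem_centralizer_singleton_iff.mpr ht'w.symm) 1 ht'sq
  rw [Subgroup.mem_centralizer_singleton_iff] at hew
  obtain ⟨τ₁, hτ₁⟩ : ∃ τ₁ : G, τ₁ = e * t' * e⁻¹ := ⟨_, rfl⟩
  rw [← hτ₁] at heP
  have hτ₁t : τ₁ = (e * c) * t * (e * c)⁻¹ := by rw [hτ₁, ht']; group
  have hwτ₁ : w * τ₁ = (e * c * g) * t * (e * c * g)⁻¹ := by
    calc w * τ₁ = e * (w * t') * e⁻¹ := by
          rw [hτ₁]
          calc w * (e * t' * e⁻¹) = (w * e) * t' * e⁻¹ := by group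
            _ = (e * w) * t' * e⁻¹ := by rw [hew]
            _ = e * (w * t') * e⁻¹ := by group
      _ = e * ((c * g) * t * (c * g)⁻¹) * e⁻¹ := by rw [hwt']
      _ = (e * c * g) * t * (e * c * g)⁻¹ := by group
  have hτ₁sq : τ₁ * τ₁ = 1 := by
    rw [hτ₁t]
    calc (e * c) * t * (e * c)⁻¹ * ((e * c) * t * (e * c)⁻¹) = (e * c) * (t * t) * (e * c)⁻¹ := by
          group
      _ = 1 := by rw [ht]; group
  have hconj : ((e * c * g) * (e * c)⁻¹) * τ₁ * ((e * c * g) * (e * c)⁻¹)⁻¹ = w * τ₁ := by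
    rw [hwτ₁, hτ₁t]; group
  obtain ⟨n, hn, hn'⟩ := bl_fusion P hab τ₁ heP ((e * c * g) * (e * c)⁻¹)
    (by rw [hconj]; exact Subgroup.mul_mem _ hw heP)
  rw [hconj] at hn'
  have hnC : n ∉ Subgroup.centralizer ((P : Subgroup G) : Set G) := by
    intro hnC
    have h3 := Subgroup.mem_centralizer_iff.mp hnC τ₁ heP
    have h4 : n * τ₁ * n⁻¹ = τ₁ := by
      calc n * τ₁ * n⁻¹ = τ₁ * n * n⁻¹ := by rw [h3]
        _ = τ₁ := by group
    rw [h4] at hn'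
    exact hw1 (mul_right_cancel (b := τ₁) (by rw [one_mul]; exact hn'.symm))
  have hprod := bl3_prod_orbit (P : Subgroup G) hab' hCN (bl_hfree (P : Subgroup G) hfrob) hn hnC
    heP
  rw [hn'] at hprod
  have h5 : τ₁ * (w * τ₁) = w := by
    have e1 := congrArg Subtype.val (hab' ⟨τ₁, heP⟩ ⟨w, hw⟩)
    simp only [Subgroup.coe_mul] at e1
    calc τ₁ * (w * τ₁) = (τ₁ * w) * τ₁ := by group
      _ = (w * τ₁) * τ₁ := by rw [e1]
      _ = w * (τ₁ * τ₁) := by group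
      _ = w := by rw [hτ₁sq, mul_one]
  rw [h5] at hprod
  have h6 : n * (w * τ₁) * n⁻¹ = w := by
    have h7 : n * (w * τ₁) * n⁻¹ = w⁻¹ := by
      calc n * (w * τ₁) * n⁻¹ = w⁻¹ * (w * (n * (w * τ₁) * n⁻¹)) := by group
        _ = w⁻¹ := by rw [hprod, mul_one]
    rw [h7, hwinv]
  apply hwt (n * (e * c * g))
  rw [← h6, hwτ₁]
  group

end

end Cfsg.Agent.Lib.helper20
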