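import Mathlib
import Cfsg.Agent.Lib.helper20.BL3Fus
import Cfsg.Agent.Lib.helper20.Schur
import Cfsg.Agent.Lib.helper81.BlRel
import Cfsg.Agent.Lib.helper84.BlockOrth

/-!
# Vanishing of `∑_{χ ∈ B₀} a_χ χ(t)² / χ(1)` (helper20)

`bl3_vanish`: for a function `θ` on a subgroup `P` such that no power (of exponent prime to `p`)
of an element of the support of `θ` is conjugate to the same power of a product of two conjugates
of `t`, the sum `∑_{χ ∈ B₀} (∑_w θ(w) χ(w⁻¹)) χ(t)² / χ(1)` vanishes.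
-/

set_option autoImplicit false

namespace Cfsg.Agent.Lib.helper20

open Cfsg Cfsg.Agent.Lib.helper81
open scoped ComplexConjugate

universe u

section

variable {G : Type u} [Group G]

theorem bl3_vanish [Fintype G] {p : ℕ} [Fact p.Prime] {M : Ideal AlgInt} (hM : IsPModular p M)
    (P : Subgroup G) [Fintype P] (I : Finset (IrrCharacter G))
    (hI : ∀ χ, χ ∈ I ↔ χ ∈ principalBlock M G) (t : G) (θ : P → ℂ)
    (hθ : ∀ w : P, θ w ≠ 0 → ∀ b c : G, ∀ i : ℕ,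
      c⁻¹ * (w : G) ^ i * c = (b * t * b⁻¹ * t) ^ i → p ∣ i) :
    ∑ χ ∈ I, (∑ w : P, θ w * (χ : G → ℂ) ((w : G)⁻¹))
      * ((χ : G → ℂ) t * (χ : G → ℂ) t / (χ : G → ℂ) 1) = 0 := by
  classical
  have h1 : ∀ w : P, θ w ≠ 0 → ∀ b : G,
      ∑ χ ∈ I, (χ : G → ℂ) (b * t * b⁻¹ * t) * (χ : G → ℂ) ((w : G)⁻¹) = 0 := by
    intro w hw b
    have h := Cfsg.Agent.Lib.helper84.block_orthogonality' hM
      (isPBlock_principalBlock (M := M) (G := G)) (b * t * b⁻¹ * t) (w : G)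
      (fun g i hgi => hθ w hw b g⁻¹ i (by rw [← hgi]; group))
    rw [← Finset.sum_subset (Finset.subset_univ I)
      (fun χ _ hχ => by rw [if_neg (fun h' => hχ ((hI χ).mpr h'))])] at h
    rw [← h]
    apply Finset.sum_congr rfl
    intro χ hχ
    rw [if_pos ((hI χ).mp hχ), irr_inv]
  have hG : (Nat.card G : ℂ) ≠ 0 := by
    have : 0 < Nat.card G := Nat.card_pos
    exact_mod_cast this.ne'
  have h2 : ∀ w : P, θ w ≠ 0 →
      ∑ χ ∈ I, ((χ : G → ℂ) t * (χ : G → ℂ) t / (χ : G → ℂ) 1) * (χ : G → ℂ) ((w : G)⁻¹)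
        = 0 := by
    intro w hw
    have h3 : ∑ b : G, ∑ χ ∈ I, (χ : G → ℂ) (b * t * b⁻¹ * t) * (χ : G → ℂ) ((w : G)⁻¹) = 0 :=
      Finset.sum_eq_zero (fun b _ => h1 w hw b)
    rw [Finset.sum_comm] at h3
    have h4 : ∀ χ : IrrCharacter G,
        ∑ b : G, (χ : G → ℂ) (b * t * b⁻¹ * t) * (χ : G → ℂ) ((w : G)⁻¹)
          = (Nat.card G : ℂ) * (((χ : G → ℂ) t * (χ : G → ℂ) t / (χ : G → ℂ) 1)
            * (χ : G → ℂ) ((w : G)⁻¹)) := by
      intro χ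
      rw [← Finset.sum_mul]
      have h5 := irr_sum_conj_mul (χ : G → ℂ) χ.2 t t
      have hχ1 := irr_one_ne_zero χ
      have h6 : ∑ x : G, (χ : G → ℂ) (x * t * x⁻¹ * t)
          = (Nat.card G : ℂ) * (χ : G → ℂ) t * (χ : G → ℂ) t / (χ : G → ℂ) 1 := by
        rw [eq_div_iff hχ1, mul_comm]; exact h5
      rw [h6]; ring
    rw [Finset.sum_congr rfl (fun χ _ => h4 χ), ← Finset.mul_sum] at h3
    exact (mul_eq_zero.mp h3).resolve_left hG
  have h7 : ∀ χ : IrrCharacter G,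
      (∑ w : P, θ w * (χ : G → ℂ) ((w : G)⁻¹))
        * ((χ : G → ℂ) t * (χ : G → ℂ) t / (χ : G → ℂ) 1)
      = ∑ w : P, θ w * (((χ : G → ℂ) t * (χ : G → ℂ) t / (χ : G → ℂ) 1)
        * (χ : G → ℂ) ((w : G)⁻¹)) := by
    intro χ
    rw [Finset.sum_mul]
    exact Finset.sum_congr rfl (fun w _ => by ring)
  rw [Finset.sum_congr rfl (fun χ _ => h7 χ), Finset.sum_comm]
  apply Finset.sum_eq_zero
  intro w _
  rw [← Finset.mul_sum]
  by_cases hw : θ w = 0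
  · rw [hw, zero_mul]
  · rw [h2 w hw, mul_zero]

/-- The multiplicity of `ψ` in `χ|_P` as a sum over `P`. -/
theorem bl3_mult_eq [Finite G] (P : Subgroup G) [Fintype P] (χ : IrrCharacter G) (ψ : P →* ℂˣ) :
    ((blMult P χ ψ : ℕ) : ℂ)
      = (Nat.card P : ℂ)⁻¹ * ∑ w : P, ((ψ w : ℂˣ) : ℂ) * (χ : G → ℂ) ((w : G)⁻¹) := by
  rw [blMult_sum]
  congr 1
  refine Fintype.sum_equiv (Equiv.inv ↥P) _ _ (fun y => ?_)
  show (χ : G → ℂ) (y : G) * ((ψ y⁻¹ : ℂˣ) : ℂ)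
    = ((ψ y⁻¹ : ℂˣ) : ℂ) * (χ : G → ℂ) (((y⁻¹ : P) : G)⁻¹)
  rw [Subgroup.coe_inv, inv_inv, mul_comm]

/-- The hypothesis of the general relation of `bl_comb2`, for `F χ = χ(t)² / χ(1)`, `p` odd. -/
theorem bl3_F_odd [Finite G] {p : ℕ} [Fact p.Prime] (hp2 : p ≠ 2) {M : Ideal AlgInt}
    (hM : IsPModular p M) (P : Sylow p G) (hab : IsMulCommutative P)
    (hCN : (Subgroup.centralizer ((P : Subgroup G) : Set G)).relIndex
      (Subgroup.normalizer ((P : Subgroup G) : Set G)) = 3)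
    (hfrob : ∀ y : G, y ∈ (P : Subgroup G) → y ≠ 1 →
      Subgroup.centralizer ({y} : Set G) ⊓ Subgroup.normalizer ((P : Subgroup G) : Set G)
        = Subgroup.centralizer ((P : Subgroup G) : Set G))
    (I : Finset (IrrCharacter G)) (hI : ∀ χ, χ ∈ I ↔ χ ∈ principalBlock M G)
    (t : G) (ht : t * t = 1) (ψ₁ ψ₂ : (P : Subgroup G) →* ℂˣ) :
    ∑ χ ∈ I, ((((blMult (P : Subgroup G) χ ψ₁ : ℕ) : ℤ) : ℂ)
      - (((blMult (P : Subgroup G) χ ψ₂ : ℕ) : ℤ) : ℂ))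
        * ((χ : G → ℂ) t * (χ : G → ℂ) t / (χ : G → ℂ) 1) = 0 := by
  classical
  have : Fintype G := Fintype.ofFinite G
  have : Fintype (P : Subgroup G) := Fintype.ofFinite _
  have key := bl3_vanish hM (P : Subgroup G) I hI t
    (fun w => ((ψ₁ w : ℂˣ) : ℂ) - ((ψ₂ w : ℂˣ) : ℂ))
    (by
      intro w hw b c i h
      have hw1 : (w : G) ≠ 1 := by
        intro h1
        apply hw
        have h2 : w = 1 := Subtype.ext h1
        rw [h2, map_one, map_one, sub_self]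
      exact bl3_H_odd hp2 P hab hCN hfrob t ht w.2 hw1 b c i h)
  have h1 : ∀ χ : IrrCharacter G,
      ((((blMult (P : Subgroup G) χ ψ₁ : ℕ) : ℤ) : ℂ)
        - (((blMult (P : Subgroup G) χ ψ₂ : ℕ) : ℤ) : ℂ))
        * ((χ : G → ℂ) t * (χ : G → ℂ) t / (χ : G → ℂ) 1)
      = (Nat.card (P : Subgroup G) : ℂ)⁻¹ *
        ((∑ w : (P : Subgroup G), (((ψ₁ w : ℂˣ) : ℂ) - ((ψ₂ w : ℂˣ) : ℂ))
          * (χ : G → ℂ) ((w : G)⁻¹))
          * ((χ : G → ℂ) t * (χ : G → ℂ) t / (χ : G → ℂ) 1)) := by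
    intro χ
    rw [Int.cast_natCast, Int.cast_natCast, bl3_mult_eq, bl3_mult_eq, ← mul_sub,
      ← Finset.sum_sub_distrib, mul_assoc]
    congr 2
    exact Finset.sum_congr rfl (fun w _ => by ring)
  rw [Finset.sum_congr rfl (fun χ _ => h1 χ), ← Finset.mul_sum, key, mul_zero]

/-- The vanishing for `p = 2`, for functions vanishing at `1` and at the conjugates of `t`. -/
theorem bl3_F_two [Finite G] {M : Ideal AlgInt} (hM : IsPModular 2 M) (P : Sylow 2 G)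
    (hab : IsMulCommutative P)
    (hCN : (Subgroup.centralizer ((P : Subgroup G) : Set G)).relIndex
      (Subgroup.normalizer ((P : Subgroup G) : Set G)) = 3)
    (hfrob : ∀ y : G, y ∈ (P : Subgroup G) → y ≠ 1 →
      Subgroup.centralizer ({y} : Set G) ⊓ Subgroup.normalizer ((P : Subgroup G) : Set G)
        = Subgroup.centralizer ((P : Subgroup G) : Set G))
    (I : Finset (IrrCharacter G)) (hI : ∀ χ, χ ∈ I ↔ χ ∈ principalBlock M G)
    (t : G) (ht : t * t = 1) [Fintype (P : Subgroup G)] (θ : ↥(P : Subgroup G) → ℂ)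
    (hθ1 : θ 1 = 0) (hθt : ∀ w : (P : Subgroup G), (∃ e : G, e * t * e⁻¹ = (w : G)) → θ w = 0) :
    ∑ χ ∈ I, (∑ w : (P : Subgroup G), θ w * (χ : G → ℂ) ((w : G)⁻¹))
      * ((χ : G → ℂ) t * (χ : G → ℂ) t / (χ : G → ℂ) 1) = 0 := by
  classical
  have : Fintype G := Fintype.ofFinite G
  haveI : Fact (Nat.Prime 2) := ⟨Nat.prime_two⟩
  apply bl3_vanish hM (P : Subgroup G) I hI t θ
  intro w hw b c i h
  have hw1 : (w : G) ≠ 1 := by
    intro h1
    apply hw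
    have h2 : w = 1 := Subtype.ext h1
    rw [h2, hθ1]
  exact bl3_H_two P hab hCN hfrob t ht w.2 hw1 (fun e he => hw (hθt w ⟨e, he⟩)) b c i h

end

end Cfsg.Agent.Lib.helper20
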