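import Mathlib
import Cfsg.Agent.Lib.helper20.BL3Van
import Cfsg.Agent.Lib.helper20.BL3Alg
import Cfsg.Agent.Lib.helper20.BL3Dual
import Cfsg.Agent.Lib.helper78.KleinBlock
import Cfsg.Agent.Lib.helper81.Kernel

/-!
# The involution part of the Brauer--Leonard theorem with `|N_G(P) : C_G(P)| = 3` (helper20)

* `bl3_endgame`: from the three relations at `1`, `t` and for `χ(t)²/χ(1)` to the conclusion
  (signs and the square).
-/

set_option autoImplicit false

namespace Cfsg.Agent.Lib.helper20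

open Cfsg Cfsg.Agent.Lib.helper81

universe u

section

variable {G : Type u} [Group G]

/-- A nonprincipal irreducible character does not take its degree at an involution lying in no
proper normal subgroup. -/
theorem bl3_ne_degree [Finite G] (χ : IrrCharacter G) (hχ : χ ≠ trivChar G) (t : G)
    (htK : ∀ K : Subgroup G, K.Normal → t ∈ K → K = ⊤) :
    (χ : G → ℂ) t ≠ (χ : G → ℂ) 1 := by
  classical
  have : Fintype G := Fintype.ofFinite G
  intro hker
  have htop := htK (charKer (χ : G → ℂ) (irr_isCharacter χ)) inferInstance hker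
  obtain ⟨g, hg⟩ := irr_exists_ne_of_ne_triv χ hχ
  have hmem : g ∈ charKer (χ : G → ℂ) (irr_isCharacter χ) := by
    rw [htop]; exact Subgroup.mem_top g
  exact hg hmem

theorem bl3_endgame [Finite G] (Xf : Finset (IrrCharacter G)) (a : IrrCharacter G → ℤ) (δ : ℤ)
    (hδ : δ = 1 ∨ δ = -1) (hcard : Xf.card = 3) (htriv : trivChar G ∈ Xf)
    (ha1 : a (trivChar G) = 1) (ha : ∀ χ ∈ Xf, a χ = 1 ∨ a χ = -1) (η : IrrCharacter G) (t : G)
    (ht : orderOf t = 2) (htK : ∀ K : Subgroup G, K.Normal → t ∈ K → K = ⊤)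
    (E1 : -(δ : ℂ) * (η : G → ℂ) 1 + ∑ χ ∈ Xf, (a χ : ℂ) * (χ : G → ℂ) 1 = 0)
    (E2 : -(δ : ℂ) * (η : G → ℂ) t + ∑ χ ∈ Xf, (a χ : ℂ) * (χ : G → ℂ) t = 0)
    (E3 : -(δ : ℂ) * ((η : G → ℂ) t * (η : G → ℂ) t / (η : G → ℂ) 1)
      + ∑ χ ∈ Xf, (a χ : ℂ) * ((χ : G → ℂ) t * (χ : G → ℂ) t / (χ : G → ℂ) 1) = 0) :
    Nat.card {χ : IrrCharacter G // χ ∈ (Xf : Set (IrrCharacter G)) ∧
        (χ : G → ℂ) ≠ (fun _ => 1) ∧ a χ = -1} + (if δ = 1 then 1 else 0) = 2 ∧
      IsSquare (charDegree (η : G → ℂ) * ∏ᶠ χ ∈ {χ : IrrCharacter G |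
        χ ∈ (Xf : Set (IrrCharacter G)) ∧ (χ : G → ℂ) ≠ fun _ => 1},
          charDegree (χ : G → ℂ)) := by
  classical
  have : Fintype G := Fintype.ofFinite G
  have ht2 : t * t = 1 := by rw [← pow_two, ← ht]; exact pow_orderOf_eq_one t
  obtain ⟨χ₂, χ₃, h23, h2t, h3t, h2X, h3X, hXf⟩ := bl3_three_decomp Xf (trivChar G) hcard htriv
  have hnot : trivChar G ∉ ({χ₂, χ₃} : Finset (IrrCharacter G)) := by
    simp only [Finset.mem_insert, Finset.mem_singleton, not_or]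
    exact ⟨h2t.symm, h3t.symm⟩
  have hsum : ∀ f : IrrCharacter G → ℂ, ∑ χ ∈ Xf, f χ = f (trivChar G) + (f χ₂ + f χ₃) := by
    intro f
    rw [hXf, Finset.sum_insert hnot, Finset.sum_pair h23]
  rw [hsum] at E1 E2 E3
  simp only [trivChar_apply, ha1] at E1 E2 E3
  obtain ⟨v₂, hv₂⟩ := Cfsg.Agent.Lib.helper78.irr_involution_int χ₂ t ht2
  obtain ⟨v₃, hv₃⟩ := Cfsg.Agent.Lib.helper78.irr_involution_int χ₃ t ht2
  obtain ⟨v₄, hv₄⟩ := Cfsg.Agent.Lib.helper78.irr_involution_int η t ht2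
  rw [irr_one_eq_charDegree χ₂, irr_one_eq_charDegree χ₃, irr_one_eq_charDegree η] at E1 E3
  rw [hv₂, hv₃, hv₄] at E2 E3
  have E1' : 1 + a χ₂ * (charDegree (χ₂ : G → ℂ) : ℤ) + a χ₃ * (charDegree (χ₃ : G → ℂ) : ℤ)
      - δ * (charDegree (η : G → ℂ) : ℤ) = 0 := by
    have h : ((1 + a χ₂ * (charDegree (χ₂ : G → ℂ) : ℤ) + a χ₃ * (charDegree (χ₃ : G → ℂ) : ℤ)
        - δ * (charDegree (η : G → ℂ) : ℤ) : ℤ) : ℂ) = 0 := by
      push_cast
      push_cast at E1
      linear_combination E1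
    exact_mod_cast h
  have E2' : 1 + a χ₂ * v₂ + a χ₃ * v₃ - δ * v₄ = 0 := by
    have h : ((1 + a χ₂ * v₂ + a χ₃ * v₃ - δ * v₄ : ℤ) : ℂ) = 0 := by
      push_cast
      push_cast at E2
      linear_combination E2
    exact_mod_cast h
  have E3' : (1 : ℚ) + a χ₂ * v₂ ^ 2 / (charDegree (χ₂ : G → ℂ) : ℚ)
      + a χ₃ * v₃ ^ 2 / (charDegree (χ₃ : G → ℂ) : ℚ)
      - δ * v₄ ^ 2 / (charDegree (η : G → ℂ) : ℚ) = 0 := by
    have h : (((1 : ℚ) + a χ₂ * v₂ ^ 2 / (charDegree (χ₂ : G → ℂ) : ℚ)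
        + a χ₃ * v₃ ^ 2 / (charDegree (χ₃ : G → ℂ) : ℚ)
        - δ * v₄ ^ 2 / (charDegree (η : G → ℂ) : ℚ) : ℚ) : ℂ) = 0 := by
      push_cast
      push_cast at E3
      linear_combination E3
    exact_mod_cast h
  have hk : v₂ ≠ (charDegree (χ₂ : G → ℂ) : ℤ) := by
    intro h
    apply bl3_ne_degree χ₂ h2t t htK
    rw [hv₂, irr_one_eq_charDegree, h]
    push_cast
    rfl
  obtain ⟨hcount, hsq⟩ := bl3_int_endgame (a χ₂) (a χ₃) δ (charDegree (χ₂ : G → ℂ))
    (charDegree (χ₃ : G → ℂ)) (charDegree (η : G → ℂ)) v₂ v₃ v₄ (ha χ₂ h2X) (ha χ₃ h3X) hδ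
    (irr_charDegree_pos χ₂) (irr_charDegree_pos χ₃) (irr_charDegree_pos η) E1' E2' E3' hk
  constructor
  · have hset : {χ : IrrCharacter G | χ ∈ (Xf : Set (IrrCharacter G)) ∧
          (χ : G → ℂ) ≠ (fun _ => 1) ∧ a χ = -1}
        = (((({χ₂, χ₃} : Finset (IrrCharacter G)).filter (fun χ => a χ = -1) :
            Finset (IrrCharacter G))) : Set (IrrCharacter G)) := by
      ext χ
      simp only [Set.mem_setOf_eq, Finset.coe_filter, Finset.mem_coe, hXf, Finset.mem_insert,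
        Finset.mem_singleton]
      constructor
      · rintro ⟨h1, h2, h3⟩
        refine ⟨?_, h3⟩
        rcases h1 with rfl | h1
        · exact absurd rfl h2
        · exact h1
      · rintro ⟨h1, h3⟩
        refine ⟨Or.inr h1, ?_, h3⟩
        rcases h1 with rfl | rfl
        · intro h; exact h2t (Subtype.ext h)
        · intro h; exact h3t (Subtype.ext h)
    have hcardset : Nat.card {χ : IrrCharacter G // χ ∈ (Xf : Set (IrrCharacter G)) ∧
          (χ : G → ℂ) ≠ (fun _ => 1) ∧ a χ = -1}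
        = (if a χ₂ = -1 then 1 else 0) + (if a χ₃ = -1 then 1 else 0) := by
      show Nat.card ↥{χ : IrrCharacter G | χ ∈ (Xf : Set (IrrCharacter G)) ∧
          (χ : G → ℂ) ≠ (fun _ => 1) ∧ a χ = -1} = _
      rw [hset, Nat.card_coe_set_eq, Set.ncard_coe_finset, Finset.card_filter,
        Finset.sum_pair h23]
    rw [hcardset]
    exact hcount
  · have hset : {χ : IrrCharacter G | χ ∈ (Xf : Set (IrrCharacter G)) ∧
          (χ : G → ℂ) ≠ fun _ => 1}
        = ((({χ₂, χ₃} : Finset (IrrCharacter G))) : Set (IrrCharacter G)) := by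
      ext χ
      simp only [Set.mem_setOf_eq, Finset.mem_coe, hXf, Finset.mem_insert,
        Finset.mem_singleton]
      constructor
      · rintro ⟨h1, h2⟩
        rcases h1 with rfl | h1
        · exact absurd rfl h2
        · exact h1
      · intro h1
        refine ⟨Or.inr h1, ?_⟩
        rcases h1 with rfl | rfl
        · intro h; exact h2t (Subtype.ext h)
        · intro h; exact h3t (Subtype.ext h)
    rw [hset, finprod_mem_coe_finset, Finset.prod_pair h23]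
    exact hsq

end

end Cfsg.Agent.Lib.helper20
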