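import Mathlib
import Cfsg.Agent.Lib.helper20.BL3Two
import Cfsg.Agent.Lib.helper81.BlRel
import Cfsg.Agent.Lib.helper81.BlComb2

/-!
# The case `p = 2` of the Brauer--Leonard configuration: a linear character (helper20)

`bl3_two_linear`: for `p = 2` one of the two nonprincipal characters of `X` is linear with sign `1`.
(Same computation as `bl3_two_contra`, with the conclusion made explicit.)
-/

set_option autoImplicit false

namespace Cfsg.Agent.Lib.helper20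

open Cfsg Cfsg.Agent.Lib.helper81

universe u

section

variable {G : Type u} [Group G]

open Classical in
theorem bl3_two_linear [Finite G] {M : Ideal AlgInt} (hM : IsPModular 2 M) (P : Sylow 2 G)
    (hab : IsMulCommutative P)
    (hCN : (Subgroup.centralizer ((P : Subgroup G) : Set G)).relIndex
      (Subgroup.normalizer ((P : Subgroup G) : Set G)) = 3)
    (hfrob : ∀ y : G, y ∈ (P : Subgroup G) → y ≠ 1 →
      Subgroup.centralizer ({y} : Set G) ⊓ Subgroup.normalizer ((P : Subgroup G) : Set G)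
        = Subgroup.centralizer ((P : Subgroup G) : Set G))
    (hm2 : 3 + 1 < Nat.card (P : Subgroup G))
    (I : Finset (IrrCharacter G)) (hI : ∀ χ, χ ∈ I ↔ χ ∈ principalBlock M G)
    (Y Xf : Finset (IrrCharacter G)) (hYI : Y ⊆ I) (hXf : ∀ χ, χ ∈ Xf ↔ χ ∈ I ∧ χ ∉ Y)
    (a : IrrCharacter G → ℤ) (ε : ℤ)
    (hε : ε = 1 ∨ ε = -1) (ζ : (↥(P : Subgroup G) →* ℂˣ) → IrrCharacter G)
    (hζY : ∀ ψ, ψ ≠ 1 → ζ ψ ∈ Y) (hsurj : ∀ η ∈ Y, ∃ ψ, ψ ≠ 1 ∧ ζ ψ = η)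
    (hiff : ∀ ψ ψ', ψ ≠ 1 → ψ' ≠ 1 → (ζ ψ = ζ ψ' ↔ blRel (P : Subgroup G) ψ ψ'))
    (hX : ∀ χ ∈ I, χ ∉ Y → ∀ ψ : ↥(P : Subgroup G) →* ℂˣ, ψ ≠ 1 →
      ((blMult (P : Subgroup G) χ 1 : ℕ) : ℤ) - ((blMult (P : Subgroup G) χ ψ : ℕ) : ℤ) = a χ)
    (hYv : ∀ ψ ψ' : ↥(P : Subgroup G) →* ℂˣ, ψ ≠ 1 → ψ' ≠ 1 →
      ((blMult (P : Subgroup G) (ζ ψ) 1 : ℕ) : ℤ) - ((blMult (P : Subgroup G) (ζ ψ) ψ' : ℕ) : ℤ)
        = 0 - ε * (if blRel (P : Subgroup G) ψ ψ' then 1 else 0))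
    (hcard : Xf.card = 3) (htriv : trivChar G ∈ Xf) (ha1 : a (trivChar G) = 1)
    (ha : ∀ χ ∈ Xf, a χ = 1 ∨ a χ = -1)
    (hcard3 : Nat.card (P : Subgroup G) - 1 = 3 * Y.card)
    (E1 : ∀ η ∈ Y, -(ε : ℂ) * (η : G → ℂ) 1 + ∑ χ ∈ Xf, (a χ : ℂ) * (χ : G → ℂ) 1 = 0)
    (t : G) (ht : orderOf t = 2) :
    ∃ χ₂ : IrrCharacter G, χ₂ ∈ Xf ∧ χ₂ ≠ trivChar G ∧ a χ₂ = 1 ∧
      charDegree (χ₂ : G → ℂ) = 1 := by
  classical
  haveI : Fact (Nat.Prime 2) := ⟨Nat.prime_two⟩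
  have : Fintype G := Fintype.ofFinite G
  have hab' : ∀ a b : (P : Subgroup G), a * b = b * a := fun a b => hab.is_comm.comm a b
  haveI : Finite (↥(P : Subgroup G) →* ℂˣ) := bl_finite_hom
  have : Fintype (P : Subgroup G) := Fintype.ofFinite _
  have : Fintype (↥(P : Subgroup G) →* ℂˣ) := Fintype.ofFinite _
  have hPne : (Nat.card (P : Subgroup G) : ℂ) ≠ 0 := by
    have h0 : 0 < Nat.card (P : Subgroup G) := Nat.card_pos
    exact_mod_cast h0.ne'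
  have ht2 : t * t = 1 := by rw [← pow_two, ← ht]; exact pow_orderOf_eq_one t
  have ht1 : t ≠ 1 := by
    rintro rfl
    rw [orderOf_one] at ht
    exact absurd ht (by norm_num)
  -- a conjugate `τ` of `t` in `P`
  obtain ⟨e₀, he₀⟩ := bl3_conj_mem_sylow' P t 1 (by rw [pow_one, pow_two]; exact ht2)
  obtain ⟨τ, hτ⟩ : ∃ τ : G, τ = e₀ * t * e₀⁻¹ := ⟨_, rfl⟩
  rw [← hτ] at he₀
  have hτ2 : τ * τ = 1 := by
    rw [hτ]
    calc e₀ * t * e₀⁻¹ * (e₀ * t * e₀⁻¹) = e₀ * (t * t) * e₀⁻¹ := by group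
      _ = 1 := by rw [ht2]; group
  have hτ1 : τ ≠ 1 := by
    intro h
    apply ht1
    have h1 : t = e₀⁻¹ * τ * e₀ := by rw [hτ]; group
    rw [h1, h]; group
  have hχτ : ∀ χ : IrrCharacter G, (χ : G → ℂ) t = (χ : G → ℂ) τ := by
    intro χ
    rw [hτ]
    exact (irr_classFun χ t e₀).symm
  obtain ⟨n, hn, hnC⟩ := bl3_exists_not_mem (P : Subgroup G) hCN
  have hfree := bl_hfree (P : Subgroup G) hfrob
  obtain ⟨τ', hτ'⟩ : ∃ τ' : G, τ' = n * τ * n⁻¹ := ⟨_, rfl⟩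
  have hτ'P : τ' ∈ (P : Subgroup G) := by
    rw [hτ']; exact (Subgroup.mem_normalizer_iff.mp hn τ).mp he₀
  have hτ'2 : τ' * τ' = 1 := by
    rw [hτ']
    calc n * τ * n⁻¹ * (n * τ * n⁻¹) = n * (τ * τ) * n⁻¹ := by group
      _ = 1 := by rw [hτ2]; group
  have hτ'1 : τ' ≠ 1 := by
    intro h
    apply hτ1
    have h1 : τ = n⁻¹ * τ' * n := by rw [hτ']; group
    rw [h1, h]; group
  have hne : τ ≠ τ' := by
    intro h
    have h1 : n * τ = τ * n := by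
      calc n * τ = (n * τ * n⁻¹) * n := by group
        _ = τ' * n := by rw [← hτ']
        _ = τ * n := by rw [← h]
    exact hτ1 (congrArg Subtype.val (hfree n hn hnC ⟨τ, he₀⟩ h1))
  have hprod := bl3_prod_orbit (P : Subgroup G) hab' hCN hfree hn hnC he₀
  rw [← hτ'] at hprod
  -- the linear character `ψ₀`
  have hcard4 : Nat.card (P : Subgroup G) ≠ 4 := by omega
  obtain ⟨ψ₀, hψ₀, hψ₀τ, hψ₀τ'⟩ := bl3_exists_hom hab' hcard4
    (⟨τ, he₀⟩ : (P : Subgroup G)) ⟨τ', hτ'P⟩ (Subtype.ext hτ2) (Subtype.ext hτ'2)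
    (fun h => hτ1 (congrArg Subtype.val h)) (fun h => hτ'1 (congrArg Subtype.val h))
    (fun h => hne (congrArg Subtype.val h))
  have hψ₀N : ∀ n' : G, n' ∈ Subgroup.normalizer ((P : Subgroup G) : Set G) →
      ∀ w : (P : Subgroup G), (w : G) = n' * τ * n'⁻¹ → ψ₀ w = 1 := by
    intro n' hn' w hw
    rcases bl3_conj_trichotomy (P : Subgroup G) hCN hn hnC hn' he₀ with h | h | h
    · have h1 : w = ⟨τ, he₀⟩ := Subtype.ext (hw.trans h)
      rw [h1, hψ₀τ]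
    · have h1 : w = ⟨τ', hτ'P⟩ := Subtype.ext (show (w : G) = τ' by rw [hw, h, hτ'])
      rw [h1, hψ₀τ']
    · have h1 : (w : G) = (τ * τ')⁻¹ := by
        rw [hw, h, ← hτ']
        exact eq_inv_of_mul_eq_one_right hprod
      have h2 : w = ((⟨τ, he₀⟩ : (P : Subgroup G)) * ⟨τ', hτ'P⟩)⁻¹ := Subtype.ext h1
      rw [h2, map_inv, map_mul, hψ₀τ, hψ₀τ', one_mul, inv_one]
  -- the class `O` of `ψ₀`
  obtain ⟨O, hO⟩ : ∃ O : Finset (↥(P : Subgroup G) →* ℂˣ),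
      ∀ ψ', ψ' ∈ O ↔ blRel (P : Subgroup G) ψ₀ ψ' :=
    ⟨Finset.univ.filter (fun ψ' => blRel (P : Subgroup G) ψ₀ ψ'), fun ψ' => by simp⟩
  have hOcard : O.card = 3 := by
    rw [← bl_class_card (P : Subgroup G) hab' 3 hCN hfrob ψ₀ hψ₀,
      ← Nat.card_congr (Equiv.subtypeEquivRight hO), Nat.card_eq_fintype_card, Fintype.card_coe]
  have hO1 : ∀ ψ' ∈ O, ψ' ≠ 1 := by
    rintro ψ' h rfl
    exact hψ₀ (blRel_one_right _ ((hO 1).mp h))
  have hOτ : ∀ ψ' ∈ O, ∀ n' : G, n' ∈ Subgroup.normalizer ((P : Subgroup G) : Set G) →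
      ∀ w : (P : Subgroup G), (w : G) = n' * τ * n'⁻¹ → ψ' w = 1 := by
    intro ψ' hψ' n' hn' w hw
    obtain ⟨n'', hn'', hrel⟩ := (hO ψ').mp hψ'
    have hw₀P : n''⁻¹ * (w : G) * n'' ∈ (P : Subgroup G) := by
      have h1 := (Subgroup.mem_normalizer_iff.mp (Subgroup.inv_mem _ hn'') (w : G)).mp w.2
      rwa [inv_inv] at h1
    rw [hrel ⟨n''⁻¹ * (w : G) * n'', hw₀P⟩ w (by show (w : G) = n'' * (n''⁻¹ * (w : G) * n'') * n''⁻¹; group)]
    exact hψ₀N (n''⁻¹ * n') (Subgroup.mul_mem _ (Subgroup.inv_mem _ hn'') hn') _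
      (by show n''⁻¹ * (w : G) * n'' = n''⁻¹ * n' * τ * (n''⁻¹ * n')⁻¹; rw [hw]; group)
  -- the function `θ`
  obtain ⟨θ, hθ⟩ : ∃ θ : ↥(P : Subgroup G) → ℂ,
      θ = fun w => ∑ ψ' ∈ O, (((ψ' w : ℂˣ) : ℂ) - 1) := ⟨_, rfl⟩
  have hθ1 : θ 1 = 0 := by
    rw [hθ]
    apply Finset.sum_eq_zero
    intro ψ' _
    rw [map_one, Units.val_one, sub_self]
  have hθt : ∀ w : (P : Subgroup G), (∃ e : G, e * t * e⁻¹ = (w : G)) → θ w = 0 := by
    rintro w ⟨e, he⟩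
    have h1 : (e * e₀⁻¹) * τ * (e * e₀⁻¹)⁻¹ = (w : G) := by rw [hτ, ← he]; group
    obtain ⟨n', hn', hn'w⟩ := bl_fusion P hab τ he₀ (e * e₀⁻¹) (by rw [h1]; exact w.2)
    rw [h1] at hn'w
    rw [hθ]
    apply Finset.sum_eq_zero
    intro ψ' hψ'
    rw [hOτ ψ' hψ' n' hn' w hn'w.symm, Units.val_one, sub_self]
  have key := bl3_F_two hM P hab hCN hfrob I hI t ht2 θ hθ1 hθt
  -- the coefficients
  have hcoef : ∀ χ : IrrCharacter G, ∑ w : (P : Subgroup G), θ w * (χ : G → ℂ) ((w : G)⁻¹)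
      = (Nat.card (P : Subgroup G) : ℂ) * ∑ ψ' ∈ O,
        (((blMult (P : Subgroup G) χ ψ' : ℕ) : ℂ) - ((blMult (P : Subgroup G) χ 1 : ℕ) : ℂ)) := by
    intro χ
    have h1 : ∀ ψ' : ↥(P : Subgroup G) →* ℂˣ,
        (Nat.card (P : Subgroup G) : ℂ) * ((blMult (P : Subgroup G) χ ψ' : ℕ) : ℂ)
          = ∑ w : (P : Subgroup G), ((ψ' w : ℂˣ) : ℂ) * (χ : G → ℂ) ((w : G)⁻¹) := by
      intro ψ'
      rw [bl3_mult_eq, ← mul_assoc, mul_inv_cancel₀ hPne, one_mul]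
    rw [Finset.mul_sum]
    have h2 : ∀ ψ' ∈ O, (Nat.card (P : Subgroup G) : ℂ) *
        (((blMult (P : Subgroup G) χ ψ' : ℕ) : ℂ) - ((blMult (P : Subgroup G) χ 1 : ℕ) : ℂ))
        = ∑ w : (P : Subgroup G), (((ψ' w : ℂˣ) : ℂ) - 1) * (χ : G → ℂ) ((w : G)⁻¹) := by
      intro ψ' _
      rw [mul_sub, h1 ψ', h1 1, ← Finset.sum_sub_distrib]
      apply Finset.sum_congr rfl
      intro w _
      rw [MonoidHom.one_apply, Units.val_one]
      ring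
    rw [Finset.sum_congr rfl h2, Finset.sum_comm]
    apply Finset.sum_congr rfl
    intro w _
    rw [hθ, Finset.sum_mul]
  obtain ⟨F, hF⟩ : ∃ F : IrrCharacter G → ℂ,
      F = fun χ : IrrCharacter G => (χ : G → ℂ) t * (χ : G → ℂ) t / (χ : G → ℂ) 1 := ⟨_, rfl⟩
  have key2 : ∑ χ ∈ I, (∑ ψ' ∈ O, (((blMult (P : Subgroup G) χ ψ' : ℕ) : ℂ)
      - ((blMult (P : Subgroup G) χ 1 : ℕ) : ℂ))) * F χ = 0 := by
    have h1 : ∑ χ ∈ I, (∑ w : (P : Subgroup G), θ w * (χ : G → ℂ) ((w : G)⁻¹))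
        * ((χ : G → ℂ) t * (χ : G → ℂ) t / (χ : G → ℂ) 1)
        = (Nat.card (P : Subgroup G) : ℂ) * ∑ χ ∈ I, (∑ ψ' ∈ O,
          (((blMult (P : Subgroup G) χ ψ' : ℕ) : ℂ)
            - ((blMult (P : Subgroup G) χ 1 : ℕ) : ℂ))) * F χ := by
      rw [Finset.mul_sum]
      apply Finset.sum_congr rfl
      intro χ _
      rw [hcoef χ, hF, mul_assoc]
    rw [key] at h1
    exact (mul_eq_zero.mp h1.symm).resolve_left hPne
  have hcX : ∀ χ ∈ Xf, ∑ ψ' ∈ O, (((blMult (P : Subgroup G) χ ψ' : ℕ) : ℂ)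
      - ((blMult (P : Subgroup G) χ 1 : ℕ) : ℂ)) = -3 * (a χ : ℂ) := by
    intro χ hχ
    obtain ⟨hχI, hχY⟩ := (hXf χ).mp hχ
    have h1 : ∀ ψ' ∈ O, (((blMult (P : Subgroup G) χ ψ' : ℕ) : ℂ)
        - ((blMult (P : Subgroup G) χ 1 : ℕ) : ℂ)) = -(a χ : ℂ) := by
      intro ψ' hψ'
      have h2 := hX χ hχI hχY ψ' (hO1 ψ' hψ')
      have h3 : (((((blMult (P : Subgroup G) χ 1 : ℕ) : ℤ)
          - ((blMult (P : Subgroup G) χ ψ' : ℕ) : ℤ) : ℤ)) : ℂ) = (a χ : ℂ) := by rw [h2]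
      push_cast at h3
      linear_combination -h3
    rw [Finset.sum_congr rfl h1, Finset.sum_const, hOcard]
    simp
  obtain ⟨η₀, hη₀⟩ : ∃ η₀ : IrrCharacter G, η₀ = ζ ψ₀ := ⟨_, rfl⟩
  have hη₀Y : η₀ ∈ Y := by rw [hη₀]; exact hζY ψ₀ hψ₀
  have hcY : ∀ η ∈ Y, ∑ ψ' ∈ O, (((blMult (P : Subgroup G) η ψ' : ℕ) : ℂ)
      - ((blMult (P : Subgroup G) η 1 : ℕ) : ℂ)) = if η = η₀ then 3 * (ε : ℂ) else 0 := by
    intro η hη
    obtain ⟨ψ, hψ, rfl⟩ := hsurj η hη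
    have h1 : ∀ ψ' ∈ O, (((blMult (P : Subgroup G) (ζ ψ) ψ' : ℕ) : ℂ)
        - ((blMult (P : Subgroup G) (ζ ψ) 1 : ℕ) : ℂ)) = if ζ ψ = η₀ then (ε : ℂ) else 0 := by
      intro ψ' hψ'
      have hψ'1 := hO1 ψ' hψ'
      have h2 := hYv ψ ψ' hψ hψ'1
      have h3 : blRel (P : Subgroup G) ψ ψ' ↔ ζ ψ = η₀ := by
        rw [hη₀, hiff ψ ψ₀ hψ hψ₀]
        constructor
        · intro h; exact blRel_trans _ h (blRel_symm _ ((hO ψ').mp hψ'))
        · intro h; exact blRel_trans _ h ((hO ψ').mp hψ')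
      have h4 : (((((blMult (P : Subgroup G) (ζ ψ) 1 : ℕ) : ℤ)
          - ((blMult (P : Subgroup G) (ζ ψ) ψ' : ℕ) : ℤ) : ℤ)) : ℂ)
          = ((0 - ε * (if blRel (P : Subgroup G) ψ ψ' then 1 else 0) : ℤ) : ℂ) := by rw [h2]
      by_cases h5 : ζ ψ = η₀
      · rw [if_pos h5]
        rw [if_pos (h3.mpr h5)] at h4
        push_cast at h4
        linear_combination -h4
      · rw [if_neg h5]
        rw [if_neg (fun h => h5 (h3.mp h))] at h4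
        push_cast at h4
        linear_combination -h4
    rw [Finset.sum_congr rfl h1, Finset.sum_const, hOcard]
    split_ifs <;> simp
  have hIu : I = Xf ∪ Y := by
    ext χ
    rw [Finset.mem_union, hXf]
    constructor
    · intro h
      by_cases hY : χ ∈ Y
      · exact Or.inr hY
      · exact Or.inl ⟨h, hY⟩
    · rintro (h | h)
      · exact h.1
      · exact hYI h
  have hdisj : Disjoint Xf Y := by
    rw [Finset.disjoint_left]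
    intro χ h1 h2
    exact ((hXf χ).mp h1).2 h2
  rw [hIu, Finset.sum_union hdisj] at key2
  have hA : ∑ χ ∈ Xf, (∑ ψ' ∈ O, (((blMult (P : Subgroup G) χ ψ' : ℕ) : ℂ)
      - ((blMult (P : Subgroup G) χ 1 : ℕ) : ℂ))) * F χ
      = -3 * ∑ χ ∈ Xf, (a χ : ℂ) * F χ := by
    rw [Finset.mul_sum]
    apply Finset.sum_congr rfl
    intro χ hχ
    rw [hcX χ hχ]
    ring
  have hBs : ∑ χ ∈ Y, (∑ ψ' ∈ O, (((blMult (P : Subgroup G) χ ψ' : ℕ) : ℂ)
      - ((blMult (P : Subgroup G) χ 1 : ℕ) : ℂ))) * F χ = 3 * (ε : ℂ) * F η₀ := by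
    rw [Finset.sum_eq_single_of_mem η₀ hη₀Y
      (fun η hη hne' => by rw [hcY η hη, if_neg hne', zero_mul]), hcY η₀ hη₀Y, if_pos rfl]
  rw [hA, hBs] at key2
  have key3 : ∑ χ ∈ Xf, (a χ : ℂ) * F χ = (ε : ℂ) * F η₀ := by
    linear_combination (-1 / 3 : ℂ) * key2
  -- values at `τ`
  have hXval : ∀ χ ∈ Xf, ∀ y : (P : Subgroup G), y ≠ 1 → (χ : G → ℂ) (y : G) = (a χ : ℂ) := by
    intro χ hχ y hy
    obtain ⟨hχI, hχY⟩ := (hXf χ).mp hχ
    exact bl_value_const (P : Subgroup G) hab' χ (a χ) (fun ψ hψ => hX χ hχI hχY ψ hψ) y hy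
  have hτne : (⟨τ, he₀⟩ : (P : Subgroup G)) ≠ 1 := fun h => hτ1 (congrArg Subtype.val h)
  have hsq1 : ∀ χ ∈ Xf, (a χ : ℂ) * (a χ : ℂ) = 1 := by
    intro χ hχ
    rcases ha χ hχ with h | h <;> rw [h] <;> norm_num
  have hFX : ∀ χ ∈ Xf, (a χ : ℂ) * F χ = (a χ : ℂ) / (χ : G → ℂ) 1 := by
    intro χ hχ
    have h1 : (χ : G → ℂ) t = (a χ : ℂ) := by
      rw [hχτ χ]; exact hXval χ hχ ⟨τ, he₀⟩ hτne
    rw [hF]
    show (a χ : ℂ) * ((χ : G → ℂ) t * (χ : G → ℂ) t / (χ : G → ℂ) 1) = _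
    rw [h1, hsq1 χ hχ]
    ring
  have hη₀τ : (η₀ : G → ℂ) t = 3 * (ε : ℂ) := by
    rw [hχτ η₀, hη₀]
    have h1 := bl_value_exc (P : Subgroup G) hab' (ζ ψ₀) 0 ε ψ₀ hψ₀
      (fun ψ' hψ' => hYv ψ₀ ψ' hψ₀ hψ') ⟨τ, he₀⟩ hτne
    rw [h1]
    have hset : {ψ' : ↥(P : Subgroup G) →* ℂˣ | blRel (P : Subgroup G) ψ₀ ψ'} = ↑O := by
      ext ψ'; simp [hO]
    rw [hset, finsum_mem_coe_finset]
    have h2 : ∀ ψ' ∈ O, ((ψ' (⟨τ, he₀⟩ : (P : Subgroup G)) : ℂˣ) : ℂ) = 1 := by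
      intro ψ' hψ'
      rw [hOτ ψ' hψ' 1 (Subgroup.one_mem _) ⟨τ, he₀⟩ (by show τ = 1 * τ * 1⁻¹; group),
        Units.val_one]
    rw [Finset.sum_congr rfl h2, Finset.sum_const, hOcard]
    simp
    ring
  have hεsq : (ε : ℂ) * (ε : ℂ) = 1 := by
    rcases hε with h | h <;> rw [h] <;> norm_num
  have hFη₀ : F η₀ = 9 / (η₀ : G → ℂ) 1 := by
    rw [hF]
    show (η₀ : G → ℂ) t * (η₀ : G → ℂ) t / (η₀ : G → ℂ) 1 = _
    rw [hη₀τ]
    have h1 : 3 * (ε : ℂ) * (3 * (ε : ℂ)) = 9 := by linear_combination 9 * hεsq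
    rw [h1]
  rw [Finset.sum_congr rfl hFX, hFη₀] at key3
  -- decomposition of `Xf`
  obtain ⟨χ₂, χ₃, h23, h2t, h3t, h2X, h3X, hXfe⟩ := bl3_three_decomp Xf (trivChar G) hcard htriv
  have hnot : trivChar G ∉ ({χ₂, χ₃} : Finset (IrrCharacter G)) := by
    simp only [Finset.mem_insert, Finset.mem_singleton, not_or]
    exact ⟨h2t.symm, h3t.symm⟩
  have hsum : ∀ f : IrrCharacter G → ℂ, ∑ χ ∈ Xf, f χ = f (trivChar G) + (f χ₂ + f χ₃) := by
    intro f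
    rw [hXfe, Finset.sum_insert hnot, Finset.sum_pair h23]
  have E1' := E1 η₀ hη₀Y
  rw [hsum] at E1' key3
  simp only [trivChar_apply, ha1] at E1' key3
  rw [irr_one_eq_charDegree χ₂, irr_one_eq_charDegree χ₃, irr_one_eq_charDegree η₀] at E1' key3
  have hn₂ := irr_charDegree_pos χ₂
  have hn₃ := irr_charDegree_pos χ₃
  have hn₄ := irr_charDegree_pos η₀
  obtain ⟨n₂, hn₂def⟩ : ∃ n₂ : ℕ, n₂ = charDegree (χ₂ : G → ℂ) := ⟨_, rfl⟩
  obtain ⟨n₃, hn₃def⟩ : ∃ n₃ : ℕ, n₃ = charDegree (χ₃ : G → ℂ) := ⟨_, rfl⟩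
  obtain ⟨n₄, hn₄def⟩ : ∃ n₄ : ℕ, n₄ = charDegree (η₀ : G → ℂ) := ⟨_, rfl⟩
  rw [← hn₂def, ← hn₃def, ← hn₄def] at E1' key3
  rw [← hn₂def] at hn₂
  rw [← hn₃def] at hn₃
  rw [← hn₄def] at hn₄
  have hn₂c : (n₂ : ℂ) ≠ 0 := by exact_mod_cast hn₂.ne'
  have hn₃c : (n₃ : ℂ) ≠ 0 := by exact_mod_cast hn₃.ne'
  have hn₄c : (n₄ : ℂ) ≠ 0 := by exact_mod_cast hn₄.ne'
  have ha₂sq : a χ₂ ^ 2 = 1 := by rcases ha χ₂ h2X with h | h <;> rw [h] <;> norm_num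
  have ha₃sq : a χ₃ ^ 2 = 1 := by rcases ha χ₃ h3X with h | h <;> rw [h] <;> norm_num
  have hεsq' : ε ^ 2 = 1 := by rcases hε with h | h <;> rw [h] <;> norm_num
  have hx : 1 + a χ₂ * (n₂ : ℤ) + a χ₃ * (n₃ : ℤ) + -ε * (n₄ : ℤ) = 0 := by
    have h : ((1 + a χ₂ * (n₂ : ℤ) + a χ₃ * (n₃ : ℤ) + -ε * (n₄ : ℤ) : ℤ) : ℂ) = 0 := by
      push_cast
      push_cast at E1'
      linear_combination E1'
    exact_mod_cast h
  have hR : (n₂ : ℤ) * n₃ * n₄ + a χ₂ * n₃ * n₄ + a χ₃ * n₂ * n₄ - 9 * ε * n₂ * n₃ = 0 := by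
    have h : (((n₂ : ℤ) * n₃ * n₄ + a χ₂ * n₃ * n₄ + a χ₃ * n₂ * n₄ - 9 * ε * n₂ * n₃ : ℤ) : ℂ)
        = 0 := by
      push_cast
      push_cast at key3
      have key4 := key3
      field_simp at key4
      linear_combination key4
    exact_mod_cast h
  have hS : (a χ₂ * (n₂ : ℤ)) * (a χ₃ * (n₃ : ℤ)) * (-ε * (n₄ : ℤ))
      + (a χ₃ * (n₃ : ℤ)) * (-ε * (n₄ : ℤ)) + (a χ₂ * (n₂ : ℤ)) * (-ε * (n₄ : ℤ))
      + 9 * (a χ₂ * (n₂ : ℤ)) * (a χ₃ * (n₃ : ℤ)) = 0 := by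
    linear_combination (-a χ₂ * a χ₃ * ε) * hR + (a χ₃ * ε * n₃ * n₄) * ha₂sq
      + (a χ₂ * ε * n₂ * n₄) * ha₃sq - (9 * a χ₂ * a χ₃ * n₂ * n₃) * hεsq'
  -- congruences modulo `|P|`
  have hdiv : ∀ χ ∈ Xf, ((Nat.card (P : Subgroup G) : ℕ) : ℤ)
      ∣ a χ * (charDegree (χ : G → ℂ) : ℤ) - 1 := by
    intro χ hχ
    have h1 := blMult_sum (P : Subgroup G) χ 1
    have h2 : ∑ y : (P : Subgroup G), (χ : G → ℂ) (y : G)
        * (((1 : ↥(P : Subgroup G) →* ℂˣ) y⁻¹ : ℂˣ) : ℂ)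
        = (χ : G → ℂ) 1 + ((Nat.card (P : Subgroup G) : ℂ) - 1) * (a χ : ℂ) := by
      rw [← Finset.add_sum_erase Finset.univ _ (Finset.mem_univ (1 : (P : Subgroup G)))]
      congr 1
      · rw [inv_one, MonoidHom.one_apply, Units.val_one, mul_one, Subgroup.coe_one]
      · have h3 : ∀ y ∈ Finset.univ.erase (1 : (P : Subgroup G)), (χ : G → ℂ) (y : G)
            * (((1 : ↥(P : Subgroup G) →* ℂˣ) y⁻¹ : ℂˣ) : ℂ) = (a χ : ℂ) := by
          intro y hy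
          rw [MonoidHom.one_apply, Units.val_one, mul_one]
          exact hXval χ hχ y (Finset.mem_erase.mp hy).1
        rw [Finset.sum_congr rfl h3, Finset.sum_const, Finset.card_erase_of_mem (Finset.mem_univ _),
          Finset.card_univ, ← Nat.card_eq_fintype_card, nsmul_eq_mul,
          Nat.cast_sub Nat.card_pos, Nat.cast_one]
    rw [h2, irr_one_eq_charDegree] at h1
    have h4 : (Nat.card (P : Subgroup G) : ℂ) * ((blMult (P : Subgroup G) χ 1 : ℕ) : ℂ)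
        = (charDegree (χ : G → ℂ) : ℂ) + ((Nat.card (P : Subgroup G) : ℂ) - 1) * (a χ : ℂ) := by
      rw [h1, ← mul_assoc, mul_inv_cancel₀ hPne, one_mul]
    have h5 : ((Nat.card (P : Subgroup G) : ℕ) : ℤ) * ((blMult (P : Subgroup G) χ 1 : ℕ) : ℤ)
        = (charDegree (χ : G → ℂ) : ℤ) + (((Nat.card (P : Subgroup G) : ℕ) : ℤ) - 1) * a χ := by
      have h6 : ((((Nat.card (P : Subgroup G) : ℕ) : ℤ) * ((blMult (P : Subgroup G) χ 1 : ℕ) : ℤ)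
          : ℤ) : ℂ) = (((charDegree (χ : G → ℂ) : ℤ)
            + (((Nat.card (P : Subgroup G) : ℕ) : ℤ) - 1) * a χ : ℤ) : ℂ) := by
        push_cast
        exact h4
      exact_mod_cast h6
    have hasq : a χ ^ 2 = 1 := by rcases ha χ hχ with h | h <;> rw [h] <;> norm_num
    refine ⟨a χ * ((blMult (P : Subgroup G) χ 1 : ℕ) : ℤ) - 1, ?_⟩
    linear_combination (-a χ) * h5 - (((Nat.card (P : Subgroup G) : ℕ) : ℤ) - 1) * hasq
  have h16 : (16 : ℤ) ∣ ((Nat.card (P : Subgroup G) : ℕ) : ℤ) := by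
    obtain ⟨k, hk⟩ := IsPGroup.exists_card_eq P.isPGroup'
    have hk' : Nat.card (P : Subgroup G) = 2 ^ k := hk
    have hk4 : 4 ≤ k := by
      by_contra hlt
      push Not at hlt
      interval_cases k <;> omega
    have h1 : (16 : ℕ) ∣ Nat.card (P : Subgroup G) := by
      rw [hk']
      exact pow_dvd_pow 2 hk4
    exact_mod_cast h1
  have hx₂ := bl3_two_key (a χ₂ * (n₂ : ℤ)) (a χ₃ * (n₃ : ℤ)) (-ε * (n₄ : ℤ)) hx hS
    (by rw [hn₂def]; exact h16.trans (hdiv χ₂ h2X)) (by rw [hn₃def]; exact h16.trans (hdiv χ₃ h3X))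
  -- `χ₂` is linear with `χ₂(t) = 1`
  have ha₂ : a χ₂ = 1 ∧ (n₂ : ℤ) = 1 := by
    rcases ha χ₂ h2X with h | h
    · rw [h, one_mul] at hx₂
      exact ⟨h, hx₂⟩
    · rw [h] at hx₂
      have h0 : (0 : ℤ) < n₂ := by exact_mod_cast hn₂
      omega
  refine ⟨χ₂, h2X, h2t, ha₂.1, ?_⟩
  rw [← hn₂def]
  exact_mod_cast ha₂.2


open Classical in
/-- For `p = 2`, in the Brauer--Leonard configuration with `|N_G(P) : C_G(P)| = 3`, there is a
nonprincipal linear character of `G` which is trivial on the Sylow `2`-subgroup `P`. -/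
theorem bl3_two_exists_linear [Finite G] {M : Ideal AlgInt} (hM : IsPModular 2 M) (P : Sylow 2 G)
    (hab : IsMulCommutative P)
    (hCN : (Subgroup.centralizer ((P : Subgroup G) : Set G)).relIndex
      (Subgroup.normalizer ((P : Subgroup G) : Set G)) = 3)
    (hfrob : ∀ y : G, y ∈ (P : Subgroup G) → y ≠ 1 →
      Subgroup.centralizer ({y} : Set G) ⊓ Subgroup.normalizer ((P : Subgroup G) : Set G)
        = Subgroup.centralizer ((P : Subgroup G) : Set G))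
    (hm2 : 3 + 1 < Nat.card (P : Subgroup G)) :
    ∃ χ : IrrCharacter G, χ ≠ trivChar G ∧ charDegree (χ : G → ℂ) = 1 ∧
      ∀ y : G, y ∈ (P : Subgroup G) → (χ : G → ℂ) y = 1 := by
  classical
  haveI : Fact (Nat.Prime 2) := ⟨Nat.prime_two⟩
  have hP1 : Nat.card (P : Subgroup G) ≠ 1 := by omega
  have hp : Nat.Prime 2 := Nat.prime_two
  have hMp := Cfsg.Agent.Lib.helper20.isPrime_of_isPModular hM
  have hab' : ∀ a b : (P : Subgroup G), a * b = b * a := fun a b => hab.is_comm.comm a b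
  haveI : Finite (↥(P : Subgroup G) →* ℂˣ) := bl_finite_hom
  have : Fintype (P : Subgroup G) := Fintype.ofFinite _
  have : Fintype (↥(P : Subgroup G) →* ℂˣ) := Fintype.ofFinite _
  obtain ⟨I, hI⟩ : ∃ I : Finset (IrrCharacter G), ∀ χ, χ ∈ I ↔ χ ∈ principalBlock M G :=
    ⟨(Set.toFinite (principalBlock M G)).toFinset, fun χ => Set.Finite.mem_toFinset _⟩
  have hB : principalBlock M G = (I : Set (IrrCharacter G)) :=
    Set.ext (fun χ => by rw [Finset.mem_coe, hI])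
  obtain ⟨ψ₀, ψ₁, h0, h1, h01⟩ := bl_exists_two (P : Subgroup G) hab' 3 hm2 hCN hfrob
  obtain ⟨d, ε, ζ, Y, a, hε, hYI, hζY, hsurj, hiff, hX, hYv, hnorm, hcard2, htriv, hXcard, hF⟩ :=
    bl_comb2 I (fun χ ψ => ((blMult (P : Subgroup G) χ ψ : ℕ) : ℤ)) (blRel (P : Subgroup G)) 1
      ((3 : ℕ) : ℤ) (fun χ _ ψ => Int.natCast_nonneg _)
      (fun ψ₁ ψ₂ ψ₃ => bl_rel hM P hab hP1 3 hCN hfrob I hI ψ₁ ψ₂ ψ₃)
      (blRel_refl _) (fun ψ ψ' h => blRel_symm _ h) (fun ψ ψ' ψ'' h h' => blRel_trans _ h h')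
      (fun ψ h => blRel_one_left _ h) ψ₀ ψ₁ h0 h1 h01
  have hsd : @sdiff (Finset (IrrCharacter G))
      (@Finset.instSDiff (IrrCharacter G) fun a b => Classical.propDecidable (a = b)) I Y
      = I \ Y := by
    ext χ
    exact (@Finset.mem_sdiff (IrrCharacter G) (fun a b => Classical.propDecidable (a = b)) I Y
      χ).trans Finset.mem_sdiff.symm
  simp only [hsd] at hnorm hXcard hF
  obtain ⟨y₀, hy₀⟩ : ∃ y : (P : Subgroup G), y ≠ 1 := by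
    by_contra h
    push Not at h
    apply hP1
    rw [Nat.card_eq_one_iff_unique]
    exact ⟨⟨fun a b => (h a).trans (h b).symm⟩, ⟨1⟩⟩
  have hYcard : Y.card = (Nat.card (P : Subgroup G) - 1) / 3 :=
    bl_card_Y (P : Subgroup G) hab' 3 (by norm_num) hCN hfrob Y ζ hζY hsurj hiff
  have hYcard3 : Nat.card (P : Subgroup G) - 1 = 3 * Y.card :=
    bl3_card_Y3 (P : Subgroup G) hab' hCN hfrob Y ζ hζY hsurj hiff
  have hXval : ∀ χ ∈ I, χ ∉ Y → ∀ y : (P : Subgroup G), y ≠ 1 →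
      (χ : G → ℂ) (y : G) = (a χ : ℂ) :=
    fun χ hχ hχY y hy => bl_value_const (P : Subgroup G) hab' χ (a χ)
      (fun ψ hψ => hX χ hχ hχY ψ hψ) y hy
  have hane : ∀ χ ∈ I \ Y, a χ ≠ 0 := by
    intro χ hχ
    obtain ⟨hχI, hχY⟩ := Finset.mem_sdiff.mp hχ
    intro h0'
    have h1' := hXval χ hχI hχY y₀ hy₀
    rw [h0', Int.cast_zero] at h1'
    exact bl_ne_zero hM P hab' χ ((hI χ).mp hχI) (y₀ : G) y₀.2 h1'
  have htI : trivChar G ∈ I := (hI _).mpr (trivChar_mem_principalBlock hMp)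
  have htX : trivChar G ∈ I \ Y := by
    refine Finset.mem_sdiff.mpr ⟨htI, htriv _ htI ?_⟩
    intro ψ ψ' hψ hψ'
    show ((blMult (P : Subgroup G) (trivChar G) ψ : ℕ) : ℤ)
      = ((blMult (P : Subgroup G) (trivChar G) ψ' : ℕ) : ℤ)
    rw [blMult_triv _ ψ hψ, blMult_triv _ ψ' hψ']
  have ha1 : a (trivChar G) = 1 := by
    have h := hXval (trivChar G) htI (Finset.mem_sdiff.mp htX).2 y₀ hy₀
    rw [trivChar_apply] at h
    exact_mod_cast h.symm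
  -- the norm equation
  obtain ⟨S, hS⟩ : ∃ S : ℤ, S = ∑ χ ∈ I \ Y, a χ ^ 2 := ⟨_, rfl⟩
  rw [← hS] at hnorm
  have hSge : (1 : ℤ) ≤ S := by
    have h1' : a (trivChar G) ^ 2 ≤ S := by
      rw [hS]
      exact Finset.single_le_sum (fun i _ => sq_nonneg (a i)) htX
    rw [ha1] at h1'
    linarith
  have hY2 : (2 : ℤ) ≤ (Y.card : ℤ) := by exact_mod_cast hcard2
  have hnorm' : (d - ε) ^ 2 + ((Y.card : ℤ) - 1) * d ^ 2 + S = 4 := by
    rw [hnorm]; norm_num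
  have hreg1 : ¬ 2 ∣ orderOf (1 : G) := by rw [orderOf_one]; exact hp.not_dvd_one
  have hSle : S ≤ 3 := by
    rcases bl3_norm_cases d ε (Y.card : ℤ) S hε hY2 hSge hnorm' with ⟨_, h3⟩ | ⟨_, h3⟩
    · linarith
    · linarith
  obtain ⟨hapm, hcS⟩ := bl3_sum_sq_le_three (I \ Y) a hane (by rw [← hS]; exact hSle)
  rw [← hS] at hcS
  have hdX : (d = 0 ∨ (d = ε ∧ Y.card = 2)) ∧ (I \ Y).card = 3 := by
    rcases bl3_norm_cases d ε (Y.card : ℤ) S hε hY2 hSge hnorm' with ⟨hd0, h3⟩ | ⟨hdε, h3⟩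
    · exact ⟨Or.inl hd0, by omega⟩
    · have hle : Y.card ≤ 4 := by omega
      have hge : 2 ≤ Y.card := hcard2
      interval_cases hYc : Y.card
      · exact ⟨Or.inr ⟨hdε, rfl⟩, by omega⟩
      · exfalso
        obtain ⟨k, hk⟩ := IsPGroup.exists_card_eq P.isPGroup'
        have hk' : Nat.card (P : Subgroup G) = 2 ^ k := hk
        have h10 : Nat.card (P : Subgroup G) = 10 := by omega
        rw [h10] at hk'
        exact bl3_prime_pow_ne_ten 2 k hp hk'.symm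
      · exfalso
        have hc1 : (I \ Y).card = 1 := by omega
        obtain ⟨x, hx⟩ := Finset.card_eq_one.mp hc1
        have hxt : x = trivChar G := by
          have h5 := htX
          rw [hx, Finset.mem_singleton] at h5
          exact h5.symm
        obtain ⟨η, hη⟩ : ∃ η, η ∈ Y := Finset.card_pos.mp (by omega)
        have hrel := (hF (fun χ => (χ : G → ℂ) 1)
          (fun ψ₁ ψ₂ => bl_T_const hM P I hI 1 hreg1 ψ₁ ψ₂)).2 η hη
        rw [hx, Finset.sum_singleton, hxt, ha1, trivChar_apply, hdε,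
          irr_one_eq_charDegree] at hrel
        have hrel' : (4 * ε - ε) * (charDegree (η : G → ℂ) : ℤ) + 1 = 0 := by
          have h6 : (((4 * ε - ε) * (charDegree (η : G → ℂ) : ℤ) + 1 : ℤ) : ℂ) = 0 := by
            push_cast
            push_cast at hrel
            linear_combination hrel
          exact_mod_cast h6
        rcases hε with h | h <;> rw [h] at hrel' <;> omega
  obtain ⟨hd, hXc⟩ := hdX
  -- `d = 0`
  have hd0 : d = 0 := by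
    rcases hd with h | ⟨_, hY2c⟩
    · exact h
    · exfalso
      have h7 : Nat.card (P : Subgroup G) = 7 := by omega
      obtain ⟨k, hk⟩ := IsPGroup.exists_card_eq P.isPGroup'
      have hk' : Nat.card (P : Subgroup G) = 2 ^ k := hk
      rw [h7] at hk'
      exact bl3_two_pow_ne_seven k hk'.symm
  -- an involution
  obtain ⟨t, ht⟩ : ∃ t : G, orderOf t = 2 := by
    apply exists_prime_orderOf_dvd_card' 2
    obtain ⟨k, hk⟩ := IsPGroup.exists_card_eq P.isPGroup'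
    have hk' : Nat.card (P : Subgroup G) = 2 ^ k := hk
    have hk1 : k ≠ 0 := by
      rintro rfl
      rw [pow_zero] at hk'
      exact hP1 hk'
    have h1 : 2 ∣ Nat.card (P : Subgroup G) := by
      rw [hk']; exact dvd_pow_self 2 hk1
    exact h1.trans (Subgroup.card_subgroup_dvd_card _)
  obtain ⟨χ₂, hχ₂X, hχ₂t, hχ₂a, hχ₂d⟩ := bl3_two_linear hM P hab hCN hfrob hm2 I hI Y (I \ Y) hYI
    (fun χ => Finset.mem_sdiff) a ε hε ζ hζY hsurj hiff hX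
    (fun ψ ψ' hψ hψ' => by
      have h := hYv ψ ψ' hψ hψ'
      rw [hd0] at h
      exact h) hXc htX ha1 hapm hYcard3
    (fun η hη => by
      have h := (hF (fun χ => (χ : G → ℂ) 1)
        (fun ψ₁ ψ₂ => bl_T_const hM P I hI 1 hreg1 ψ₁ ψ₂)).2 η hη
      rw [hd0, Int.cast_zero, mul_zero, zero_sub] at h
      exact h) t ht
  refine ⟨χ₂, hχ₂t, hχ₂d, ?_⟩
  intro y hy
  by_cases hy1 : y = 1
  · rw [hy1, irr_one_eq_charDegree, hχ₂d, Nat.cast_one]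
  · obtain ⟨hχI, hχY⟩ := Finset.mem_sdiff.mp hχ₂X
    have h := hXval χ₂ hχI hχY ⟨y, hy⟩ (fun h => hy1 (congrArg Subtype.val h))
    rw [hχ₂a, Int.cast_one] at h
    exact h

end

end Cfsg.Agent.Lib.helper20
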