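import Mathlib
import Cfsg.Agent.Lib.helper20.Trunc
import Cfsg.Agent.Lib.helper20.LocalSubring
import Cfsg.Agent.Lib.helper81.Necklace

/-!
# Nilpotent elements modulo the local ideal and `p`-elements (helper20)

If `a` is an element of the group algebra with local coefficients such that some power of `a` has
all coefficients in the local ideal (i.e. `a` is nilpotent modulo the local ideal), then the sum of
the coefficients of `a` at the elements of `p`-power order lies in the local ideal
(`memLocalIdeal_sum_pElt_of_jCoeff_pow`).  Proof: the coefficient of `1` in `a ^ (p ^ m)` is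
congruent modulo `p` to `∑_{y ^ (p ^ m) = 1} a(y) ^ (p ^ m)` (rotation of words; helper81's
necklace lemma), which is congruent to `(∑_{y ^ (p ^ m) = 1} a(y)) ^ (p ^ m)`.
-/

set_option autoImplicit false
set_option linter.unusedSectionVars false

namespace Cfsg.Agent.Lib.helper20

open Cfsg
open Cfsg.Agent.Lib.helper81 (cpow conv)

universe u

variable {G : Type u} [Group G]

/-- The local ideal is radical inside the local ring. -/
theorem memLocalIdeal_of_pow {M : Ideal AlgInt} (hM : M.IsPrime) {z : ℂ}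
    (hz : MemLocalRing M z) (N : ℕ) (h : MemLocalIdeal M (z ^ N)) : MemLocalIdeal M z := by
  have h1 : (⟨z, hz⟩ : localSubring M hM) ^ N ∈ IsLocalRing.maximalIdeal (localSubring M hM) := by
    rw [mem_maximalIdeal_localSubring]
    exact h
  have h2 := (IsLocalRing.maximalIdeal.isMaximal (localSubring M hM)).isPrime.mem_of_pow_mem N h1
  rw [mem_maximalIdeal_localSubring] at h2
  exact h2

theorem memLocalIdeal_prime {p : ℕ} {M : Ideal AlgInt} (hM : IsPModular p M) :
    MemLocalIdeal M (p : ℂ) := by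
  have h := memLocalIdeal_of_mem hM.2.1.isPrime hM.2.2
  simpa using h

theorem cpow_one' [Fintype G] (a : G → ℂ) : cpow a 1 = a := by
  classical
  funext u
  rw [Cfsg.Agent.Lib.helper81.cpow_succ, Cfsg.Agent.Lib.helper81.cpow_zero]
  unfold Cfsg.Agent.Lib.helper81.conv
  rw [Finset.sum_eq_single u]
  · simp
  · intro b _ hb
    have : ¬ (b⁻¹ * u = 1) := by
      intro h
      apply hb
      rw [inv_mul_eq_one] at h
      exact h
    simp [this]
  · intro h
    exact absurd (Finset.mem_univ u) h

/-- Iterated necklace congruence: the `θ`-weighted sum of the `p ^ m`-th convolution power of `a`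
is congruent modulo `p` to `∑ y, a y ^ (p ^ m) * θ (y ^ (p ^ m))`. -/
theorem necklace_iter [Fintype G] (p : ℕ) [Fact p.Prime]
    (R : ℂ → Prop) (h0 : R 0) (hadd : ∀ a b, R a → R b → R (a + b)) (h1 : R 1)
    (hmul : ∀ a b, R a → R b → R (a * b)) (m : ℕ) :
    ∀ (a : G → ℂ) (_ : ∀ g, R (a g)) (θ : G → ℂ) (_ : IsClassFunction G θ) (_ : ∀ g, R (θ g)),
    ∃ c : ℂ, R c ∧ ∑ y, cpow a (p ^ m) y * θ y
      = ∑ y, a y ^ (p ^ m) * θ (y ^ (p ^ m)) + (p : ℂ) * c := by
  have hnat : ∀ N : ℕ, R (N : ℂ) := by
    intro N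
    induction N with
    | zero => simpa using h0
    | succ N ih => rw [Nat.cast_succ]; exact hadd _ _ ih h1
  have hpow : ∀ (z : ℂ), R z → ∀ N : ℕ, R (z ^ N) := by
    intro z hz N
    induction N with
    | zero => simpa using h1
    | succ N ih => rw [pow_succ]; exact hmul _ _ ih hz
  induction m with
  | zero =>
    intro a ha θ hθ hθR
    refine ⟨0, h0, ?_⟩
    simp only [pow_zero, pow_one, mul_zero, add_zero]
    rw [cpow_one']
  | succ m ih =>
    intro a ha θ hθ hθR
    obtain ⟨c₁, hc₁, e₁⟩ := Cfsg.Agent.Lib.helper81.necklace_cpow_step p m R h0 hadd h1 hmul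
      a ha θ hθ hθR
    obtain ⟨c₂, hc₂, e₂⟩ := ih (fun g => a g ^ p) (fun g => hpow _ (ha g) p)
      (fun y => θ (y ^ p)) (by
        intro g h
        show θ ((h * g * h⁻¹) ^ p) = θ (g ^ p)
        rw [conj_pow]
        exact hθ _ _) (fun g => hθR _)
    refine ⟨c₂ + (p : ℂ) ^ m * c₁, hadd _ _ hc₂ (hmul _ _ (hpow _ (hnat p) m) hc₁), ?_⟩
    have e : p ^ (m + 1) = p * p ^ m := by rw [pow_succ']
    rw [e, e₁, e₂]
    have e3 : ∀ y : G, (a y ^ p) ^ p ^ m * θ ((y ^ p ^ m) ^ p)
        = a y ^ (p * p ^ m) * θ (y ^ (p * p ^ m)) := by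
      intro y
      rw [← pow_mul, ← pow_mul, mul_comm (p ^ m) p]
    simp_rw [e3]
    push_cast
    ring

/-- Coefficients of powers in the group algebra are convolution powers. -/
theorem coeff_pow_eq_cpow [Fintype G] (a : MonoidAlgebra ℂ G) (n : ℕ) (y : G) :
    (a ^ n).coeff y = cpow (fun g => a.coeff g) n y := by
  classical
  induction n generalizing y with
  | zero =>
    rw [pow_zero, Cfsg.Agent.Lib.helper81.cpow_zero, MonoidAlgebra.one_def,
      MonoidAlgebra.coeff_single, Finsupp.single_apply]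
    by_cases h : y = 1
    · simp [h]
    · have h' : ¬ (1 = y) := fun e => h e.symm
      simp [h, h']
  | succ n ih =>
    rw [pow_succ', coeff_mul_eq_sum, Cfsg.Agent.Lib.helper81.cpow_succ]
    unfold Cfsg.Agent.Lib.helper81.conv
    apply Finset.sum_congr rfl
    intro x _
    rw [ih]

/-- The sum of the values of a convolution power is the power of the sum. -/
theorem sum_cpow [Fintype G] (a : G → ℂ) (n : ℕ) : ∑ y, cpow a n y = (∑ y, a y) ^ n := by
  have h := Cfsg.Agent.Lib.helper81.word_sum a n (fun _ => (1 : ℂ))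
  simp only [mul_one] at h
  rw [← h, Fintype.sum_pow]

open Classical in
/-- **Nilpotent trace lemma**: if `a` has local coefficients and `a ^ k` has all coefficients in the
local ideal, then the sum of the coefficients of `a` over the elements of `p`-power order lies in
the local ideal. -/
theorem memLocalIdeal_sum_pElt_of_jCoeff_pow [Fintype G] {p : ℕ} [Fact p.Prime]
    {M : Ideal AlgInt} (hM : IsPModular p M) (a : MonoidAlgebra ℂ G) (ha : LocalCoeff M a)
    (k : ℕ) (hk : JCoeff M (a ^ k)) :
    MemLocalIdeal M (∑ x : G, if (∃ j : ℕ, orderOf x = p ^ j) then a.coeff x else 0) := by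
  have hMp : M.IsPrime := hM.2.1.isPrime
  have hpp : p.Prime := Fact.out
  set m : ℕ := k + Fintype.card G with hm
  have hkm : k ≤ p ^ m := by
    have h1 : k < p ^ k := Nat.lt_pow_self hpp.one_lt
    have h2 : p ^ k ≤ p ^ m := Nat.pow_le_pow_right hpp.pos (by omega)
    omega
  have hP : ∀ y : G, y ^ (p ^ m) = 1 ↔ ∃ j : ℕ, orderOf y = p ^ j := by
    intro y
    constructor
    · intro h
      have h1 : orderOf y ∣ p ^ m := orderOf_dvd_of_pow_eq_one h
      obtain ⟨j, -, hj⟩ := (Nat.dvd_prime_pow hpp).1 h1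
      exact ⟨j, hj⟩
    · rintro ⟨j, hj⟩
      have h1 : p ^ j ≤ Fintype.card G := by
        rw [← hj]; exact orderOf_le_card_univ
      have h2 : j < p ^ j := Nat.lt_pow_self hpp.one_lt
      have h3 : p ^ j ∣ p ^ m := pow_dvd_pow p (by omega)
      rw [← hj] at h3
      exact orderOf_dvd_iff_pow_eq_one.1 h3
  have hJ : JCoeff M (a ^ (p ^ m)) := by
    have e : a ^ (p ^ m) = a ^ k * a ^ (p ^ m - k) := by
      rw [← pow_add, Nat.add_sub_cancel' hkm]
    rw [e]
    exact hk.mul_right hMp (ha.pow hMp _)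
  have hpJ : MemLocalIdeal M (p : ℂ) := memLocalIdeal_prime hM
  -- first necklace: the indicator of the identity
  obtain ⟨c, hc, e1⟩ := necklace_iter p (MemLocalRing M) (memLocalRing_zero hMp)
    (fun _ _ => memLocalRing_add hMp) (memLocalRing_one hMp) (fun _ _ => memLocalRing_mul hMp) m
    (fun g => a.coeff g) ha (fun y => if y = 1 then 1 else 0)
    (by
      intro g h
      have : (h * g * h⁻¹ = 1) ↔ g = 1 := by
        constructor
        · intro e
          have : g = h⁻¹ * (h * g * h⁻¹) * h := by group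
          rw [this, e]; group
        · rintro rfl; group
      simp only [this])
    (by
      intro g
      by_cases hg : g = 1
      · simp only [hg, if_true]; exact memLocalRing_one hMp
      · simp only [hg, if_false]; exact memLocalRing_zero hMp)
  have e1' : ∑ y, cpow (fun g => a.coeff g) (p ^ m) y * (if y = 1 then (1 : ℂ) else 0)
      = (a ^ (p ^ m)).coeff 1 := by
    rw [Finset.sum_eq_single (1 : G)]
    · rw [if_pos rfl, mul_one, coeff_pow_eq_cpow]
    · intro b _ hb
      rw [if_neg hb, mul_zero]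
    · intro h
      exact absurd (Finset.mem_univ _) h
  rw [e1'] at e1
  have hS1 : MemLocalIdeal M (∑ y : G, a.coeff y ^ (p ^ m)
      * (if y ^ (p ^ m) = 1 then (1 : ℂ) else 0)) := by
    have : ∑ y : G, a.coeff y ^ (p ^ m) * (if y ^ (p ^ m) = 1 then (1 : ℂ) else 0)
        = (a ^ (p ^ m)).coeff 1 - (p : ℂ) * c := by
      rw [e1]; ring
    rw [this]
    exact memLocalIdeal_sub hMp (hJ 1) (memLocalIdeal_mul_right hMp hpJ hc)
  -- second necklace: the constant function, for the truncated coefficients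
  set α' : G → ℂ := fun x => if (∃ j : ℕ, orderOf x = p ^ j) then a.coeff x else 0 with hα'
  have hα'R : ∀ g, MemLocalRing M (α' g) := by
    intro g
    by_cases hg : ∃ j : ℕ, orderOf g = p ^ j
    · simp only [hα', hg, if_true]; exact ha g
    · simp only [hα', hg, if_false]; exact memLocalRing_zero hMp
  obtain ⟨c', hc', e2⟩ := necklace_iter p (MemLocalRing M) (memLocalRing_zero hMp)
    (fun _ _ => memLocalRing_add hMp) (memLocalRing_one hMp) (fun _ _ => memLocalRing_mul hMp) m
    α' hα'R (fun _ => (1 : ℂ)) (fun _ _ => rfl) (fun _ => memLocalRing_one hMp)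
  simp only [mul_one] at e2
  rw [sum_cpow] at e2
  have e3 : ∑ y : G, α' y ^ (p ^ m)
      = ∑ y : G, a.coeff y ^ (p ^ m) * (if y ^ (p ^ m) = 1 then (1 : ℂ) else 0) := by
    apply Finset.sum_congr rfl
    intro y _
    by_cases hy : ∃ j : ℕ, orderOf y = p ^ j
    · have hy' : y ^ (p ^ m) = 1 := (hP y).2 hy
      simp only [hα', hy, hy', if_true, mul_one]
    · have hy' : ¬ (y ^ (p ^ m) = 1) := fun h => hy ((hP y).1 h)
      have hp0 : p ^ m ≠ 0 := pow_ne_zero _ hpp.ne_zero
      simp only [hα', hy, hy', if_false, mul_zero, zero_pow hp0]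
  rw [e3] at e2
  have hS2 : MemLocalIdeal M ((∑ y : G, α' y) ^ (p ^ m)) := by
    rw [e2]
    exact memLocalIdeal_add hMp hS1 (memLocalIdeal_mul_right hMp hpJ hc')
  exact memLocalIdeal_of_pow hMp (memLocalRing_sum hMp _ _ (fun g _ => hα'R g)) _ hS2

end Cfsg.Agent.Lib.helper20
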