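import Mathlib
import Cfsg.Agent.Lib.helper20.NilTrace
import Cfsg.Agent.Lib.helper20.BlockOrth
import Cfsg.Agent.Lib.helper20.Osima
import Cfsg.Agent.Lib.helper84.BlockOrth
import Cfsg.Agent.Lib.helper81.Blocks

/-!
# The principal block idempotent modulo the local ideal (helper20)

Let `s` be the sum of the `p`-regular elements, `R` their number.  Then `R` is a unit of the local
ring, and for every `p`-regular `g` the number `N(g)` of `p`-elements `x` with `x * g` `p`-regular
satisfies `N(g) ≡ R * e₀(g)` modulo the local ideal, where `e₀` is the principal block idempotent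
(Külshammer).
-/

set_option autoImplicit false
set_option linter.unusedSectionVars false

namespace Cfsg.Agent.Lib.helper20

open Cfsg
open Cfsg.Agent.Lib.helper81 (blockIdem coeff_blockIdem omega_blockIdem isCentralElt_blockIdem
  localCoeff_blockIdem trivChar sum_coeff_mul_eq_omega blockCoeff_eq_sum irr_conjInv irr_inv
  isPBlock_principalBlock memLocalRing_inv)
open scoped ComplexConjugate

universe u

variable {G : Type u} [Group G]

open Classical in
/-- The sum of the group elements satisfying `S`. -/
noncomputable def indAlg [Fintype G] (S : G → Prop) : MonoidAlgebra ℂ G :=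
  ∑ g ∈ Finset.univ.filter (fun g : G => S g), MonoidAlgebra.single g (1 : ℂ)

open Classical in
theorem coeff_indAlg [Fintype G] (S : G → Prop) (g : G) :
    (indAlg S).coeff g = if S g then 1 else 0 := by
  unfold indAlg
  rw [MonoidAlgebra.coeff_sum, Finsupp.finsetSum_apply]
  simp_rw [MonoidAlgebra.coeff_single, Finsupp.single_apply]
  rw [Finset.sum_ite_eq']
  simp

theorem isCentralElt_indAlg [Fintype G] (S : G → Prop) (hS : ∀ g x : G, S (x * g * x⁻¹) ↔ S g) :
    IsCentralElt (indAlg S) := by
  classical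
  rw [isCentralElt_iff]
  intro g x
  rw [coeff_indAlg, coeff_indAlg]
  simp only [hS g x]

theorem localCoeff_indAlg [Fintype G] {M : Ideal AlgInt} (hM : M.IsPrime) (S : G → Prop) :
    LocalCoeff M (indAlg S) := by
  classical
  intro g
  rw [coeff_indAlg]
  split_ifs
  · exact memLocalRing_one hM
  · exact memLocalRing_zero hM

/-- For a central element `a` and an irreducible character `χ`:
`∑ x, a(x) χ(x g) = ω_χ(a) χ(g)`. -/
theorem sum_coeff_mul_irr_shift [Fintype G] (χ : IrrCharacter G) (a : MonoidAlgebra ℂ G)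
    (ha : IsCentralElt a) (g : G) :
    ∑ x : G, a.coeff x * (χ : G → ℂ) (x * g) = omega (χ : G → ℂ) a * (χ : G → ℂ) g := by
  have e1 : ∑ x : G, a.coeff x * (χ : G → ℂ) (x * g)
      = ∑ y : G, (a * MonoidAlgebra.single g (1 : ℂ)).coeff y * (χ : G → ℂ) y := by
    rw [← Equiv.sum_comp (Equiv.mulRight g)
      (fun y => (a * MonoidAlgebra.single g (1 : ℂ)).coeff y * (χ : G → ℂ) y)]
    apply Finset.sum_congr rfl
    intro x _
    show _ = (a * MonoidAlgebra.single g (1 : ℂ)).coeff (x * g) * (χ : G → ℂ) (x * g)
    rw [MonoidAlgebra.coeff_mul_single_apply, mul_one, mul_inv_cancel_right]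
  rw [e1, sum_coeff_mul_eq_omega, omega_mul (χ : G → ℂ) χ.2 _ _ ha, mul_assoc,
    ← sum_coeff_mul_eq_omega, sum_coeff_single_mul, one_mul]

theorem pElt_conj_iff (p : ℕ) (g x : G) :
    (∃ j : ℕ, orderOf (x * g * x⁻¹) = p ^ j) ↔ ∃ j : ℕ, orderOf g = p ^ j := by
  have h : orderOf (x * g * x⁻¹) = orderOf g := by
    have := orderOf_injective (MulAut.conj x).toMonoidHom (MulAut.conj x).injective g
    simpa using this
  rw [h]

theorem pReg_conj_iff (p : ℕ) (g x : G) :
    (¬ p ∣ orderOf (x * g * x⁻¹)) ↔ ¬ p ∣ orderOf g := by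
  have h : orderOf (x * g * x⁻¹) = orderOf g := by
    have := orderOf_injective (MulAut.conj x).toMonoidHom (MulAut.conj x).injective g
    simpa using this
  rw [h]

open Classical in
/-- For a block `B` and a `p`-regular `g`, the sum of the idempotent coefficients of `B` at the
elements `x * g`, `x` of `p`-power order, is the coefficient at `g` (block orthogonality). -/
theorem sum_pElt_blockCoeff_mul [Fintype G] {p : ℕ} [Fact p.Prime] {M : Ideal AlgInt}
    (hM : IsPModular p M) (B : Set (IrrCharacter G)) (hB : IsPBlock M B) (g : G)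
    (hg : ¬ p ∣ orderOf g) :
    ∑ x : G, (if (∃ j : ℕ, orderOf x = p ^ j) then blockCoeff B (x * g) else 0)
      = blockCoeff B g := by
  set t : MonoidAlgebra ℂ G := indAlg (fun x : G => ∃ j : ℕ, orderOf x = p ^ j) with ht
  have htc : IsCentralElt t := isCentralElt_indAlg _ (fun g x => pElt_conj_iff p g x)
  have hreal : ∀ χ : IrrCharacter G, conj ((χ : G → ℂ) 1) = (χ : G → ℂ) 1 := by
    intro χ
    rw [← irr_inv, inv_one]
  -- the key identity for each character
  have key : ∀ χ : IrrCharacter G,
      (χ : G → ℂ) 1 * conj (∑ x : G, t.coeff x * (χ : G → ℂ) (x * g))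
        = ∑ x : G, t.coeff x * conj ((χ : G → ℂ) x * (χ : G → ℂ) g) := by
    intro χ
    rw [sum_coeff_mul_irr_shift χ t htc g, map_mul, ← mul_assoc, ← hreal χ, ← map_mul,
      mul_comm ((χ : G → ℂ) 1), ← sum_coeff_mul_eq_omega, map_sum, Finset.sum_mul]
    apply Finset.sum_congr rfl
    intro x _
    have : conj (t.coeff x) = t.coeff x := by
      rw [ht, coeff_indAlg]
      split_ifs <;> simp
    rw [map_mul, map_mul, this, mul_assoc]
  have hvan : ∀ x : G, (∃ j : ℕ, orderOf x = p ^ j) → x ≠ 1 →
      ∑ χ : IrrCharacter G, (if χ ∈ B then (χ : G → ℂ) x * (χ : G → ℂ) g else 0) = 0 := by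
    intro x hx hx1
    have h1 : IsPPart p x x := ⟨1, mul_one x, Commute.one_right x, hx, by
      rw [orderOf_one]
      exact (Fact.out : p.Prime).one_lt.ne' ∘ Nat.dvd_one.1⟩
    have h2 : IsPPart p g⁻¹ 1 :=
      ⟨g⁻¹, one_mul _, Commute.one_left _, ⟨0, by simp⟩, by rw [orderOf_inv]; exact hg⟩
    have h3 : ¬ IsConj x 1 := by
      rw [isConj_one_left]; exact hx1
    have h4 := sum_block_mul_inv_eq_zero hM x g⁻¹ x 1 h1 h2 h3 B hB
    rw [inv_inv, finsum_mem_def, finsum_eq_sum_of_fintype] at h4
    simp only [Set.indicator_apply] at h4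
    exact h4
  have e1 : ∀ x : G, (if (∃ j : ℕ, orderOf x = p ^ j) then blockCoeff B (x * g) else 0)
      = (Nat.card G : ℂ)⁻¹ * ∑ χ : IrrCharacter G,
          (if χ ∈ B then (χ : G → ℂ) 1 * conj (t.coeff x * (χ : G → ℂ) (x * g)) else 0) := by
    intro x
    rw [ht, coeff_indAlg]
    split_ifs with hx
    · rw [blockCoeff_eq_sum]
      simp
    · simp
  simp_rw [e1]
  rw [← Finset.mul_sum, Finset.sum_comm]
  have e2 : ∀ χ : IrrCharacter G,
      ∑ x : G, (if χ ∈ B then (χ : G → ℂ) 1 * conj (t.coeff x * (χ : G → ℂ) (x * g)) else 0)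
        = if χ ∈ B then ∑ x : G, t.coeff x * conj ((χ : G → ℂ) x * (χ : G → ℂ) g) else 0 := by
    intro χ
    split_ifs with hχ
    · rw [← key χ, map_sum, Finset.mul_sum]
    · simp
  simp_rw [e2]
  have e3 : ∑ χ : IrrCharacter G,
      (if χ ∈ B then ∑ x : G, t.coeff x * conj ((χ : G → ℂ) x * (χ : G → ℂ) g) else 0)
      = ∑ x : G, t.coeff x * conj (∑ χ : IrrCharacter G,
          (if χ ∈ B then (χ : G → ℂ) x * (χ : G → ℂ) g else 0)) := by
    have : ∀ χ : IrrCharacter G,
        (if χ ∈ B then ∑ x : G, t.coeff x * conj ((χ : G → ℂ) x * (χ : G → ℂ) g) else 0)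
        = ∑ x : G, t.coeff x * (if χ ∈ B then conj ((χ : G → ℂ) x * (χ : G → ℂ) g) else 0) := by
      intro χ
      split_ifs
      · rfl
      · simp
    simp_rw [this]
    rw [Finset.sum_comm]
    apply Finset.sum_congr rfl
    intro x _
    rw [← Finset.mul_sum, map_sum]
    congr 1
    apply Finset.sum_congr rfl
    intro χ _
    split_ifs
    · rfl
    · simp
  rw [e3, Finset.sum_eq_single (1 : G)]
  · rw [ht, coeff_indAlg, if_pos ⟨0, by simp⟩, one_mul, blockCoeff_eq_sum, map_sum]
    congr 1
    apply Finset.sum_congr rfl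
    intro χ _
    split_ifs
    · rw [map_mul, hreal]
    · simp
  · intro x _ hx1
    rw [ht, coeff_indAlg]
    split_ifs with hx
    · rw [hvan x hx hx1]; simp
    · simp
  · intro h
    exact absurd (Finset.mem_univ _) h

open Classical in
/-- The sum of an irreducible character outside the principal block over the `p`-regular
elements vanishes. -/
theorem sum_pRegular_irr_eq_zero [Fintype G] {p : ℕ} [Fact p.Prime] {M : Ideal AlgInt}
    (hM : IsPModular p M) (χ : IrrCharacter G) (hχ : χ ∉ principalBlock M G) :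
    ∑ x : G, (if ¬ p ∣ orderOf x then (χ : G → ℂ) x else 0) = 0 := by
  have h1 : ¬ SameBlock M (χ : G → ℂ) (trivChar G : G → ℂ) := by
    intro h
    apply hχ
    show SameBlock M (fun _ : G => (1 : ℂ)) (χ : G → ℂ)
    intro g
    have := memLocalIdeal_neg (h g)
    rw [neg_sub] at this
    exact this
  have h2 := Cfsg.Agent.Lib.helper84.sum_pRegular_irr_mul_conj hM χ (trivChar G) h1
  refine Eq.trans ?_ h2
  apply Finset.sum_congr rfl
  intro x _
  split_ifs <;> simp

open Classical in
/-- The number of `p`-regular elements, as a complex number. -/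
noncomputable def pRegCount [Fintype G] (p : ℕ) : ℂ :=
  ∑ y : G, if ¬ p ∣ orderOf y then (1 : ℂ) else 0

theorem memLocalRing_pRegCount [Fintype G] {M : Ideal AlgInt} (hM : M.IsPrime) (p : ℕ) :
    MemLocalRing M (pRegCount (G := G) p) := by
  classical
  unfold pRegCount
  apply memLocalRing_sum hM
  intro g _
  split_ifs
  · exact memLocalRing_zero hM
  · exact memLocalRing_one hM

open Classical in
/-- The central character values of the sum `s` of the `p`-regular elements: congruent to the
number of `p`-regular elements on the principal block, zero elsewhere. -/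
theorem omega_pRegSum [Fintype G] {p : ℕ} [Fact p.Prime] {M : Ideal AlgInt}
    (hM : IsPModular p M) (χ : IrrCharacter G) :
    MemLocalIdeal M (omega (χ : G → ℂ) (indAlg (fun y : G => ¬ p ∣ orderOf y))
      - pRegCount (G := G) p * (if χ ∈ principalBlock M G then 1 else 0)) := by
  classical
  have hMp : M.IsPrime := hM.2.1.isPrime
  set s : MonoidAlgebra ℂ G := indAlg (fun y : G => ¬ p ∣ orderOf y) with hs
  have hsc : IsCentralElt s := isCentralElt_indAlg _ (fun g x => pReg_conj_iff p g x)
  have hsl : LocalCoeff M s := localCoeff_indAlg hMp _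
  split_ifs with hχ
  · have h1 := memLocalIdeal_omega_sub hMp (fun _ : G => (1 : ℂ)) (χ : G → ℂ)
      (fun _ _ _ => rfl) (irr_conjInv χ) hχ s hsc hsl
    have h2 : omega (fun _ : G => (1 : ℂ)) s = pRegCount (G := G) p := by
      unfold omega pRegCount
      rw [div_one]
      apply Finset.sum_congr rfl
      intro g _
      rw [hs, coeff_indAlg, mul_one]
      split_ifs <;> rfl
    rw [h2] at h1
    have := memLocalIdeal_neg h1
    rw [neg_sub] at this
    rw [mul_one]
    exact this
  · have h1 : omega (χ : G → ℂ) s = 0 := by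
      unfold omega
      have : ∑ g : G, s.coeff g * (χ : G → ℂ) g
          = ∑ x : G, (if ¬ p ∣ orderOf x then (χ : G → ℂ) x else 0) := by
        apply Finset.sum_congr rfl
        intro g _
        rw [hs, coeff_indAlg]
        split_ifs <;> simp
      rw [this, sum_pRegular_irr_eq_zero hM χ hχ, zero_div]
    rw [h1, mul_zero, sub_zero]
    exact memLocalIdeal_zero hMp

/-- The number of `p`-regular elements is a unit modulo the local ideal. -/
theorem not_memLocalIdeal_pRegCount [Fintype G] {p : ℕ} [Fact p.Prime] {M : Ideal AlgInt}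
    (hM : IsPModular p M) : ¬ MemLocalIdeal M (pRegCount (G := G) p) := by
  classical
  intro hR
  have hMp : M.IsPrime := hM.2.1.isPrime
  have hpp : p.Prime := Fact.out
  set s : MonoidAlgebra ℂ G := indAlg (fun y : G => ¬ p ∣ orderOf y) with hs
  have hsc : IsCentralElt s := isCentralElt_indAlg _ (fun g x => pReg_conj_iff p g x)
  have hsl : LocalCoeff M s := localCoeff_indAlg hMp _
  have hω : ∀ χ : IrrCharacter G, MemLocalIdeal M (omega (χ : G → ℂ) s) := by
    intro χ
    have h1 := omega_pRegSum hM χ
    have h2 : MemLocalIdeal M (pRegCount (G := G) p * (if χ ∈ principalBlock M G then 1 else 0)) := by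
      apply memLocalIdeal_mul_right hMp hR
      split_ifs
      · exact memLocalRing_one hMp
      · exact memLocalRing_zero hMp
    have h3 := memLocalIdeal_add hMp h1 h2
    rw [sub_add_cancel] at h3
    exact h3
  obtain ⟨k, hk⟩ := exists_pow_jCoeff hMp s hsc hsl hω
  have h4 := memLocalIdeal_sum_pElt_of_jCoeff_pow hM s hsl k hk
  have h5 : ∑ x : G, (if (∃ j : ℕ, orderOf x = p ^ j) then s.coeff x else 0) = 1 := by
    rw [Finset.sum_eq_single (1 : G)]
    · rw [if_pos ⟨0, by simp⟩, hs, coeff_indAlg, if_pos]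
      rw [orderOf_one]
      exact hpp.one_lt.ne' ∘ Nat.dvd_one.1
    · intro x _ hx1
      split_ifs with hx
      · rw [hs, coeff_indAlg, if_neg]
        obtain ⟨j, hj⟩ := hx
        rw [hj, not_not]
        rcases Nat.eq_zero_or_pos j with h0 | h0
        · exfalso
          rw [h0, pow_zero, orderOf_eq_one_iff] at hj
          exact hx1 hj
        · exact dvd_pow_self p h0.ne'
      · rfl
    · intro h
      exact absurd (Finset.mem_univ _) h
  rw [h5] at h4
  exact not_memLocalIdeal_one h4

open Classical in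
/-- **Külshammer's congruence**: for `p`-regular `g`, the number of `p`-elements `x` with `x * g`
`p`-regular is congruent to the number of `p`-regular elements times the coefficient at `g` of the
principal block idempotent. -/
theorem memLocalIdeal_principal_coeff [Fintype G] {p : ℕ} [Fact p.Prime] {M : Ideal AlgInt}
    (hM : IsPModular p M) (g : G) (hg : ¬ p ∣ orderOf g) :
    MemLocalIdeal M ((∑ x : G, if (∃ j : ℕ, orderOf x = p ^ j) then
        (if ¬ p ∣ orderOf (x * g) then (1 : ℂ) else 0) else 0)
      - pRegCount (G := G) p * blockCoeff (principalBlock M G) g) := by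
  have hMp : M.IsPrime := hM.2.1.isPrime
  set s : MonoidAlgebra ℂ G := indAlg (fun y : G => ¬ p ∣ orderOf y) with hs
  have hsc : IsCentralElt s := isCentralElt_indAlg _ (fun g x => pReg_conj_iff p g x)
  have hsl : LocalCoeff M s := localCoeff_indAlg hMp _
  set e : MonoidAlgebra ℂ G := blockIdem (principalBlock M G) with he
  have hec : IsCentralElt e := isCentralElt_blockIdem _
  have hel : LocalCoeff M e := localCoeff_blockIdem hMp isPBlock_principalBlock
  set R : ℂ := pRegCount (G := G) p with hR
  have hRl : MemLocalRing M R := memLocalRing_pRegCount hMp p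
  set n : MonoidAlgebra ℂ G := s - R • e with hn
  have hnc : IsCentralElt n := hsc.sub (hec.smul R)
  have hnl : LocalCoeff M n := hsl.sub hMp (hel.smul hMp hRl)
  have hω : ∀ χ : IrrCharacter G, MemLocalIdeal M (omega (χ : G → ℂ) n) := by
    intro χ
    rw [hn, omega_sub, omega_smul, he, omega_blockIdem]
    exact omega_pRegSum hM χ
  obtain ⟨k, hk⟩ := exists_pow_jCoeff hMp n hnc hnl hω
  set a : MonoidAlgebra ℂ G := n * MonoidAlgebra.single g⁻¹ (1 : ℂ) with ha
  have hsing : LocalCoeff M (MonoidAlgebra.single g⁻¹ (1 : ℂ) : MonoidAlgebra ℂ G) :=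
    localCoeff_single hMp g⁻¹ (memLocalRing_one hMp)
  have hal : LocalCoeff M a := hnl.mul hMp hsing
  have hak : JCoeff M (a ^ k) := by
    have hcomm : Commute n (MonoidAlgebra.single g⁻¹ (1 : ℂ)) := hnc.commute_all _
    rw [ha, hcomm.mul_pow]
    exact hk.mul_right hMp (hsing.pow hMp k)
  have key := memLocalIdeal_sum_pElt_of_jCoeff_pow hM a hal k hak
  have e1 : ∀ x : G, a.coeff x = s.coeff (x * g) - R * blockCoeff (principalBlock M G) (x * g) := by
    intro x
    rw [ha, MonoidAlgebra.coeff_mul_single_apply, inv_inv, mul_one, hn, MonoidAlgebra.coeff_sub,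
      Finsupp.sub_apply, MonoidAlgebra.coeff_smul, Finsupp.smul_apply, smul_eq_mul, he,
      coeff_blockIdem]
  have e2 : ∑ x : G, (if (∃ j : ℕ, orderOf x = p ^ j) then a.coeff x else 0)
      = (∑ x : G, if (∃ j : ℕ, orderOf x = p ^ j) then
          (if ¬ p ∣ orderOf (x * g) then (1 : ℂ) else 0) else 0)
        - R * ∑ x : G, (if (∃ j : ℕ, orderOf x = p ^ j)
            then blockCoeff (principalBlock M G) (x * g) else 0) := by
    rw [Finset.mul_sum, ← Finset.sum_sub_distrib]
    apply Finset.sum_congr rfl
    intro x _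
    by_cases hx : ∃ j : ℕ, orderOf x = p ^ j
    · rw [if_pos hx, if_pos hx, if_pos hx, e1, hs, coeff_indAlg]
      split_ifs <;> rfl
    · rw [if_neg hx, if_neg hx, if_neg hx, mul_zero, sub_zero]
  rw [e2, sum_pElt_blockCoeff_mul hM _ isPBlock_principalBlock g hg] at key
  exact key

end Cfsg.Agent.Lib.helper20
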