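import Mathlib
import Cfsg.Agent.Lib.helper20.Trunc
import Cfsg.Agent.Lib.helper20.PrincipalIdem
import Cfsg.Agent.Lib.helper20.SubAlg
import Cfsg.Agent.Lib.helper4.CharDecomp
import Cfsg.Agent.Lib.helper83.CharBasic2
import Cfsg.Agent.Lib.helper81.Blocks

/-!
# Central characters of a character and of a constituent of its restriction (helper20)

For `N ⊴ G`, `χ ∈ Irr(G)` and a constituent `θ ∈ Irr(N)` of `χ|_N`:
* `inducedCentralChar_eq_centralChar_of_constituent`: for `g ∈ N`, the induced central character
  of `θ` at `g` equals the central character of `χ` at `g`;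
* `inducedCentralChar_eq_zero_of_not_mem`: for `g ∉ N` the induced central character vanishes.
-/

set_option autoImplicit false
open Cfsg

namespace Cfsg.Agent.Lib.helper20

open Cfsg.Agent.Lib.helper81 (irr_classFun irr_one_ne_zero irr_conjInv)

universe u

/-- The induced central character as `omega` at the truncated class sum. -/
theorem omega_resAlg_classSum {G : Type u} [Group G] [Fintype G] (N : Subgroup G) [Fintype N]
    (θ : N → ℂ) (g : G) :
    omega θ (resAlg N (classSum g)) = inducedCentralChar N θ g := by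
  classical
  unfold omega inducedCentralChar
  rw [finsum_mem_def, finsum_eq_sum_of_fintype, Finset.sum_div]
  apply Finset.sum_congr rfl
  intro h _
  rw [coeff_resAlg, coeff_classSum, Set.indicator_apply]
  by_cases hc : IsConj g (h : G)
  · rw [if_pos hc, if_pos (by exact hc), one_mul]
  · rw [if_neg hc, if_neg (by exact hc), zero_mul, zero_div]

/-- For `g` outside the normal subgroup `N` the induced central character vanishes. -/
theorem inducedCentralChar_eq_zero_of_not_mem {G : Type u} [Group G] (N : Subgroup G) [N.Normal]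
    (θ : N → ℂ) (g : G) (hg : g ∉ N) : inducedCentralChar N θ g = 0 := by
  unfold inducedCentralChar
  have : {h : N | IsConj g (h : G)} = ∅ := by
    ext h
    simp only [Set.mem_ofPred_eq, Set.mem_empty_iff_false, iff_false]
    intro hc
    obtain ⟨c, hc⟩ := isConj_iff.1 hc
    apply hg
    have h1 : g = c⁻¹ * (h : G) * c⁻¹⁻¹ := by rw [← hc]; group
    rw [h1]
    exact ‹N.Normal›.conj_mem _ h.2 _
  rw [this]
  simp

/-- Clifford: the central character of `χ` on a class inside the normal subgroup `N` equals the
(induced) central character of any constituent `θ` of `χ|_N`. -/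
theorem inducedCentralChar_eq_centralChar_of_constituent {G : Type u} [Group G] [Fintype G]
    (N : Subgroup G) [N.Normal] [Fintype N] (χ : IrrCharacter G) (θ : IrrCharacter N)
    (hne : classInner (fun n : N => (χ : G → ℂ) n) (θ : N → ℂ) ≠ 0) (g : G) (hg : g ∈ N) :
    inducedCentralChar N (θ : N → ℂ) g = centralChar (χ : G → ℂ) g := by
  classical
  rw [← omega_resAlg_classSum, ← omega_classSum (χ : G → ℂ) (irr_conjInv χ) g]
  set a : MonoidAlgebra ℂ G := classSum g with ha
  have hac : IsCentralElt a := isCentralElt_classSum g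
  have haN : IsCentralElt (resAlg N a) := by
    rw [isCentralElt_iff]
    intro h x
    rw [coeff_resAlg, coeff_resAlg]
    exact (isCentralElt_iff a).1 hac (h : G) (x : G)
  -- multiplicities
  have hres : IsCharacter N (fun h : N => (χ : G → ℂ) h) :=
    Cfsg.Agent.Lib.helper4.isCharacter_restrict N (isCharacter_of_isIrrCharacter χ.2)
  choose m hm using fun ξ' : IrrCharacter N =>
    Cfsg.Agent.Lib.helper4.exists_nat_classInner_irr hres ξ'.2
  have hcf : IsClassFunction N (fun h : N => (χ : G → ℂ) h) := by
    intro x h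
    exact irr_classFun χ (x : G) (h : G)
  have hexp : ∀ h : N, (χ : G → ℂ) h = ∑ ξ' : IrrCharacter N, (m ξ' : ℂ) * (ξ' : N → ℂ) h := by
    intro h
    have h1 := Cfsg.Agent.Lib.helper83.classFunction_expansion' (fun h : N => (χ : G → ℂ) h) hcf h
    simp_rw [hm] at h1
    exact h1
  -- the shift identity, computed in two ways
  have hkey : ∀ n : N, ∑ ξ : IrrCharacter N,
      ((m ξ : ℂ) * (omega (ξ : N → ℂ) (resAlg N a) - omega (χ : G → ℂ) a)) * (ξ : N → ℂ) n = 0 := by
    intro n
    have h1 := sum_coeff_mul_irr_shift χ a hac (n : G)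
    have h2 : ∑ x : G, a.coeff x * (χ : G → ℂ) (x * (n : G))
        = ∑ k : N, (resAlg N a).coeff k * (χ : G → ℂ) ((k * n : N) : G) := by
      rw [← sum_subgroup_eq_sum N (fun x : G => a.coeff x * (χ : G → ℂ) (x * (n : G)))]
      · apply Finset.sum_congr rfl
        intro k _
        rw [coeff_resAlg]
        rfl
      · intro x hx
        rw [ha, coeff_classSum, if_neg, zero_mul]
        intro hc
        obtain ⟨c, hc⟩ := isConj_iff.1 hc
        apply hx
        rw [← hc]
        exact ‹N.Normal›.conj_mem _ hg _
    have h3 : ∑ k : N, (resAlg N a).coeff k * (χ : G → ℂ) ((k * n : N) : G)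
        = ∑ ξ : IrrCharacter N, (m ξ : ℂ) * (omega (ξ : N → ℂ) (resAlg N a) * (ξ : N → ℂ) n) := by
      simp_rw [hexp, Finset.mul_sum]
      rw [Finset.sum_comm]
      apply Finset.sum_congr rfl
      intro ξ _
      rw [← sum_coeff_mul_irr_shift ξ (resAlg N a) haN n, Finset.mul_sum]
      apply Finset.sum_congr rfl
      intro k _
      ring
    rw [h2, h3, hexp n, Finset.mul_sum] at h1
    have : ∑ ξ : IrrCharacter N,
        ((m ξ : ℂ) * (omega (ξ : N → ℂ) (resAlg N a) - omega (χ : G → ℂ) a)) * (ξ : N → ℂ) n
        = ∑ ξ : IrrCharacter N, (m ξ : ℂ) * (omega (ξ : N → ℂ) (resAlg N a) * (ξ : N → ℂ) n)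
          - ∑ ξ : IrrCharacter N, omega (χ : G → ℂ) a * ((m ξ : ℂ) * (ξ : N → ℂ) n) := by
      rw [← Finset.sum_sub_distrib]
      apply Finset.sum_congr rfl
      intro ξ _
      ring
    rw [this, h1, sub_self]
  have hli := Fintype.linearIndependent_iff.1
    (Cfsg.Agent.Lib.helper83.irr_linearIndependent (G := N))
    (fun ξ => (m ξ : ℂ) * (omega (ξ : N → ℂ) (resAlg N a) - omega (χ : G → ℂ) a))
    (by
      funext n
      simp only [Finset.sum_apply, Pi.smul_apply, smul_eq_mul, Pi.zero_apply]
      exact hkey n) θ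
  have hmθ : (m θ : ℂ) ≠ 0 := by rw [← hm θ]; exact hne
  exact sub_eq_zero.1 ((mul_eq_zero.1 hli).resolve_left hmθ)

end Cfsg.Agent.Lib.helper20
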