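import Mathlib
import Cfsg.Agent.Lib.helper20.BlockOrth
import Cfsg.Agent.Lib.helper80.DefectGroup

/-!
# Characters vanish off the sections of the defect group (helper20)

* `exists_blockCoeff_not_memLocalIdeal_of_induced`: if the block `b` of `H` induces the block
  `B` of `G`, then some idempotent coefficient of `B` at an element of `H` is a unit modulo the
  local ideal.
* `irr_eq_zero_of_pPart_not_mem_defect`: an irreducible character vanishes at every element whose
  `p`-part lies in no defect group of its block.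
-/

set_option autoImplicit false
set_option linter.unusedSectionVars false

namespace Cfsg.Agent.Lib.helper20

open Cfsg Cfsg.Agent.Lib.helper81

universe u

variable {G : Type u} [Group G]

/-- If `b` induces `B`, the idempotent of `B` has a coefficient outside the local ideal at an
element of `H`. -/
theorem exists_blockCoeff_not_memLocalIdeal_of_induced [Fintype G] {M : Ideal AlgInt}
    (hM : M.IsPrime) (H : Subgroup G) [Fintype H] (b : Set (IrrCharacter H))
    (B : Set (IrrCharacter G)) (hind : IsInducedBlock M H b B) :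
    ∃ c : G, c ∈ H ∧ ¬ MemLocalIdeal M (blockCoeff B c) := by
  classical
  by_contra hcon
  have hall : ∀ c : G, c ∈ H → MemLocalIdeal M (blockCoeff B c) := by
    intro c hc
    by_contra h
    exact hcon ⟨c, hc, h⟩
  obtain ⟨hb, hB, hcong⟩ := hind
  obtain ⟨ξ, hξ⟩ := isPBlock_nonempty hM hb
  obtain ⟨χ, hχ⟩ := isPBlock_nonempty hM hB
  set d := resAlg H (blockIdem B) with hd
  have hdc : IsCentralElt d := isCentralElt_resAlg H (isCentralElt_blockIdem B)
  have hdJ : ∀ h : H, MemLocalIdeal M (d.coeff h) := by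
    intro h
    rw [hd, coeff_resAlg, coeff_blockIdem]
    exact hall (h : G) h.2
  have h1 := memLocalIdeal_omega_resAlg_sub hM H (ξ : H → ℂ) (χ : G → ℂ) (irr_conjInv χ)
    (hcong ξ hξ χ hχ) (blockIdem B) (isCentralElt_blockIdem B) (localCoeff_blockIdem hM hB)
  rw [omega_blockIdem, if_pos hχ] at h1
  have h2 := Cfsg.Agent.S0919.memLocalIdeal_omega_of_coeff hM (ξ : H → ℂ) ξ.2 d hdc hdJ
  have h3 := memLocalIdeal_sub hM h2 h1
  rw [sub_sub_cancel] at h3
  exact not_memLocalIdeal_one h3

/-- An irreducible character vanishes at every element whose `p`-part lies in no defect group of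
its block. -/
theorem irr_eq_zero_of_pPart_not_mem_defect [Finite G] {p : ℕ} [Fact p.Prime]
    {M : Ideal AlgInt} (hM : IsPModular p M) (χ : IrrCharacter G) (g x : G)
    (hx : IsPPart p g x)
    (hD : ∀ D : Subgroup G, IsDefectGroup p M (blockOf M (χ : G → ℂ)) D → x ∉ D) :
    (χ : G → ℂ) g = 0 := by
  classical
  have hpp : p.Prime := Fact.out
  have hMp := isPrime_of_isPModular hM
  have : Fintype G := Fintype.ofFinite G
  have : Fintype (Subgroup.centralizer ({x} : Set G)) := Fintype.ofFinite _
  obtain ⟨y, hxy, hc, hxk, hy⟩ := hx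
  have hB : IsPBlock M (blockOf M (χ : G → ℂ)) := ⟨χ, rfl⟩
  have hχB : χ ∈ blockOf M (χ : G → ℂ) := mem_blockOf_self hMp χ
  have hCeq : Subgroup.centralizer ((Subgroup.zpowers x : Subgroup G) : Set G)
      = Subgroup.centralizer ({x} : Set G) := by
    rw [Subgroup.zpowers_eq_closure, Subgroup.centralizer_closure]
  have hxC : x ∈ Subgroup.centralizer ({x} : Set G) :=
    Subgroup.mem_centralizer_singleton_iff.mpr rfl
  have hyC : y ∈ Subgroup.centralizer ({x} : Set G) :=
    Subgroup.mem_centralizer_singleton_iff.mpr hc.eq.symm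
  have hP : IsPGroup p (Subgroup.zpowers x) := by
    obtain ⟨k, hk⟩ := hxk
    exact IsPGroup.of_card (by rw [Nat.card_zpowers, hk])
  set uC : Subgroup.centralizer ({x} : Set G) := ⟨x, hxC⟩ * ⟨y, hyC⟩ with huC
  have hPP : IsPPart p (x * y) x := isPPart_mul hc.eq hxk hy
  have hCz : ∀ z' : G, IsPPart p ((uC : Subgroup.centralizer ({x} : Set G)) : G) z' →
      Subgroup.centralizer ({z'} : Set G) ≤ Subgroup.centralizer ({x} : Set G) := by
    intro z' hz'
    have hz'' : IsPPart p (x * y) z' := hz'
    rw [isPPart_unique hpp hz'' hPP]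
  by_contra hne
  have hA : ∑ b ∈ Cfsg.Agent.Lib.helper80.blocks M (Subgroup.centralizer ({x} : Set G)),
      ∑ k : Subgroup.centralizer ({x} : Set G),
        blockCoeff b k * (χ : G → ℂ) ((k : G) * (x * y)) = (χ : G → ℂ) (x * y) := by
    have := sum_blocks_sum_blockCoeff_mul (G := Subgroup.centralizer ({x} : Set G)) hMp
      (fun k => (χ : G → ℂ) ((k : G) * (x * y)))
    simpa using this
  rw [← hxy, ← hA] at hne
  obtain ⟨b, hbmem, hbne⟩ := Finset.exists_ne_zero_of_sum_ne_zero hne
  have hb : IsPBlock M b := Cfsg.Agent.Lib.helper80.mem_blocks.mp hbmem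
  obtain ⟨B', hind⟩ := Cfsg.Agent.S0919.result p M hM (Subgroup.zpowers x)
    (Subgroup.centralizer ({x} : Set G)) hP (Subgroup.zpowers_le.mpr hxC) hCeq.le
    (by rw [← hCeq]; exact Subgroup.centralizer_le_normalizer _) b hb
  have hχB' : χ ∈ B' := by
    by_contra h
    exact hbne (sum_blockCoeff_mul_eq_zero hM (Subgroup.centralizer ({x} : Set G)) b B' hind uC
      hCz χ h)
  have hBB' : blockOf M (χ : G → ℂ) = B' := isPBlock_eq_of_mem hMp hB hind.2.1 hχB hχB'
  obtain ⟨c, hcC, hcJ⟩ := exists_blockCoeff_not_memLocalIdeal_of_induced hMp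
    (Subgroup.centralizer ({x} : Set G)) b B' hind
  rw [← hBB'] at hcJ
  obtain ⟨D, hDdef⟩ := Cfsg.Agent.Lib.helper80.exists_isDefectGroup p hMp hB
  obtain ⟨t, ht⟩ := Cfsg.Agent.Lib.helper80.IsDefectGroup.exists_conj_mem hM hB hDdef
    (Subgroup.zpowers x) hP c (by rw [hCeq]; exact hcC) hcJ
  have hxD : x ∈ D.map (MulAut.conj t).toMonoidHom :=
    Cfsg.Agent.Lib.helper80.mem_map_conj.mpr (ht x (Subgroup.mem_zpowers x))
  exact hD _ (Cfsg.Agent.Lib.helper80.IsDefectGroup.conj hDdef t) hxD

end Cfsg.Agent.Lib.helper20
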