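import Mathlib
import Cfsg.Agent.Lib.helper20.DefectSection
import Cfsg.Agent.Lib.helper20.BlockPart
import Cfsg.Agent.Lib.helper20.SecondMain
import Cfsg.Agent.Lib.helper20.Trunc

/-!
# Central characters and the centre of a defect group (helper20)

If the block `B` with defect group `P` is induced from the block `b` of `N_G(P)` with defect group
`P` (Brauer's first main theorem), and the central character of a member of `B` does not vanish
modulo the local ideal at `g`, then some conjugate of `g` centralizes `P` and has its `p`-part in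
the centre of `P`.
-/

set_option autoImplicit false
set_option linter.unusedSectionVars false

namespace Cfsg.Agent.Lib.helper20

open Cfsg
open Cfsg.Agent.Lib.helper81 (isPBlock_nonempty isPBlock_eq_blockOf irr_conjInv)
open Cfsg.Agent.Lib.helper80 (mem_map_conj)

universe u

variable {G : Type u} [Group G]

/-- The `p`-part exists and is a power. -/
theorem exists_isPPart_zpow [Finite G] {p : ℕ} (hp : p.Prime) (u : G) :
    ∃ a : ℤ, IsPPart p u (u ^ a) := by
  obtain ⟨a', b', k, n, hsplit, hzk, hyn, hn, hcop⟩ := exists_zpow_split hp u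
  refine ⟨a', u ^ b', hsplit.symm, zpow_mul_comm u a' b', ?_, ?_⟩
  · obtain ⟨j, -, hj⟩ := (Nat.dvd_prime_pow hp).mp (orderOf_dvd_of_pow_eq_one hzk)
    exact ⟨j, hj⟩
  · intro hdvd
    have h1 : p ∣ n := hdvd.trans (orderOf_dvd_of_pow_eq_one hyn)
    exact (Nat.Prime.coprime_iff_not_dvd hp).mp hcop.symm h1

/-- The `p`-part in a subgroup is the `p`-part in the group. -/
theorem IsPPart.coe {p : ℕ} {H : Subgroup G} {h z : H} (hz : IsPPart p h z) :
    IsPPart p (h : G) (z : G) := by
  obtain ⟨y, hzy, hc, ⟨k, hk⟩, hy⟩ := hz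
  refine ⟨(y : G), ?_, ?_, ⟨k, ?_⟩, ?_⟩
  · rw [← hzy]; rfl
  · have := congrArg (Subtype.val) hc.eq
    exact this
  · rw [Subgroup.orderOf_coe]; exact hk
  · rw [Subgroup.orderOf_coe]; exact hy

/-- If the induced central character does not vanish modulo the local ideal at `g`, then some
conjugate `h` of `g` in `H` has non-vanishing central character. -/
theorem exists_conj_of_inducedCentralChar [Finite G] {M : Ideal AlgInt} (hM : M.IsPrime)
    (H : Subgroup G) (ξ : IrrCharacter H) (g : G)
    (hg : ¬ MemLocalIdeal M (inducedCentralChar H (ξ : H → ℂ) g)) :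
    ∃ h : H, IsConj g (h : G) ∧ ¬ MemLocalIdeal M (centralChar (ξ : H → ℂ) h) := by
  classical
  have : Fintype H := Fintype.ofFinite H
  by_contra hcon
  push Not at hcon
  apply hg
  unfold inducedCentralChar
  rw [finsum_mem_def, finsum_eq_sum_of_fintype]
  simp only [Set.indicator_apply, Set.mem_ofPred_eq]
  apply sum_class_induction (MemLocalIdeal M) (memLocalIdeal_zero hM)
    (fun _ _ => memLocalIdeal_add hM)
  intro x
  by_cases hx : IsConj g (x : G)
  · have e0 : centralChar (ξ : H → ℂ) x
        = (∑ y ∈ Finset.univ.filter (fun y : H => IsConj x y), (ξ : H → ℂ) y)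
          / (ξ : H → ℂ) 1 := by
      rw [← omega_classSum (ξ : H → ℂ) (irr_conjInv ξ) x]
      unfold omega
      congr 1
      simp_rw [coeff_classSum, ite_mul, one_mul, zero_mul]
      rw [Finset.sum_filter]
    convert hcon x hx using 1
    rw [e0, Finset.sum_div]
    refine Finset.sum_congr (by ext y; simp) ?_
    intro y hy
    simp only [Finset.mem_filter, Finset.mem_univ, true_and] at hy
    have hy' : IsConj g (y : G) := by
      obtain ⟨c, hc⟩ := isConj_iff.1 hy
      refine hx.trans (isConj_iff.2 ⟨(c : G), ?_⟩)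
      rw [← hc]; rfl
    rw [if_pos hy']
  · convert memLocalIdeal_zero hM using 1
    apply Finset.sum_eq_zero
    intro y hy
    simp only [Finset.mem_filter, Finset.mem_univ, true_and] at hy
    have hy' : ¬ IsConj g (y : G) := by
      intro hgy
      apply hx
      obtain ⟨c, hc⟩ := isConj_iff.1 hy.symm
      refine hgy.trans (isConj_iff.2 ⟨(c : G), ?_⟩)
      rw [← hc]; rfl
    rw [if_neg hy']

/-- If `B` (defect group `P`) is induced from the block `b` of `N_G(P)` with defect group `P`,
and the central character of `χ ∈ B` at `g` is not in the local ideal, then some conjugate of `g`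
centralizes `P` and has its `p`-part in the centre of `P`. -/
theorem exists_conj_centralizer_defect [Finite G] {p : ℕ} [Fact p.Prime] {M : Ideal AlgInt}
    (hM : IsPModular p M) (B : Set (IrrCharacter G)) (P : Subgroup G)
    (b : Set (IrrCharacter (Subgroup.normalizer (P : Set G)))) (hb : IsPBlock M b)
    (hDb : IsDefectGroup p M b (P.subgroupOf (Subgroup.normalizer (P : Set G))))
    (hind : IsInducedBlock M (Subgroup.normalizer (P : Set G)) b B)
    (g : G) (χ : IrrCharacter G) (hχ : χ ∈ B)
    (hg : ¬ MemLocalIdeal M (centralChar (χ : G → ℂ) g)) :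
    ∃ x : G, IsConj g x ∧ x ∈ Subgroup.centralizer (P : Set G) ∧
      ∀ z : G, IsPPart p x z → z ∈ P ∧ ∀ w ∈ P, z * w = w * z := by
  classical
  have hpp : p.Prime := Fact.out
  have hMp : M.IsPrime := hM.2.1.isPrime
  have : Fintype G := Fintype.ofFinite G
  have : Fintype (Subgroup.normalizer (P : Set G)) := Fintype.ofFinite _
  obtain ⟨ξ, hξ⟩ := isPBlock_nonempty hMp hb
  have h1 := hind.2.2 ξ hξ χ hχ g
  have h2 : ¬ MemLocalIdeal M (inducedCentralChar (Subgroup.normalizer (P : Set G))
      (ξ : Subgroup.normalizer (P : Set G) → ℂ) g) := by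
    intro h
    apply hg
    have := memLocalIdeal_sub hMp h h1
    rwa [sub_sub_cancel] at this
  obtain ⟨h, hconj, hh⟩ := exists_conj_of_inducedCentralChar hMp _ ξ g h2
  obtain ⟨c, hc⟩ := Cfsg.Agent.Lib.helper80.IsDefectGroup.exists_conj_mem_centralizer hM hb hDb
    hξ h hh
  have hnorm : (P.subgroupOf (Subgroup.normalizer (P : Set G))).Normal :=
    Subgroup.normal_in_normalizer
  have hcent : ∀ d ∈ P, d * (h : G) = (h : G) * d := by
    intro d hd
    have hdN : d ∈ Subgroup.normalizer (P : Set G) := Subgroup.le_normalizer hd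
    have hd' : (⟨d, hdN⟩ : Subgroup.normalizer (P : Set G))
        ∈ P.subgroupOf (Subgroup.normalizer (P : Set G)) := Subgroup.mem_subgroupOf.2 hd
    have h3 := hnorm.conj_mem _ hd' c⁻¹
    have h4 := hc _ h3
    have h5 : c * (c⁻¹ * (⟨d, hdN⟩ : Subgroup.normalizer (P : Set G)) * c⁻¹⁻¹) * c⁻¹
        = ⟨d, hdN⟩ := by group
    rw [h5, Subgroup.mem_centralizer_singleton_iff] at h4
    exact congrArg Subtype.val h4
  refine ⟨(h : G), hconj, ?_, ?_⟩
  · rw [Subgroup.mem_centralizer_iff]
    intro d hd
    exact hcent d hd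
  · intro z hz
    obtain ⟨a, ha⟩ := exists_isPPart_zpow hpp h
    have ha' : IsPPart p (h : G) ((h ^ a : Subgroup.normalizer (P : Set G)) : G) := IsPPart.coe ha
    have hz' : z = ((h ^ a : Subgroup.normalizer (P : Set G)) : G) := isPPart_unique hpp hz ha'
    have hξh : (ξ : Subgroup.normalizer (P : Set G) → ℂ) h ≠ 0 := by
      intro h0
      apply hh
      unfold centralChar
      rw [h0, mul_zero, zero_div]
      exact memLocalIdeal_zero hMp
    have hmem : h ^ a ∈ P.subgroupOf (Subgroup.normalizer (P : Set G)) := by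
      by_contra hnot
      apply hξh
      apply irr_eq_zero_of_pPart_not_mem_defect hM ξ h (h ^ a) ha
      intro D hD
      have hbb : blockOf M (ξ : Subgroup.normalizer (P : Set G) → ℂ) = b :=
        (isPBlock_eq_blockOf hMp hb hξ).symm
      rw [hbb] at hD
      obtain ⟨x, hx⟩ := Cfsg.Agent.Lib.helper80.IsDefectGroup.exists_conj_eq hM hb hDb hD
      intro hmemD
      rw [hx, mem_map_conj] at hmemD
      apply hnot
      have h6 := hnorm.conj_mem _ hmemD x
      have h7 : x * (x⁻¹ * h ^ a * x) * x⁻¹ = h ^ a := by group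
      rwa [h7] at h6
    refine ⟨?_, ?_⟩
    · rw [hz']
      exact Subgroup.mem_subgroupOf.1 hmem
    · intro w hw
      rw [hz', Subgroup.coe_zpow]
      have hcomm : Commute (h : G) w := (hcent w hw).symm
      exact (hcomm.zpow_left a).eq

end Cfsg.Agent.Lib.helper20
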