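import Mathlib
import Cfsg.Agent.Lib.helper20.Osima
import Cfsg.Agent.Lib.helper84.Frobenius

/-!
# Characters vanishing on `p`-singular elements (helper20)

`sylow_card_dvd_degree_of_vanish`: if an irreducible character (indeed any character) vanishes
on all `p`-singular elements, then the full power of `p` dividing `|G|` divides its degree.
`irr_eq_zero_of_singular_of_block_singleton`: if `{χ}` is a block, `χ` vanishes on `p`-singular
elements.
-/

set_option autoImplicit false

namespace Cfsg.Agent.Lib.helper20

open Cfsg Cfsg.Agent.Lib.helper81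
open scoped ComplexConjugate

universe u

variable {G : Type u} [Group G]

/-- If `χ 1 = d` for a character `χ` vanishing on all `p`-singular elements, then the order of
a Sylow `p`-subgroup divides `d`. -/
theorem sylow_card_dvd_of_vanish [Finite G] {p : ℕ} [Fact p.Prime] {χ : G → ℂ}
    (hχ : IsCharacter G χ) (d : ℕ) (hd : χ 1 = (d : ℂ))
    (hvan : ∀ u : G, p ∣ orderOf u → χ u = 0) :
    p ^ (Nat.card G).factorization p ∣ d := by
  classical
  have hp : p.Prime := Fact.out
  obtain ⟨P⟩ : Nonempty (Sylow p G) := inferInstance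
  have : Fintype (P : Subgroup G) := Fintype.ofFinite _
  have hres : IsCharacter (P : Subgroup G) (fun h : (P : Subgroup G) => χ h) :=
    Cfsg.Agent.Lib.helper84.isCharacter_restrict (P : Subgroup G) hχ
  have htriv : IsCharacter (P : Subgroup G) (fun _ : (P : Subgroup G) => (1 : ℂ)) := by
    obtain ⟨n, ρ, _, h⟩ := (isIrrCharacter_const_one (G := (P : Subgroup G)))
    exact ⟨n, ρ, h⟩
  obtain ⟨n, hn⟩ := Cfsg.Agent.Lib.helper84.classInner_isCharacter_nat hres htriv
  unfold classInner at hn
  have hsum : ∑ h : (P : Subgroup G), χ h * conj (1 : ℂ) = χ 1 := by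
    rw [Finset.sum_eq_single (1 : (P : Subgroup G))]
    · simp
    · intro h _ hh1
      have hord : p ∣ orderOf (h : G) := by
        obtain ⟨k, hk⟩ := P.isPGroup' h
        have h2 : orderOf h ∣ p ^ k := orderOf_dvd_of_pow_eq_one hk
        obtain ⟨j, -, hj⟩ := (Nat.dvd_prime_pow hp).mp h2
        have hj0 : j ≠ 0 := by
          intro hj0
          rw [hj0, pow_zero, orderOf_eq_one_iff] at hj
          exact hh1 hj
        rw [Subgroup.orderOf_coe, hj]
        exact dvd_pow_self p hj0
      rw [hvan _ hord, zero_mul]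
    · intro h
      exact absurd (Finset.mem_univ _) h
  rw [hsum, hd] at hn
  have hP0 : (Nat.card (P : Subgroup G) : ℂ) ≠ 0 := by
    have : 0 < Nat.card (P : Subgroup G) := Nat.card_pos
    exact_mod_cast this.ne'
  rw [inv_mul_eq_iff_eq_mul₀ hP0] at hn
  have hdn : d = Nat.card (P : Subgroup G) * n := by exact_mod_cast hn
  rw [← Sylow.card_eq_multiplicity P, hdn]
  exact dvd_mul_right _ _

/-- If `{χ}` is a block then `χ` vanishes on `p`-singular elements. -/
theorem irr_eq_zero_of_singular_of_block_singleton [Fintype G] {p : ℕ} {M : Ideal AlgInt}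
    (hM : IsPModular p M) (χ : IrrCharacter G) (hB : IsPBlock M ({χ} : Set (IrrCharacter G)))
    (u : G) (hu : p ∣ orderOf u) : (χ : G → ℂ) u = 0 := by
  classical
  have h0 := blockCoeff_eq_zero_of_singular hM hB u hu
  rw [Cfsg.Agent.Lib.helper81.blockCoeff_eq_sum] at h0
  simp only [Set.mem_singleton_iff, Finset.sum_ite_eq', Finset.mem_univ, if_true] at h0
  have hG : (Nat.card G : ℂ) ≠ 0 := by
    have : 0 < Nat.card G := Nat.card_pos
    exact_mod_cast this.ne'
  rcases mul_eq_zero.mp h0 with h | h
  · exact absurd (inv_eq_zero.mp h) hG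
  · rcases mul_eq_zero.mp h with h1 | h1
    · exact absurd h1 (irr_one_ne_zero χ)
    · exact (map_eq_zero _).mp h1

end Cfsg.Agent.Lib.helper20
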