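import Mathlib

/-!
# S0679 piece C0: invariance of a function under closures, from generators
-/

set_option autoImplicit false

namespace Cfsg.Agent.Lib.helper20

theorem deg11_inv_left {G : Type*} [Group G] (F : Subgroup G) (S : Set G)
    (hS : S ⊆ F) (κ : G → ℕ)
    (hl : ∀ s ∈ S, ∀ k ∈ F, κ (s * k) = κ k) :
    ∀ n ∈ Subgroup.closure S, ∀ k ∈ F, κ (n * k) = κ k := by
  have hle : Subgroup.closure S ≤ F := (Subgroup.closure_le F).mpr hS
  intro n hn
  induction hn using Subgroup.closure_induction with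
  | mem s hs => exact hl s hs
  | one => intro k _; rw [one_mul]
  | mul a b ha hb iha ihb =>
    intro k hk
    rw [mul_assoc, iha (b * k) (F.mul_mem (hle hb) hk), ihb k hk]
  | inv a ha iha =>
    intro k hk
    have h1 := iha (a⁻¹ * k) (F.mul_mem (F.inv_mem (hle ha)) hk)
    rw [mul_inv_cancel_left] at h1
    exact h1.symm

theorem deg11_inv_right {G : Type*} [Group G] (F : Subgroup G) (T : Set G)
    (hT : T ⊆ F) (κ : G → ℕ)
    (hr : ∀ t ∈ T, ∀ k ∈ F, κ (k * t) = κ k) :
    ∀ p ∈ Subgroup.closure T, ∀ k ∈ F, κ (k * p) = κ k := by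
  have hle : Subgroup.closure T ≤ F := (Subgroup.closure_le F).mpr hT
  intro p hp
  induction hp using Subgroup.closure_induction with
  | mem t ht => exact hr t ht
  | one => intro k _; rw [mul_one]
  | mul a b ha hb iha ihb =>
    intro k hk
    rw [← mul_assoc, ihb (k * a) (F.mul_mem hk (hle ha)), iha k hk]
  | inv a ha iha =>
    intro k hk
    have h1 := iha (k * a⁻¹) (F.mul_mem hk (F.inv_mem (hle ha)))
    rw [inv_mul_cancel_right] at h1
    exact h1.symm

/-- PIECE C0 (invariance from generators). -/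
theorem deg11_inv_of_gens {G : Type*} [Group G] (F : Subgroup G) (S T : Set G)
    (hS : S ⊆ F) (hT : T ⊆ F) (κ : G → ℕ)
    (hl : ∀ s ∈ S, ∀ k ∈ F, κ (s * k) = κ k) (hr : ∀ t ∈ T, ∀ k ∈ F, κ (k * t) = κ k) :
    ∀ n ∈ Subgroup.closure S, ∀ p ∈ Subgroup.closure T, ∀ k ∈ F, κ (n * k * p) = κ k := by
  intro n hn p hp k hk
  have hleT : Subgroup.closure T ≤ F := (Subgroup.closure_le F).mpr hT
  rw [mul_assoc, deg11_inv_left F S hS κ hl n hn (k * p) (F.mul_mem hk (hleT hp)),
    deg11_inv_right F T hT κ hr p hp k hk]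

end Cfsg.Agent.Lib.helper20
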