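import Cfsg.Agent.Lib.helper34.Deg11Defs

/-!
# S0679 piece F: the order of the model symmetric group `F11`
-/

set_option autoImplicit false

namespace Cfsg.Agent.Lib.helper20

open Cfsg Cfsg.Agent.Lib.helper34

theorem deg11_card_Pt11 : Fintype.card Pt11 = 11 := by
  have e : Pt11 ≃ Fin 11 :=
    { toFun := fun p => ⟨idx p.1, p.2⟩
      invFun := fun i => ⟨ptOf i.1, by rw [idx_ptOf (by omega)]; exact i.2⟩
      left_inv := fun p => Subtype.ext (ptOf_idx p.1)
      right_inv := fun i => Fin.ext (idx_ptOf (by omega)) }
  rw [Fintype.card_congr e, Fintype.card_fin]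

/-- PIECE F (order of the model symmetric group). -/
theorem deg11_card_F11 : Nat.card F11 = 39916800 := by
  classical
  have e1 : Equiv.Perm Pt11 ≃
      {f : Equiv.Perm GolayPt // ∀ a, ¬ (idx a < 11) → f a = a} :=
    Equiv.Perm.subtypeEquivSubtypePerm (fun a : GolayPt => idx a < 11)
  have e2 : {f : Equiv.Perm GolayPt // ∀ a, ¬ (idx a < 11) → f a = a} ≃ F11 :=
    Equiv.subtypeEquivRight (fun f => by
      rw [mem_F11]
      constructor
      · intro h p hp
        exact h p (by omega)
      · intro h p hp
        exact h p (by omega))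
  rw [← Nat.card_congr (e1.trans e2), Nat.card_eq_fintype_card, Fintype.card_perm,
    deg11_card_Pt11]
  rfl

end Cfsg.Agent.Lib.helper20
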