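import Mathlib
import Cfsg.Prelude.Def_Transfer
import Cfsg.Prelude.Def_CaseTheorems
import Cfsg.Prelude.Def_Solvable
import Cfsg.Agent.Lib.lead.Hall
import Cfsg.Agent.Lib.helper60.HallHigman
import Cfsg.Agent.Lib.helper30.FittingRank
import Cfsg.Agent.Lib.helper30.RankTwoB
import Cfsg.Agent.Lib.helper26.PRank
import Cfsg.Agent.Lib.helper40.Cores

/-!
# S4404 piece C (helper20): an invariant `p`-subgroup containing an elementary abelian `p³`

`S` solvable of `3`-rank at most two, `Q` a `3`-subgroup, `p ≥ 5` a prime and `E` elementary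
abelian of order `p ^ 3`: some `p`-subgroup `P` normalized by `Q` contains an elementary abelian
subgroup of order `p ^ 3` (namely `P = O_p(H)` for a Hall `{3, p}`-subgroup `H ⊇ Q`).
-/

set_option autoImplicit false

namespace Cfsg.Agent.Lib.helper20

open Subgroup

/-- `O_p(G / O_p(G)) = 1`. -/
theorem fqc_pCore_quot {G : Type*} [Group G] [Finite G] (p : ℕ) [Fact p.Prime]
    [hN : (Cfsg.pCore p G).Normal] : Cfsg.pCore p (G ⧸ Cfsg.pCore p G) = ⊥ := by
  have hsurj := QuotientGroup.mk'_surjective (Cfsg.pCore p G)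
  have hKn : ((Cfsg.pCore p (G ⧸ Cfsg.pCore p G)).comap (QuotientGroup.mk' (Cfsg.pCore p G))).Normal :=
    (Cfsg.Agent.Lib.helper40.pCore_normal' p (G ⧸ Cfsg.pCore p G)).comap _
  have hKp : IsPGroup p ((Cfsg.pCore p (G ⧸ Cfsg.pCore p G)).comap
      (QuotientGroup.mk' (Cfsg.pCore p G))) :=
    (Cfsg.Agent.Lib.helper40.pCore_isPGroup p (G ⧸ Cfsg.pCore p G)).comap_of_ker_isPGroup _
      (by rw [QuotientGroup.ker_mk']; exact Cfsg.Agent.Lib.helper40.pCore_isPGroup p G)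
  have hle := Cfsg.Agent.Lib.helper40.le_pCore _ hKn hKp
  rw [eq_bot_iff]
  intro x hx
  obtain ⟨g, rfl⟩ := hsurj x
  have hg : g ∈ (Cfsg.pCore p (G ⧸ Cfsg.pCore p G)).comap (QuotientGroup.mk' (Cfsg.pCore p G)) := hx
  have hg' := hle hg
  rw [Subgroup.mem_bot, QuotientGroup.mk'_apply, QuotientGroup.eq_one_iff]
  exact hg'

/-- In a solvable `{3, p}`-group (`p ≥ 5`) of `3`-rank at most two, every `p`-subgroup lies in
`O_p`. -/
theorem fqc_le_pCore {G : Type*} [Group G] [Finite G] [Group.IsSolvable G] (p : ℕ) [Fact p.Prime]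
    (hp5 : 5 ≤ p) (hπ : ∀ s : ℕ, s.Prime → s ∣ Nat.card G → s = 3 ∨ s = p)
    (h3 : Cfsg.PRankLE 3 2 G) (T : Subgroup G) (hT : IsPGroup p T) : T ≤ Cfsg.pCore p G := by
  have hpp : p.Prime := Fact.out
  haveI : Fact (Nat.Prime 3) := ⟨Nat.prime_three⟩
  haveI hN : (Cfsg.pCore p G).Normal := Cfsg.Agent.Lib.helper40.pCore_normal' p G
  have hNp : IsPGroup p (Cfsg.pCore p G) := Cfsg.Agent.Lib.helper40.pCore_isPGroup p G
  have hp3 : p ≠ 3 := by omega
  have hsurj := QuotientGroup.mk'_surjective (Cfsg.pCore p G)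
  -- the order of `G` is odd
  have hodd : Odd (Nat.card G) := by
    rw [← Nat.not_even_iff_odd, even_iff_two_dvd]
    intro h2
    rcases hπ 2 Nat.prime_two h2 with h | h <;> omega
  have hcardq : Nat.card (G ⧸ Cfsg.pCore p G) ∣ Nat.card G := by
    rw [← Subgroup.index_eq_card]; exact Subgroup.index_dvd_card _
  have hoddq : Odd (Nat.card (G ⧸ Cfsg.pCore p G)) := by
    rw [← Nat.not_even_iff_odd, even_iff_two_dvd]
    intro h2
    exact (Nat.not_even_iff_odd.mpr hodd) (even_iff_two_dvd.mpr (h2.trans hcardq))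
  -- `O_p` of the quotient is trivial
  have hcore : Cfsg.pCore p (G ⧸ Cfsg.pCore p G) = ⊥ := fqc_pCore_quot p
  -- hence `O_{3'}` of the quotient is trivial
  have hprime : Cfsg.pPrimeCore 3 (G ⧸ Cfsg.pCore p G) = ⊥ := by
    have hc := Cfsg.Agent.Lib.helper40.pPrimeCore_card_coprime 3 (G ⧸ Cfsg.pCore p G)
    have hn := Cfsg.Agent.Lib.helper40.pPrimeCore_normal' 3 (G ⧸ Cfsg.pCore p G)
    have hpg : IsPGroup p (Cfsg.pPrimeCore 3 (G ⧸ Cfsg.pCore p G)) := by
      apply IsPGroup.of_card (n := (Nat.card (Cfsg.pPrimeCore 3 (G ⧸ Cfsg.pCore p G))).primeFactorsList.length)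
      apply Nat.eq_prime_pow_of_unique_prime_dvd Nat.card_pos.ne'
      intro d hd hdvd
      have hdG : d ∣ Nat.card G := (hdvd.trans (Subgroup.card_subgroup_dvd_card _)).trans hcardq
      rcases hπ d hd hdG with h | h
      · exfalso
        rw [h] at hdvd
        exact (Nat.Prime.coprime_iff_not_dvd Nat.prime_three).mp hc.symm hdvd
      · exact h
    have := Cfsg.Agent.Lib.helper40.le_pCore _ hn hpg
    rw [hcore] at this
    exact eq_bot_iff.mpr this
  haveI : Group.IsSolvable (G ⧸ Cfsg.pCore p G) :=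
    solvable_of_surjective hsurj
  have hcent := Cfsg.Agent.Lib.helper60.centralizer_pCore_le (G := G ⧸ Cfsg.pCore p G) 3 hprime
  -- rank
  have hNc3 : (Nat.card (Cfsg.pCore p G)).Coprime 3 := by
    obtain ⟨n, hn⟩ := IsPGroup.iff_card.mp hNp
    rw [hn]
    exact Nat.Coprime.pow_left n ((Nat.coprime_primes hpp Nat.prime_three).mpr hp3)
  have hrq : Cfsg.PRankLE 3 2 (G ⧸ Cfsg.pCore p G) :=
    Cfsg.Agent.Lib.helper30.prankLE_quotient 3 2 (Cfsg.pCore p G) hNc3 h3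
  have hrc : Cfsg.PRankLE 3 2 (Cfsg.pCore 3 (G ⧸ Cfsg.pCore p G)) :=
    Cfsg.Agent.Lib.helper26.prankLE_subgroup _ hrq
  -- the image of `T`
  have hTb : IsPGroup p (T.map (QuotientGroup.mk' (Cfsg.pCore p G))) := hT.map _
  have hlarge : ∀ s : ℕ, s.Prime → s ∣ Nat.card (T.map (QuotientGroup.mk' (Cfsg.pCore p G))) → 3 < s := by
    intro s hs hsd
    obtain ⟨n, hn⟩ := IsPGroup.iff_card.mp hTb
    rw [hn] at hsd
    have := (Nat.prime_dvd_prime_iff_eq hs hpp).mp (hs.dvd_of_dvd_pow hsd)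
    omega
  have hcomm := Cfsg.Agent.Lib.helper30.centralizes_pCore_of_large_primes hoddq 3 hrc
    (T.map (QuotientGroup.mk' (Cfsg.pCore p G))) hlarge
  have h3g : IsPGroup 3 (Cfsg.pCore 3 (G ⧸ Cfsg.pCore p G)) :=
    Cfsg.Agent.Lib.helper40.pCore_isPGroup 3 _
  intro t ht
  have htb : QuotientGroup.mk' (Cfsg.pCore p G) t ∈ T.map (QuotientGroup.mk' (Cfsg.pCore p G)) :=
    Subgroup.mem_map_of_mem _ ht
  have hc : QuotientGroup.mk' (Cfsg.pCore p G) t ∈
      Subgroup.centralizer (Cfsg.pCore 3 (G ⧸ Cfsg.pCore p G) : Set (G ⧸ Cfsg.pCore p G)) := by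
    rw [Subgroup.mem_centralizer_iff]
    intro x hx
    exact (hcomm _ htb x hx).symm
  have h3mem := hcent hc
  -- the image of `t` is both a `p`-element and a `3`-element
  obtain ⟨a, ha⟩ := h3g ⟨_, h3mem⟩
  obtain ⟨b, hb⟩ := hTb ⟨_, htb⟩
  have ha' : (QuotientGroup.mk' (Cfsg.pCore p G) t) ^ 3 ^ a = 1 := by
    have := congrArg Subtype.val ha
    simpa using this
  have hb' : (QuotientGroup.mk' (Cfsg.pCore p G) t) ^ p ^ b = 1 := by
    have := congrArg Subtype.val hb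
    simpa using this
  have ho1 := orderOf_dvd_of_pow_eq_one ha'
  have ho2 := orderOf_dvd_of_pow_eq_one hb'
  have hcop : (3 ^ a).Coprime (p ^ b) :=
    Nat.Coprime.pow a b ((Nat.coprime_primes Nat.prime_three hpp).mpr (Ne.symm hp3))
  have ho : orderOf (QuotientGroup.mk' (Cfsg.pCore p G) t) = 1 :=
    Nat.eq_one_of_dvd_coprimes hcop ho1 ho2
  have h1 := orderOf_eq_one_iff.mp ho
  rw [QuotientGroup.mk'_apply, QuotientGroup.eq_one_iff] at h1
  exact h1

/-- **S4404, piece C**. -/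
theorem exists_invariant_pgroup {S : Type*} [Group S] [Finite S] [Group.IsSolvable S]
    (Q : Subgroup S) (hQ3 : IsPGroup 3 ↥Q)
    (h3 : Cfsg.PRankLE 3 2 S) (p : ℕ) (hp : p.Prime) (hp5 : 5 ≤ p) (E : Subgroup S)
    (hE : Cfsg.IsElementaryAbelian p E) (hE3 : Nat.card ↥E = p ^ 3) :
    ∃ P F : Subgroup S, IsPGroup p ↥P ∧ Q ≤ Subgroup.normalizer (P : Set S) ∧ F ≤ P ∧
      Cfsg.IsElementaryAbelian p F ∧ Nat.card ↥F = p ^ 3 := by
  haveI : Fact p.Prime := ⟨hp⟩
  -- a Hall `{3, p}`-subgroup containing `Q`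
  obtain ⟨H₀, hH₀⟩ := Cfsg.Agent.Lib.lead.exists_isPiHall_of_isSolvable ({3, p} : Set ℕ) S
  have hQπ : Cfsg.IsPiSubgroup ({3, p} : Set ℕ) Q := by
    intro s hs hsd
    obtain ⟨n, hn⟩ := IsPGroup.iff_card.mp hQ3
    rw [hn] at hsd
    have := (Nat.prime_dvd_prime_iff_eq hs Nat.prime_three).mp (hs.dvd_of_dvd_pow hsd)
    left; exact this
  obtain ⟨g, hg⟩ := Cfsg.Agent.Lib.lead.le_conj_isPiHall_of_isSolvable hH₀ hQπ
  have hH := Cfsg.Agent.Lib.lead.isPiHall_map_conj hH₀ g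
  set H := H₀.map (MulAut.conj g).toMonoidHom with hHdef
  -- a conjugate of `E` inside `H`
  have hEπ : Cfsg.IsPiSubgroup ({3, p} : Set ℕ) E := by
    intro s hs hsd
    rw [hE3] at hsd
    have := (Nat.prime_dvd_prime_iff_eq hs hp).mp (hs.dvd_of_dvd_pow hsd)
    right; exact this
  obtain ⟨k, hk⟩ := Cfsg.Agent.Lib.lead.le_conj_isPiHall_of_isSolvable hH hEπ
  -- F := k⁻¹ E k
  have hinj : Function.Injective (MulAut.conj k⁻¹ : S ≃* S).toMonoidHom := (MulAut.conj k⁻¹).injective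
  set F := E.map (MulAut.conj k⁻¹).toMonoidHom with hFdef
  have hFH : F ≤ H := by
    rintro _ ⟨e, he, rfl⟩
    obtain ⟨h, hh, hhe⟩ := hk he
    have : (MulAut.conj k⁻¹).toMonoidHom e = h := by
      rw [← hhe]
      simp [MulAut.conj_apply, mul_assoc]
    rw [this]; exact hh
  have hFel : Cfsg.IsElementaryAbelian p F := by
    refine ⟨?_, ?_⟩
    · rw [isMulCommutative_iff]
      rintro ⟨_, a, ha, rfl⟩ ⟨_, b, hb, rfl⟩
      apply Subtype.ext
      have h2 := isMulCommutative_iff.mp hE.1 ⟨a, ha⟩ ⟨b, hb⟩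
      have h2' : a * b = b * a := congrArg Subtype.val h2
      show (MulAut.conj k⁻¹).toMonoidHom a * (MulAut.conj k⁻¹).toMonoidHom b =
        (MulAut.conj k⁻¹).toMonoidHom b * (MulAut.conj k⁻¹).toMonoidHom a
      rw [← map_mul, ← map_mul, h2']
    · rintro _ ⟨a, ha, rfl⟩
      rw [← map_pow, hE.2 a ha, map_one]
  have hFcard : Nat.card F = p ^ 3 := by
    rw [hFdef, Subgroup.card_map_of_injective hinj, hE3]
  -- work inside `H`
  have hHπ : ∀ s : ℕ, s.Prime → s ∣ Nat.card H → s = 3 ∨ s = p := by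
    intro s hs hsd
    have := hH.1 s hs hsd
    simpa using this
  have h3H : Cfsg.PRankLE 3 2 H := Cfsg.Agent.Lib.helper26.prankLE_subgroup H h3
  have hFp : IsPGroup p F := by
    apply IsPGroup.of_card (n := 3); exact hFcard
  have hTp : IsPGroup p (F.subgroupOf H) := by
    have hinj2 : Function.Injective (F.subgroupOf H).subtype := Subtype.coe_injective
    exact hFp.comap_of_injective H.subtype H.subtype_injective
  have hle := fqc_le_pCore (G := H) p hp5 hHπ h3H (F.subgroupOf H) hTp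
  have hPn : (Cfsg.pCore p H).Normal := Cfsg.Agent.Lib.helper40.pCore_normal' p H
  refine ⟨(Cfsg.pCore p H).map H.subtype, F, ?_, ?_, ?_, hFel, hFcard⟩
  · exact (Cfsg.Agent.Lib.helper40.pCore_isPGroup p H).map _
  · intro q hq
    have hqH : q ∈ H := hg hq
    rw [Subgroup.mem_normalizer_iff]
    intro x
    constructor
    · rintro ⟨y, hy, rfl⟩
      refine ⟨⟨q, hqH⟩ * y * ⟨q, hqH⟩⁻¹, hPn.conj_mem y hy ⟨q, hqH⟩, ?_⟩
      simp
    · rintro ⟨y, hy, hyx⟩
      refine ⟨⟨q, hqH⟩⁻¹ * y * ⟨q, hqH⟩, ?_, ?_⟩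
      · have := hPn.conj_mem y hy ⟨q, hqH⟩⁻¹
        simpa using this
      · have h1 : H.subtype y = q * x * q⁻¹ := hyx
        simp only [map_mul, map_inv, Subgroup.coe_subtype] at h1 ⊢
        rw [h1]; group
  · intro f hf
    have hfH : f ∈ H := hFH hf
    have : (⟨f, hfH⟩ : H) ∈ F.subgroupOf H := by
      rw [Subgroup.mem_subgroupOf]; exact hf
    exact ⟨⟨f, hfH⟩, hle this, rfl⟩

end Cfsg.Agent.Lib.helper20
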