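import Mathlib
import Cfsg.Agent.Lib.helper3.GfDefs

/-!
Racer copy (helper20) of piece GENN of the S4395 split (helper3): `h20_genn`, the verbatim
statement of `genn` in `tools/S4395_Skel.lean.txt` under a prefixed name.
-/

set_option autoImplicit false

namespace Cfsg.Agent.Lib.helper3.Gf

theorem h20_genn_conj_CP (p : ℕ) {K : Type*} [Group K] (P : Subgroup K) (hP : P.Normal)
    (g c : K) (hc : c ∈ CP p P) : g * c * g⁻¹ ∈ CP p P := by
  rcases hc with ⟨u, hu, v, hv, rfl⟩ | ⟨u, hu, rfl⟩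
  · left
    exact ⟨g * u * g⁻¹, hP.conj_mem u hu g, g * v * g⁻¹, hP.conj_mem v hv g, by group⟩
  · right
    exact ⟨g * u * g⁻¹, hP.conj_mem u hu g, by rw [conj_pow]⟩

theorem h20_genn_normal (p : ℕ) {K : Type*} [Group K] (P : Subgroup K) (hP : P.Normal) :
    (Subgroup.closure (CP p P)).Normal := by
  constructor
  intro z hz g
  induction hz using Subgroup.closure_induction with
  | mem c hc => exact Subgroup.subset_closure (h20_genn_conj_CP p P hP g c hc)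
  | one => simp
  | mul a b _ _ iha ihb =>
    have e : g * (a * b) * g⁻¹ = (g * a * g⁻¹) * (g * b * g⁻¹) := by group
    rw [e]; exact Subgroup.mul_mem _ iha ihb
  | inv a _ iha =>
    have e : g * a⁻¹ * g⁻¹ = (g * a * g⁻¹)⁻¹ := by group
    rw [e]; exact Subgroup.inv_mem _ iha

/-- GENN (racer copy, helper20). -/
theorem h20_genn (p q r : ℕ) [Fact p.Prime] [Fact q.Prime] (hpq : p ≠ q) {K : Type*} [Group K] [Finite K]
    (N P : Subgroup K) (y : K) (h : Cov p q r N P y) (hng : NonGen N) : N ≤ Subgroup.closure (CP p P) := by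
  classical
  have hp : p.Prime := Fact.out
  have hq : q.Prime := Fact.out
  haveI hPn : P.Normal := h.P_normal
  obtain ⟨Z, hZ⟩ : ∃ Z : Subgroup K, Z = Subgroup.closure (CP p P) := ⟨_, rfl⟩
  rw [← hZ]
  haveI hZn : Z.Normal := by rw [hZ]; exact h20_genn_normal p P hPn
  have hcomm : ∀ u ∈ P, ∀ v ∈ P, u * v * u⁻¹ * v⁻¹ ∈ Z := by
    intro u hu v hv
    rw [hZ]; exact Subgroup.subset_closure (Or.inl ⟨u, hu, v, hv, rfl⟩)
  have hpow : ∀ u ∈ P, u ^ p ∈ Z := by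
    intro u hu
    rw [hZ]; exact Subgroup.subset_closure (Or.inr ⟨u, hu, rfl⟩)
  clear hZ
  obtain ⟨π, hπ⟩ : ∃ π : K →* K ⧸ Z, ∀ g, π g = 1 ↔ g ∈ Z :=
    ⟨QuotientGroup.mk' Z, fun g => QuotientGroup.eq_one_iff g⟩
  -- images of elements of `P` commute
  have hc : ∀ s ∈ P, ∀ t ∈ P, π s * π t = π t * π s := by
    intro s hs t ht
    have h1 := (hπ _).mpr (hcomm s hs t ht)
    simp only [map_mul, map_inv] at h1
    exact mul_inv_eq_iff_eq_mul.mp (mul_inv_eq_one.mp h1)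
  -- the `q`-part of `y`
  obtain ⟨x, yp, hy, hyp, hxq, hxy⟩ :
      ∃ x yp : K, y = x * yp ∧ yp ∈ P ∧ x ^ (q ^ r) = 1 ∧ y * x = x * y := by
    obtain ⟨s, hs⟩ := h.P_pgroup ⟨y ^ (q ^ r), h.ord_mem⟩
    have hs' : (y ^ (q ^ r)) ^ (p ^ s) = 1 := by
      have := congrArg Subtype.val hs
      simpa using this
    have hcop : Nat.gcd (p ^ s) (q ^ r) = 1 :=
      Nat.Coprime.pow _ _ ((Nat.coprime_primes hp hq).mpr hpq)
    have hb := Nat.gcd_eq_gcd_ab (p ^ s) (q ^ r)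
    rw [hcop] at hb
    refine ⟨y ^ (((p ^ s : ℕ) : ℤ) * Nat.gcdA (p ^ s) (q ^ r)),
      y ^ (((q ^ r : ℕ) : ℤ) * Nat.gcdB (p ^ s) (q ^ r)), ?_, ?_, ?_, ?_⟩
    · rw [← zpow_add, ← hb]; simp
    · rw [zpow_mul, zpow_natCast]; exact P.zpow_mem h.ord_mem _
    · rw [← zpow_natCast, ← zpow_mul]
      have e : ((p ^ s : ℕ) : ℤ) * Nat.gcdA (p ^ s) (q ^ r) * ((q ^ r : ℕ) : ℤ)
          = ((q ^ r : ℕ) : ℤ) * ((p ^ s : ℕ) : ℤ) * Nat.gcdA (p ^ s) (q ^ r) := by ring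
      rw [e, zpow_mul, zpow_mul, zpow_natCast, zpow_natCast, hs', one_zpow]
    · exact ((Commute.refl y).zpow_right _).eq
  have hsupx : P ⊔ Subgroup.zpowers x = ⊤ := by
    rw [eq_top_iff, ← h.sup_top]
    refine sup_le le_sup_left (Subgroup.zpowers_le.mpr ?_)
    rw [hy]
    exact Subgroup.mul_mem _ (Subgroup.mem_sup_right (Subgroup.mem_zpowers x))
      (Subgroup.mem_sup_left hyp)
  -- the subgroup `D`
  obtain ⟨D, hD⟩ : ∃ D : Subgroup K, ∀ u, u ∈ D ↔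
      (u ∈ P ∧ ∃ v ∈ P, π u = π (x * v * x⁻¹ * v⁻¹)) := by
    refine ⟨{ carrier := {u | u ∈ P ∧ ∃ v ∈ P, π u = π (x * v * x⁻¹ * v⁻¹)}
              one_mem' := ⟨P.one_mem, 1, P.one_mem, by simp⟩
              mul_mem' := ?_
              inv_mem' := ?_ }, fun u => Iff.rfl⟩
    · rintro u₁ u₂ ⟨hu₁, v₁, hv₁, e₁⟩ ⟨hu₂, v₂, hv₂, e₂⟩
      refine ⟨P.mul_mem hu₁ hu₂, v₁ * v₂, P.mul_mem hv₁ hv₂, ?_⟩
      have hk := hc v₁⁻¹ (P.inv_mem hv₁) (x * v₂ * x⁻¹ * v₂⁻¹)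
        (P.mul_mem (hPn.conj_mem v₂ hv₂ x) (P.inv_mem hv₂))
      calc π (u₁ * u₂) = π (x * v₁ * x⁻¹) * (π v₁⁻¹ * π (x * v₂ * x⁻¹ * v₂⁻¹)) := by
            rw [map_mul π u₁ u₂, e₁, e₂, map_mul π (x * v₁ * x⁻¹) v₁⁻¹, mul_assoc]
        _ = π (x * v₁ * x⁻¹) * (π (x * v₂ * x⁻¹ * v₂⁻¹) * π v₁⁻¹) := by rw [hk]
        _ = π (x * (v₁ * v₂) * x⁻¹ * (v₁ * v₂)⁻¹) := by
            rw [← map_mul, ← map_mul]; congr 1; group
    · rintro u ⟨hu, v, hv, e⟩
      refine ⟨P.inv_mem hu, v⁻¹, P.inv_mem hv, ?_⟩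
      have hk := hc v hv (x * v⁻¹ * x⁻¹) (hPn.conj_mem v⁻¹ (P.inv_mem hv) x)
      calc π u⁻¹ = π (v * (x * v⁻¹ * x⁻¹)) := by
            rw [map_inv, e, ← map_inv]; congr 1; group
        _ = π (x * v⁻¹ * x⁻¹) * π v := by rw [map_mul π v (x * v⁻¹ * x⁻¹), hk]
        _ = π (x * v⁻¹ * x⁻¹ * (v⁻¹)⁻¹) := by rw [inv_inv, map_mul π (x * v⁻¹ * x⁻¹) v]
  have hDP : D ≤ P := fun u hu => ((hD u).mp hu).1
  have hDmem : ∀ v ∈ P, x * v * x⁻¹ * v⁻¹ ∈ D := fun v hv =>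
    (hD _).mpr ⟨P.mul_mem (hPn.conj_mem v hv x) (P.inv_mem hv), v, hv, rfl⟩
  have hDP_conj : ∀ g ∈ P, ∀ u ∈ D, g * u * g⁻¹ ∈ D := by
    intro g hg u hu
    obtain ⟨hu, v, hv, e⟩ := (hD u).mp hu
    refine (hD _).mpr ⟨hPn.conj_mem u hu g, v, hv, ?_⟩
    rw [← e, map_mul π (g * u) g⁻¹, map_mul π g u, map_inv, hc g hg u hu, mul_inv_cancel_right]
  have hDx_conj : ∀ g : K, g * x = x * g → ∀ u ∈ D, g * u * g⁻¹ ∈ D := by
    intro g hgx u hu
    obtain ⟨hu, v, hv, e⟩ := (hD u).mp hu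
    refine (hD _).mpr ⟨hPn.conj_mem u hu g, g * v * g⁻¹, hPn.conj_mem v hv g, ?_⟩
    have h1 : g * x * g⁻¹ = x := by rw [hgx, mul_inv_cancel_right]
    calc π (g * u * g⁻¹) = π g * π u * (π g)⁻¹ := by simp only [map_mul, map_inv]
      _ = π g * π (x * v * x⁻¹ * v⁻¹) * (π g)⁻¹ := by rw [e]
      _ = π (g * (x * v * x⁻¹ * v⁻¹) * g⁻¹) := by simp only [map_mul, map_inv]
      _ = π ((g * x * g⁻¹) * (g * v * g⁻¹) * (g * x * g⁻¹)⁻¹ * (g * v * g⁻¹)⁻¹) := by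
          congr 1; group
      _ = π (x * (g * v * g⁻¹) * x⁻¹ * (g * v * g⁻¹)⁻¹) := by rw [h1]
  haveI hDn : D.Normal := by
    constructor
    intro u hu g
    have hg : g ∈ P ⊔ Subgroup.zpowers x := by rw [hsupx]; exact Subgroup.mem_top g
    obtain ⟨a, ha, b, hb, rfl⟩ := Subgroup.mem_sup_of_normal_left.mp hg
    have hbx : b * x = x * b := by
      obtain ⟨k, rfl⟩ := Subgroup.mem_zpowers_iff.mp hb
      exact ((Commute.refl x).zpow_left k).eq
    have h2 := hDP_conj a ha _ (hDx_conj b hbx u hu)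
    have e : a * b * u * (a * b)⁻¹ = a * (b * u * b⁻¹) * a⁻¹ := by group
    rw [e]; exact h2
  have hNn : N.Normal := ⟨fun n hn g => by
    have h1 := Subgroup.mem_center_iff.mp (h.N_central hn) g
    rw [h1, mul_inv_cancel_right]; exact hn⟩
  -- `D ⊔ N = P`
  have hinv : ∀ w ∈ D ⊔ N, y * w * y⁻¹ ∈ D ⊔ N := by
    intro w hw
    have h1 : D ⊔ N ≤ (D ⊔ N).comap (MulAut.conj y).toMonoidHom := by
      apply sup_le
      · intro d hd
        exact Subgroup.mem_sup_left (hDx_conj y hxy d hd)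
      · intro n hn
        exact Subgroup.mem_sup_right (hNn.conj_mem n hn y)
    exact h1 hw
  have hW : D ⊔ N = P := by
    rcases h.irr (D ⊔ N) le_sup_right (sup_le hDP h.N_le_P) hinv with hW | hW
    · exfalso
      have hDN : D ≤ N := by rw [← hW]; exact le_sup_left
      obtain ⟨u, hu, hnu⟩ := h.nontriv
      apply hnu
      have e : y * u * y⁻¹ * u⁻¹ = (x * (yp * u * yp⁻¹) * x⁻¹ * (yp * u * yp⁻¹)⁻¹)
          * (yp * u * yp⁻¹ * u⁻¹) := by rw [hy]; group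
      rw [e]
      exact N.mul_mem (hDN (hDmem _ (hPn.conj_mem u hu yp))) (h.comm_mem yp hyp u hu)
    · exact hW
  have hS : (D ⊔ Subgroup.zpowers x) ⊔ N = ⊤ := by
    rw [eq_top_iff, ← hsupx]
    apply sup_le
    · rw [← hW]; exact sup_le (le_sup_of_le_left le_sup_left) le_sup_right
    · exact le_sup_of_le_left le_sup_right
  have hST := hng _ hS
  have hPD : P ≤ D := by
    intro u hu
    have hu' : u ∈ D ⊔ Subgroup.zpowers x := by rw [hST]; exact Subgroup.mem_top u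
    obtain ⟨d, hd, z, hz, rfl⟩ := Subgroup.mem_sup_of_normal_left.mp hu'
    have hzP : z ∈ P := by
      have e : z = d⁻¹ * (d * z) := by group
      rw [e]; exact P.mul_mem (P.inv_mem (hDP hd)) hu
    have hz1 : z = 1 := by
      obtain ⟨k, rfl⟩ := Subgroup.mem_zpowers_iff.mp hz
      have h1 : (x ^ k) ^ (q ^ r) = 1 := by
        rw [← zpow_natCast, ← zpow_mul, mul_comm, zpow_mul, zpow_natCast, hxq, one_zpow]
      obtain ⟨j, hj⟩ := h.P_pgroup ⟨x ^ k, hzP⟩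
      have h2 : (x ^ k) ^ (p ^ j) = 1 := by
        have := congrArg Subtype.val hj
        simpa using this
      have hd1 : orderOf (x ^ k) ∣ Nat.gcd (q ^ r) (p ^ j) :=
        Nat.dvd_gcd (orderOf_dvd_of_pow_eq_one h1) (orderOf_dvd_of_pow_eq_one h2)
      have hcop : Nat.gcd (q ^ r) (p ^ j) = 1 :=
        Nat.Coprime.pow _ _ ((Nat.coprime_primes hq hp).mpr (Ne.symm hpq))
      rw [hcop, Nat.dvd_one, orderOf_eq_one_iff] at hd1
      exact hd1
    rw [hz1, mul_one]; exact hd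
  -- the averaging argument
  intro n hn
  obtain ⟨_, v, hv, e⟩ := (hD n).mp (hPD (h.N_le_P hn))
  have hcen : π x * π n = π n * π x := by
    rw [← map_mul, ← map_mul, Subgroup.mem_center_iff.mp (h.N_central hn) x]
  have hstep : π x * π v * (π x)⁻¹ = π n * π v := by
    rw [e]; simp only [map_mul, map_inv]; group
  have hiter : ∀ i : ℕ, π x ^ i * π v * (π x ^ i)⁻¹ = π n ^ i * π v := by
    intro i
    induction i with
    | zero => simp
    | succ i ih =>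
      have hc' : π x * π n ^ i = π n ^ i * π x :=
        ((show Commute (π x) (π n) from hcen).pow_right i).eq
      calc π x ^ (i + 1) * π v * (π x ^ (i + 1))⁻¹
          = π x * (π x ^ i * π v * (π x ^ i)⁻¹) * (π x)⁻¹ := by rw [pow_succ']; group
        _ = π x * (π n ^ i * π v) * (π x)⁻¹ := by rw [ih]
        _ = (π x * π n ^ i) * π v * (π x)⁻¹ := by group
        _ = (π n ^ i * π x) * π v * (π x)⁻¹ := by rw [hc']
        _ = π n ^ i * (π x * π v * (π x)⁻¹) := by group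
        _ = π n ^ i * (π n * π v) := by rw [hstep]
        _ = π n ^ (i + 1) * π v := by rw [pow_succ]; group
  have h1 : π n ^ (q ^ r) = 1 := by
    have h2 := hiter (q ^ r)
    rw [← map_pow π x (q ^ r), hxq, map_one, inv_one, mul_one] at h2
    exact (mul_right_cancel h2).symm
  have h2 : π n ^ p = 1 := by
    rw [← map_pow]; exact (hπ _).mpr (hpow n (h.N_le_P hn))
  have hd1 : orderOf (π n) ∣ Nat.gcd (q ^ r) p :=
    Nat.dvd_gcd (orderOf_dvd_of_pow_eq_one h1) (orderOf_dvd_of_pow_eq_one h2)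
  have hcop : Nat.gcd (q ^ r) p = 1 :=
    Nat.Coprime.pow_left r ((Nat.coprime_primes hq hp).mpr (Ne.symm hpq))
  rw [hcop, Nat.dvd_one, orderOf_eq_one_iff] at hd1
  exact (hπ n).mp hd1

end Cfsg.Agent.Lib.helper3.Gf
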