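import Mathlib
import Cfsg.Prelude.Def_Blocks

/-!
# Lifting conjugacy classes through a normal `p'`-subgroup (helper20)

`exists_lift_index_coprime`: if `N ⊴ G` has order prime to `p` and `q ∈ G ⧸ N`, then `q` has a
lift `g` whose class size is a `p'`-multiple of the class size of `q`.
-/

set_option autoImplicit false
set_option linter.style.haveILetI false

namespace Cfsg.Agent.Lib.helper20

universe u

/-- A class of `G ⧸ N` (`N` a normal `p'`-subgroup) lifts to a class of `G` whose size is a
`p'`-multiple of the size of the original class. -/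
theorem exists_lift_index_coprime {G : Type u} [Group G] [Finite G] (p : ℕ) [Fact p.Prime]
    (N : Subgroup G) [N.Normal] (hN : ¬ p ∣ Nat.card N) (q : G ⧸ N) :
    ∃ g : G, (g : G ⧸ N) = q ∧ ∃ r : ℕ, r.Coprime p ∧
      (Subgroup.centralizer ({g} : Set G)).index
        = r * (Subgroup.centralizer ({q} : Set (G ⧸ N))).index := by
  classical
  have hpp : p.Prime := Fact.out
  obtain ⟨C, hC⟩ : ∃ C : Subgroup G,
      C = (Subgroup.centralizer ({q} : Set (G ⧸ N))).comap (QuotientGroup.mk' N) := ⟨_, rfl⟩
  have hCmem : ∀ c : G, c ∈ C ↔ (c : G ⧸ N) * q = q * (c : G ⧸ N) := by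
    intro c
    rw [hC, Subgroup.mem_comap, Subgroup.mem_centralizer_singleton_iff]
    rfl
  obtain ⟨P⟩ : Nonempty (Sylow p C) := inferInstance
  -- the action on the coset
  let X := ↥((QuotientGroup.mk : G → G ⧸ N) ⁻¹' ({q} : Set (G ⧸ N)))
  have hXmem : ∀ x : X, ((x : G) : G ⧸ N) = q := fun x => x.2
  letI act : MulAction ↥(P : Subgroup C) X :=
    { smul := fun s x => ⟨((s : C) : G) * (x : G) * ((s : C) : G)⁻¹, by
        show ((((s : C) : G) * (x : G) * ((s : C) : G)⁻¹ : G) : G ⧸ N) = q
        have h1 := (hCmem ((s : C) : G)).1 (s : C).2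
        rw [QuotientGroup.mk_mul, QuotientGroup.mk_mul, hXmem x, h1, QuotientGroup.mk_inv]
        group⟩
      one_smul := fun x => by
        apply Subtype.ext
        show (((1 : ↥(P : Subgroup C)) : C) : G) * (x : G) * (((1 : ↥(P : Subgroup C)) : C) : G)⁻¹
          = (x : G)
        simp
      mul_smul := fun s t x => by
        apply Subtype.ext
        show (((s * t : ↥(P : Subgroup C)) : C) : G) * (x : G)
            * (((s * t : ↥(P : Subgroup C)) : C) : G)⁻¹
          = ((s : C) : G) * (((t : C) : G) * (x : G) * ((t : C) : G)⁻¹) * ((s : C) : G)⁻¹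
        simp only [Subgroup.coe_mul]
        group }
  have hsmul : ∀ (s : ↥(P : Subgroup C)) (x : X),
      ((s • x : X) : G) = ((s : C) : G) * (x : G) * ((s : C) : G)⁻¹ := fun s x => rfl
  have hcardX : Nat.card X = Nat.card N := by
    have := QuotientGroup.card_preimage_mk N ({q} : Set (G ⧸ N))
    rw [this]
    simp
  have hfix := P.isPGroup'.nonempty_fixed_point_of_prime_not_dvd_card X (by rw [hcardX]; exact hN)
  obtain ⟨x₀, hx₀⟩ := hfix
  refine ⟨(x₀ : G), hXmem x₀, ?_⟩
  -- the centralizer of the fixed point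
  have hle : Subgroup.centralizer ({(x₀ : G)} : Set G) ≤ C := by
    intro c hc
    rw [Subgroup.mem_centralizer_singleton_iff] at hc
    rw [hCmem, ← hXmem x₀, ← QuotientGroup.mk_mul, ← QuotientGroup.mk_mul, hc]
  have hPle : (P : Subgroup C) ≤ (Subgroup.centralizer ({(x₀ : G)} : Set G)).subgroupOf C := by
    intro s hs
    rw [Subgroup.mem_subgroupOf, Subgroup.mem_centralizer_singleton_iff]
    have h1 := hx₀ ⟨s, hs⟩
    have h2 := congrArg (Subtype.val : X → G) h1
    rw [hsmul] at h2
    simp only at h2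
    calc (s : G) * (x₀ : G) = ((s : G) * (x₀ : G) * (s : G)⁻¹) * (s : G) := by group
      _ = (x₀ : G) * (s : G) := by rw [h2]
  have hdvd := Subgroup.index_dvd_of_le hPle
  have hnd : ¬ p ∣ ((Subgroup.centralizer ({(x₀ : G)} : Set G)).subgroupOf C).index := by
    intro h
    exact P.not_dvd_index (h.trans hdvd)
  refine ⟨(Subgroup.centralizer ({(x₀ : G)} : Set G)).relIndex C, ?_, ?_⟩
  · exact ((Nat.Prime.coprime_iff_not_dvd hpp).2 hnd).symm
  · rw [← Subgroup.relIndex_mul_index hle]
    congr 1
    rw [hC]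
    exact Subgroup.index_comap_of_surjective _ (QuotientGroup.mk'_surjective N)

end Cfsg.Agent.Lib.helper20
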