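import Mathlib
import Cfsg.Agent.Lib.helper20.BL3Lin
import Cfsg.Agent.Lib.helper21.HomocyclicSylow
import Cfsg.Agent.Lib.helper76.KazCore
import Cfsg.Agent.Lib.helper40.Cores2

/-!
# Brauer's theorem on Sylow 2-subgroups of type `(2^m, 2^m)`, `m ≥ 2` (helper20)

* `hc_proper_normal`: if `|N_G(P) : C_G(P)| = 3` then `P` lies in a proper normal subgroup
  (the kernel of a nonprincipal linear character of the principal 2-block);
* `hc_odd_normal_eq_bot`: the hypothesis `O(G) = 1` passes to normal subgroups;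
* `hc_sylow_normal`: if `O(G) = 1` then `P` is normal in `G`.
-/

set_option autoImplicit false

namespace Cfsg.Agent.Lib.helper20

open Cfsg Cfsg.Agent.Lib.helper81 Cfsg.Agent.Lib.helper21

universe u

theorem hc_card {G : Type u} [Group G] (P : Subgroup G) (m : ℕ)
    (e : P ≃* Multiplicative (ZMod (2 ^ m) × ZMod (2 ^ m))) :
    Nat.card P = 2 ^ m * 2 ^ m := by
  have : NeZero (2 ^ m) := ⟨by positivity⟩
  rw [Nat.card_congr e.toEquiv]
  show Nat.card (ZMod (2 ^ m) × ZMod (2 ^ m)) = _
  rw [Nat.card_prod, Nat.card_zmod]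

/-- If `|N_G(P) : C_G(P)| = 3` for a Sylow 2-subgroup `P ≅ Z/2^m × Z/2^m`, `m ≥ 2`, then `P`
lies in a proper normal subgroup of `G`. -/
theorem hc_proper_normal {G : Type u} [Group G] [Finite G] (P : Sylow 2 G) (m : ℕ) (hm : 2 ≤ m)
    (e : (P : Subgroup G) ≃* Multiplicative (ZMod (2 ^ m) × ZMod (2 ^ m)))
    (h3 : (Subgroup.centralizer ((P : Subgroup G) : Set G)).relIndex
      (Subgroup.normalizer ((P : Subgroup G) : Set G)) = 3) :
    ∃ K : Subgroup G, K.Normal ∧ K ≠ ⊤ ∧ (P : Subgroup G) ≤ K := by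
  classical
  obtain ⟨M, hM⟩ := Cfsg.Agent.Lib.helper76.exists_isPModular 2 Nat.prime_two
  have hab0 := homocyclic_abelian P m e
  have hab : IsMulCommutative P :=
    ⟨⟨fun a b => Subtype.ext (hab0 a a.2 b b.2)⟩⟩
  have hfrob : ∀ y : G, y ∈ (P : Subgroup G) → y ≠ 1 →
      Subgroup.centralizer ({y} : Set G) ⊓ Subgroup.normalizer ((P : Subgroup G) : Set G)
        = Subgroup.centralizer ((P : Subgroup G) : Set G) :=
    fun y hy hy1 => homocyclic_centralizer_inf P m e (by omega) y hy hy1
  have hcard := hc_card (P : Subgroup G) m e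
  have hm2 : 3 + 1 < Nat.card (P : Subgroup G) := by
    rw [hcard]
    have h4 : 2 ^ 2 ≤ 2 ^ m := Nat.pow_le_pow_right (by norm_num) hm
    nlinarith
  obtain ⟨χ, hχt, hχd, hχP⟩ := bl3_two_exists_linear hM P hab h3 hfrob hm2
  refine ⟨charKer (χ : G → ℂ) (irr_isCharacter χ), inferInstance, ?_, ?_⟩
  · intro htop
    obtain ⟨g, hg⟩ := irr_exists_ne_of_ne_triv χ hχt
    apply hg
    rw [← mem_charKer (χ : G → ℂ) (irr_isCharacter χ), htop]
    exact Subgroup.mem_top g
  · intro y hy
    rw [mem_charKer, hχP y hy, hχP 1 (Subgroup.one_mem _)]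

/-- If `G` has no nontrivial normal subgroup of odd order, neither has a normal subgroup of `G`. -/
theorem hc_odd_normal_eq_bot {G : Type u} [Group G] [Finite G]
    (hO : ∀ N : Subgroup G, N.Normal → Odd (Nat.card N) → N = ⊥) (K : Subgroup G) [hK : K.Normal]
    (L : Subgroup K) (hL : L.Normal) (hodd : Odd (Nat.card L)) : L = ⊥ := by
  have hcop : ∀ n : ℕ, Odd n → n.Coprime 2 := fun n hn =>
    Nat.coprime_two_right.mpr hn
  have hodd' : ∀ n : ℕ, n.Coprime 2 → Odd n := fun n hn =>
    Nat.coprime_two_right.mp hn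
  have h1 : L ≤ pPrimeCore 2 K := Cfsg.Agent.Lib.helper40.le_pPrimeCore L hL (hcop _ hodd)
  have h2 : ((pPrimeCore 2 K).map K.subtype : Subgroup G).Normal := by
    rw [← Subgroup.normalizer_eq_top_iff]
    apply top_unique
    have h3 := Cfsg.Agent.Lib.helper40.normalizer_le_normalizer_pPrimeCore_map_subtype 2 K
    rwa [Subgroup.normalizer_eq_top] at h3
  have h4 : ((pPrimeCore 2 K).map K.subtype : Subgroup G) = ⊥ :=
    hO _ h2 (hodd' _ (Cfsg.Agent.Lib.helper40.pPrimeCore_map_subtype_card_coprime 2 K))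
  have h5 : pPrimeCore 2 K = ⊥ :=
    (Subgroup.map_eq_bot_iff_of_injective _ K.subtype_injective).mp h4
  rw [h5] at h1
  exact le_bot_iff.mp h1

/-- Burnside's transfer theorem in a group without normal subgroups of odd order: a Sylow
2-subgroup which is central in its normalizer is the whole group. -/
theorem hc_eq_top_of_normalizer_le {X : Type u} [Group X] [Finite X] (Q : Sylow 2 X)
    (hNC : Subgroup.normalizer ((Q : Subgroup X) : Set X)
      ≤ Subgroup.centralizer ((Q : Subgroup X) : Set X))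
    (hO : ∀ N : Subgroup X, N.Normal → Odd (Nat.card N) → N = ⊥) : (Q : Subgroup X) = ⊤ := by
  haveI : Fact (Nat.Prime 2) := ⟨Nat.prime_two⟩
  have hcompl := MonoidHom.ker_transferSylow_isComplement' Q hNC
  have hcard := hcompl.card_mul_card
  have hidx : (Q : Subgroup X).index * Nat.card (Q : Subgroup X) = Nat.card X :=
    Subgroup.index_mul_card _
  have hker : Nat.card (MonoidHom.transferSylow Q hNC).ker = (Q : Subgroup X).index := by
    have hpos : 0 < Nat.card (Q : Subgroup X) := Nat.card_pos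
    have h2 : Nat.card (MonoidHom.transferSylow Q hNC).ker * Nat.card (Q : Subgroup X)
        = (Q : Subgroup X).index * Nat.card (Q : Subgroup X) := by rw [hcard, hidx]
    exact Nat.eq_of_mul_eq_mul_right hpos h2
  have hodd : Odd (Nat.card (MonoidHom.transferSylow Q hNC).ker) := by
    rw [hker, ← Nat.not_even_iff_odd, even_iff_two_dvd]
    exact Q.not_dvd_index
  have hbot := hO _ (MonoidHom.normal_ker _) hodd
  rw [hbot] at hcompl
  exact Subgroup.isComplement'_bot_left.mp hcompl

/-- Brauer: a Sylow 2-subgroup `P ≅ Z/2^m × Z/2^m`, `m ≥ 2`, of a group `G` with `O(G) = 1` is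
normal. -/
theorem hc_sylow_normal_aux : ∀ (n : ℕ) (G : Type u) [Group G] [Finite G], Nat.card G = n →
    ∀ (P : Sylow 2 G) (m : ℕ), 2 ≤ m →
    ((P : Subgroup G) ≃* Multiplicative (ZMod (2 ^ m) × ZMod (2 ^ m))) →
    (∀ N : Subgroup G, N.Normal → Odd (Nat.card N) → N = ⊥) → (P : Subgroup G).Normal := by
  intro n
  induction n using Nat.strong_induction_on with
  | _ n ih =>
    intro G _ _ hn P m hm e hO
    haveI : Fact (Nat.Prime 2) := ⟨Nat.prime_two⟩
    rcases homocyclic_relIndex P m e (by omega) with h1 | h3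
    · -- Burnside: a normal 2-complement, which is trivial
      have hNC : Subgroup.normalizer ((P : Subgroup G) : Set G)
          ≤ Subgroup.centralizer ((P : Subgroup G) : Set G) := Subgroup.relIndex_eq_one.mp h1
      rw [hc_eq_top_of_normalizer_le P hNC hO]
      infer_instance
    · obtain ⟨K, hKn, hKtop, hPK⟩ := hc_proper_normal P m hm e h3
      haveI := hKn
      have hlt : Nat.card K < n := by
        rw [← hn]
        apply lt_of_le_of_ne (Subgroup.card_le_card_group K)
        intro h
        exact hKtop (Subgroup.card_eq_iff_eq_top K |>.mp h)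
      have hcoe : ((P.subtype hPK : Sylow 2 K) : Subgroup K) = (P : Subgroup G).subgroupOf K :=
        Sylow.coe_subtype P hPK
      have e' : ((P.subtype hPK : Sylow 2 K) : Subgroup K)
          ≃* Multiplicative (ZMod (2 ^ m) × ZMod (2 ^ m)) :=
        ((MulEquiv.subgroupCongr hcoe).trans (Subgroup.subgroupOfEquivOfLe hPK)).trans e
      have hnorm := ih (Nat.card K) hlt K rfl (P.subtype hPK) m hm e'
        (fun L hL hodd => hc_odd_normal_eq_bot hO K L hL hodd)
      haveI : ((P.subtype hPK : Sylow 2 K) : Subgroup K).Characteristic :=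
        Sylow.characteristic_of_normal _ hnorm
      have hmap : (((P.subtype hPK : Sylow 2 K) : Subgroup K).map K.subtype : Subgroup G)
          = (P : Subgroup G) := by
        rw [hcoe]
        exact Subgroup.map_subgroupOf_eq_of_le hPK
      rw [← hmap]
      exact ConjAct.normal_of_characteristic_of_normal

theorem hc_sylow_normal {G : Type u} [Group G] [Finite G] (P : Sylow 2 G) (m : ℕ) (hm : 2 ≤ m)
    (e : (P : Subgroup G) ≃* Multiplicative (ZMod (2 ^ m) × ZMod (2 ^ m)))
    (hO : ∀ N : Subgroup G, N.Normal → Odd (Nat.card N) → N = ⊥) : (P : Subgroup G).Normal :=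
  hc_sylow_normal_aux (Nat.card G) G rfl P m hm e hO

end Cfsg.Agent.Lib.helper20
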