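import Mathlib
import Cfsg.Agent.Lib.helper79.Contrib
import Cfsg.Agent.Lib.helper20.Trunc
import Cfsg.Agent.Lib.helper4.CharDecomp
import Cfsg.Agent.Lib.helper83.CharBasic2
import Cfsg.Agent.Lib.helper81.CharOrtho
import Cfsg.Agent.Lib.helper81.Blocks

/-!
# Restriction of a height-zero character to a subgroup with an induced block (helper20)

`not_dvd_sum_mul_contrib`: if the block `b` of `H` induces the block `B` of `G`, `χ ∈ B` has
height zero, `ξ₀ ∈ b` has height zero and `m ξ'` are the multiplicities of `ξ'` in `χ|_H`, then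
`∑_{ξ' ∈ b} m ξ' * contrib_b(ξ', ξ₀)` is not divisible by `p`.
-/

set_option autoImplicit false
open Cfsg

namespace Cfsg.Agent.Lib.helper20

open Cfsg.Agent.Lib.helper79 (regInner contrib cc contrib_spec contrib_eq_zero contrib_symm
  pow_height_dvd_contrib cc_memLocalIdeal_iff not_dvd_of_height_zero exists_height_zero
  factorization_add_defect regInner_conj cc_mul)
open Cfsg.Agent.Lib.helper81 (irr_classFun irr_isIntegral irr_one_ne_zero irr_one_eq_charDegree
  irr_conjInv irr_inv)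
open scoped ComplexConjugate

universe u

/-- The element of the group algebra with prescribed coefficients. -/
noncomputable def ofFn {G : Type u} [Group G] [Fintype G] (f : G → ℂ) : MonoidAlgebra ℂ G :=
  ∑ g : G, MonoidAlgebra.single g (f g)

theorem coeff_ofFn {G : Type u} [Group G] [Fintype G] (f : G → ℂ) (g : G) :
    (ofFn f).coeff g = f g := by
  classical
  unfold ofFn
  rw [MonoidAlgebra.coeff_sum, Finsupp.finsetSum_apply]
  simp_rw [MonoidAlgebra.coeff_single, Finsupp.single_apply]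
  rw [Finset.sum_ite_eq']
  simp

/-- The integer `contrib_b(ξ', ξ₀)` extended by zero outside `b`, in terms of `regInner`. -/
theorem contribOrZero_spec {H : Type u} [Group H] [Fintype H] {p : ℕ} [Fact p.Prime]
    {M : Ideal Cfsg.AlgInt} (hM : Cfsg.IsPModular p M) {b : Set (Cfsg.IrrCharacter H)}
    (hb : Cfsg.IsPBlock M b) {ξ₀ : Cfsg.IrrCharacter H} (hξ₀ : ξ₀ ∈ b)
    (ξ' : Cfsg.IrrCharacter H) [Decidable (ξ' ∈ b)] :
    (((if ξ' ∈ b then contrib p b ξ' ξ₀ else 0 : ℤ) : ℤ) : ℂ) * (Nat.card H : ℂ)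
      = (p ^ blockDefect p b : ℂ) * regInner p (ξ' : H → ℂ) (ξ₀ : H → ℂ) := by
  have hpp : p.Prime := Fact.out
  have hpc : (p : ℂ) ≠ 0 := Nat.cast_ne_zero.mpr hpp.ne_zero
  by_cases hξ' : ξ' ∈ b
  · simp only [hξ', if_true]
    exact contrib_spec hM hb hξ' ξ₀
  · simp only [hξ', if_false]
    have h1 := contrib_spec hM hb hξ₀ ξ'
    rw [contrib_eq_zero hM hb hξ₀ hξ'] at h1
    have h2 : regInner p (ξ₀ : H → ℂ) (ξ' : H → ℂ) = 0 := by
      have h3 : (p ^ blockDefect p b : ℂ) ≠ 0 := pow_ne_zero _ hpc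
      have h4 : (p ^ blockDefect p b : ℂ) * regInner p (ξ₀ : H → ℂ) (ξ' : H → ℂ) = 0 := by
        rw [← h1]; simp
      exact (mul_eq_zero.1 h4).resolve_left h3
    rw [← regInner_conj, h2]
    simp

open Classical in
/-- If `b` (a block of `H`) induces `B`, `χ ∈ B` has height zero, `ξ₀ ∈ b` has height zero and
`m` gives the multiplicities of the restriction of `χ` to `H`, then `p` does not divide
`∑_{ξ' ∈ b} m ξ' * contrib_b(ξ', ξ₀)`. -/
theorem not_dvd_sum_mul_contrib {G : Type u} [Group G] [Fintype G] (p : ℕ) [Fact p.Prime]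
    (M : Ideal Cfsg.AlgInt) (hM : Cfsg.IsPModular p M) (H : Subgroup G) [Fintype H]
    (b : Set (Cfsg.IrrCharacter H)) (B : Set (Cfsg.IrrCharacter G))
    (hind : Cfsg.IsInducedBlock M H b B) (χ : Cfsg.IrrCharacter G) (hχ : χ ∈ B)
    (h0 : Cfsg.blockHeight p B (χ : G → ℂ) = 0)
    (m : Cfsg.IrrCharacter H → ℕ)
    (hm : ∀ ξ' : Cfsg.IrrCharacter H,
      Cfsg.classInner (fun h : H => (χ : G → ℂ) h) (ξ' : H → ℂ) = (m ξ' : ℂ))
    (ξ₀ : Cfsg.IrrCharacter H) (hξ₀ : ξ₀ ∈ b)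
    (hξ₀0 : Cfsg.blockHeight p b (ξ₀ : H → ℂ) = 0) :
    ¬ (p : ℤ) ∣ ∑ ξ' : Cfsg.IrrCharacter H,
        (m ξ' : ℤ) * (if ξ' ∈ b then contrib p b ξ' ξ₀ else 0) := by
  have hpp : p.Prime := Fact.out
  have hMp : M.IsPrime := hM.2.1.isPrime
  obtain ⟨hb, hB, hcong⟩ := hind
  have hpc : (p : ℂ) ≠ 0 := Nat.cast_ne_zero.mpr hpp.ne_zero
  have hH0 : (Nat.card H : ℂ) ≠ 0 := Nat.cast_ne_zero.mpr Nat.card_pos.ne'
  have hcf : IsClassFunction H (fun h : H => (χ : G → ℂ) h) := by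
    intro g h
    exact irr_classFun χ (g : G) (h : G)
  have hexp : ∀ h : H, (χ : G → ℂ) h = ∑ ξ' : IrrCharacter H, (m ξ' : ℂ) * (ξ' : H → ℂ) h := by
    intro h
    have h1 := Cfsg.Agent.Lib.helper83.classFunction_expansion' (fun h : H => (χ : G → ℂ) h) hcf h
    simp_rw [hm] at h1
    exact h1
  -- the integers c ξ'
  set c : IrrCharacter H → ℤ := fun ξ' => if ξ' ∈ b then contrib p b ξ' ξ₀ else 0 with hc
  have hcspec : ∀ ξ' : IrrCharacter H, (c ξ' : ℂ) * (Nat.card H : ℂ)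
      = (p ^ blockDefect p b : ℂ) * regInner p (ξ' : H → ℂ) (ξ₀ : H → ℂ) := by
    intro ξ'
    exact contribOrZero_spec hM hb hξ₀ ξ'
  set S : ℤ := ∑ ξ' : IrrCharacter H, (m ξ' : ℤ) * c ξ' with hS
  -- Step 1
  have hreg : regInner p (fun h : H => (χ : G → ℂ) h) (ξ₀ : H → ℂ)
      = ∑ ξ' : IrrCharacter H, (m ξ' : ℂ) * regInner p (ξ' : H → ℂ) (ξ₀ : H → ℂ) := by
    unfold regInner
    simp_rw [Finset.mul_sum]
    rw [Finset.sum_comm]
    apply Finset.sum_congr rfl
    intro h _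
    have e1 : pRegularPart p (fun h : H => (χ : G → ℂ) h) h
        = ∑ ξ' : IrrCharacter H, (m ξ' : ℂ) * pRegularPart p (ξ' : H → ℂ) h := by
      unfold pRegularPart
      split_ifs
      · exact hexp h
      · simp
    rw [e1, Finset.sum_mul]
    apply Finset.sum_congr rfl
    intro ξ' _
    ring
  have hstep1 : (p ^ blockDefect p b : ℂ) * regInner p (fun h : H => (χ : G → ℂ) h) (ξ₀ : H → ℂ)
      = (Nat.card H : ℂ) * (S : ℂ) := by
    rw [hreg, Finset.mul_sum, hS]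
    push_cast
    rw [Finset.mul_sum]
    apply Finset.sum_congr rfl
    intro ξ' _
    have := hcspec ξ'
    calc (p ^ blockDefect p b : ℂ) * ((m ξ' : ℂ) * regInner p (ξ' : H → ℂ) (ξ₀ : H → ℂ))
        = (m ξ' : ℂ) * ((p ^ blockDefect p b : ℂ) * regInner p (ξ' : H → ℂ) (ξ₀ : H → ℂ)) := by
          ring
      _ = (m ξ' : ℂ) * ((c ξ' : ℂ) * (Nat.card H : ℂ)) := by rw [this]
      _ = (Nat.card H : ℂ) * ((m ξ' : ℂ) * (c ξ' : ℂ)) := by ring
  -- Step 2: the central element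
  set z : MonoidAlgebra ℂ G := ofFn (fun g => conj (pRegularPart p (χ : G → ℂ) g)) with hz
  have hzc : IsCentralElt z := by
    rw [isCentralElt_iff]
    intro g x
    rw [hz, coeff_ofFn, coeff_ofFn]
    unfold pRegularPart IsPRegular
    have h1 : orderOf (x * g * x⁻¹) = orderOf g := by
      have := orderOf_injective (MulAut.conj x).toMonoidHom (MulAut.conj x).injective g
      simpa using this
    rw [h1, irr_classFun χ g x]
  have hzl : LocalCoeff M z := by
    intro g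
    rw [hz, coeff_ofFn]
    unfold pRegularPart
    split_ifs
    · rw [← irr_inv]
      exact memLocalRing_of_algInt hMp ⟨_, irr_isIntegral χ g⁻¹⟩
    · rw [map_zero]; exact memLocalRing_zero hMp
  have hstep2 := memLocalIdeal_omega_resAlg_sub hMp H (ξ₀ : H → ℂ) (χ : G → ℂ) (irr_conjInv χ)
    (fun g => hcong ξ₀ hξ₀ χ hχ g) z hzc hzl
  have hom1 : omega (χ : G → ℂ) z = cc p (χ : G → ℂ) (χ : G → ℂ) := by
    unfold omega cc
    congr 1
    apply Finset.sum_congr rfl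
    intro g _
    rw [hz, coeff_ofFn]
  have hom2 : omega (ξ₀ : H → ℂ) (resAlg H z)
      = cc p (fun h : H => (χ : G → ℂ) h) (ξ₀ : H → ℂ) := by
    unfold omega cc
    congr 1
    apply Finset.sum_congr rfl
    intro h _
    rw [coeff_resAlg, hz, coeff_ofFn]
    congr 2
    unfold pRegularPart IsPRegular
    rw [Subgroup.orderOf_coe]
  rw [hom1, hom2] at hstep2
  have hccG : ¬ MemLocalIdeal M (cc p (χ : G → ℂ) (χ : G → ℂ)) := by
    rw [cc_memLocalIdeal_iff hM hB hχ hχ]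
    exact not_dvd_of_height_zero hM hB hχ h0 hχ
  have hccH : ¬ MemLocalIdeal M (cc p (fun h : H => (χ : G → ℂ) h) (ξ₀ : H → ℂ)) := by
    intro h
    apply hccG
    have := memLocalIdeal_sub hMp h hstep2
    rwa [sub_sub_cancel] at this
  -- Step 3
  have hξ1 : (ξ₀ : H → ℂ) 1 ≠ 0 := irr_one_ne_zero ξ₀
  have hccmul := cc_mul p (fun h : H => (χ : G → ℂ) h) (ξ₀ : H → ℂ) hξ1
  have hreal : conj (regInner p (fun h : H => (χ : G → ℂ) h) (ξ₀ : H → ℂ))
      = regInner p (fun h : H => (χ : G → ℂ) h) (ξ₀ : H → ℂ) := by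
    have h3 : (p ^ blockDefect p b : ℂ) ≠ 0 := pow_ne_zero _ hpc
    have h4 : regInner p (fun h : H => (χ : G → ℂ) h) (ξ₀ : H → ℂ)
        = (Nat.card H : ℂ) * (S : ℂ) / (p ^ blockDefect p b : ℂ) := by
      rw [← hstep1]; field_simp
    rw [h4]
    simp
  rw [hreal] at hccmul
  -- arithmetic
  have hfd := factorization_add_defect (p := p) hξ₀
  rw [hξ₀0, add_zero] at hfd
  set D := charDegree (ξ₀ : H → ℂ) with hD
  have hD0 : D ≠ 0 := by
    intro h
    apply hξ1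
    rw [irr_one_eq_charDegree, ← hD, h]; simp
  obtain ⟨D', hD'def⟩ : ∃ D' : ℕ, D' = ordCompl[p] D := ⟨_, rfl⟩
  obtain ⟨h', hh'def⟩ : ∃ h' : ℕ, h' = ordCompl[p] (Nat.card H) := ⟨_, rfl⟩
  have hDsplit : p ^ (D.factorization p) * D' = D := by
    rw [hD'def]; exact Nat.ordProj_mul_ordCompl_eq_self D p
  have hHsplit : p ^ ((Nat.card H).factorization p) * h' = Nat.card H := by
    rw [hh'def]; exact Nat.ordProj_mul_ordCompl_eq_self (Nat.card H) p
  have hD' : D'.Coprime p := by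
    rw [hD'def]
    exact ((Nat.Prime.coprime_iff_not_dvd hpp).mpr (Nat.not_dvd_ordCompl hpp hD0)).symm
  have hD'0 : D' ≠ 0 := by
    rw [hD'def]; exact (Nat.ordCompl_pos p hD0).ne'
  have hkey : cc p (fun h : H => (χ : G → ℂ) h) (ξ₀ : H → ℂ) * (D' : ℂ)
      = (h' : ℂ) * (S : ℂ) := by
    have e1 : cc p (fun h : H => (χ : G → ℂ) h) (ξ₀ : H → ℂ) * (D : ℂ)
        * (p ^ blockDefect p b : ℂ) = (Nat.card H : ℂ) * (S : ℂ) := by
      rw [← hstep1, ← hccmul, irr_one_eq_charDegree]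
      ring
    have e2 : (D : ℂ) = (p : ℂ) ^ (D.factorization p) * (D' : ℂ) := by
      exact_mod_cast hDsplit.symm
    have e3 : (Nat.card H : ℂ) = (p : ℂ) ^ ((Nat.card H).factorization p) * (h' : ℂ) := by
      exact_mod_cast hHsplit.symm
    rw [e2, e3, ← hfd, pow_add] at e1
    have hpa : (p : ℂ) ^ (D.factorization p) * (p : ℂ) ^ blockDefect p b ≠ 0 :=
      mul_ne_zero (pow_ne_zero _ hpc) (pow_ne_zero _ hpc)
    apply mul_left_cancel₀ hpa
    calc (p : ℂ) ^ (D.factorization p) * (p : ℂ) ^ blockDefect p b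
          * (cc p (fun h : H => (χ : G → ℂ) h) (ξ₀ : H → ℂ) * (D' : ℂ))
        = cc p (fun h : H => (χ : G → ℂ) h) (ξ₀ : H → ℂ)
          * ((p : ℂ) ^ (D.factorization p) * (D' : ℂ)) * (p : ℂ) ^ blockDefect p b := by
          ring
      _ = (p : ℂ) ^ (D.factorization p) * (p : ℂ) ^ blockDefect p b
          * (h' : ℂ) * (S : ℂ) := e1
      _ = _ := by ring
  rintro ⟨t, ht⟩
  apply hccH
  have hD'c : (D' : ℂ) ≠ 0 := by exact_mod_cast hD'0
  have e4 : cc p (fun h : H => (χ : G → ℂ) h) (ξ₀ : H → ℂ)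
      = (p : ℂ) * ((h' : ℂ) * (t : ℂ) * (D' : ℂ)⁻¹) := by
    have : cc p (fun h : H => (χ : G → ℂ) h) (ξ₀ : H → ℂ)
        = (h' : ℂ) * (S : ℂ) * (D' : ℂ)⁻¹ := by
      rw [← hkey]; field_simp
    rw [this, ht]
    push_cast
    ring
  rw [e4]
  apply memLocalIdeal_mul_right hMp
  · have := memLocalIdeal_of_mem hMp hM.2.2
    simpa using this
  · exact memLocalRing_mul hMp (memLocalRing_mul hMp (memLocalRing_natCast hMp _)
      (memLocalRing_intCast hMp t)) (memLocalRing_inv_natCast hM hD')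

end Cfsg.Agent.Lib.helper20
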