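import Mathlib
import Cfsg.Agent.Lib.helper20.HtZeroRes

/-!
# Central characters on `p`-regular class sums under block induction (helper20)

`memLocalIdeal_cc_res_sub`: if `b^G = B`, `ψ ∈ b`, `χ' ∈ B` and `χ` is any irreducible character
of `G`, then `cc p (χ|_H) ψ ≡ cc p χ χ'` modulo the local ideal.
-/

set_option autoImplicit false
open Cfsg

namespace Cfsg.Agent.Lib.helper20

open Cfsg.Agent.Lib.helper79 (regInner contrib cc contrib_spec contrib_eq_zero
  cc_memLocalIdeal_iff not_dvd_of_height_zero regInner_conj cc_mul)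
open Cfsg.Agent.Lib.helper81 (irr_classFun irr_isIntegral irr_one_ne_zero irr_conjInv irr_inv)
open scoped ComplexConjugate

universe u

/-- Under block induction `b^G = B`, the central character of `ψ ∈ b` at the truncation of the
`p`-regular class-sum element of `χ` is congruent to the central character of `χ' ∈ B` at that
element. -/
theorem memLocalIdeal_cc_res_sub {G : Type u} [Group G] [Fintype G] (p : ℕ) [Fact p.Prime]
    (M : Ideal Cfsg.AlgInt) (hM : Cfsg.IsPModular p M) (H : Subgroup G) [Fintype H]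
    (b : Set (Cfsg.IrrCharacter H)) (B : Set (Cfsg.IrrCharacter G))
    (hind : Cfsg.IsInducedBlock M H b B) (χ : Cfsg.IrrCharacter G)
    (ψ : Cfsg.IrrCharacter H) (hψ : ψ ∈ b) (χ' : Cfsg.IrrCharacter G) (hχ' : χ' ∈ B) :
    MemLocalIdeal M (cc p (fun h : H => (χ : G → ℂ) h) (ψ : H → ℂ)
      - cc p (χ : G → ℂ) (χ' : G → ℂ)) := by
  classical
  have hMp : M.IsPrime := hM.2.1.isPrime
  obtain ⟨hb, hB, hcong⟩ := hind
  set z : MonoidAlgebra ℂ G := ofFn (fun g => conj (pRegularPart p (χ : G → ℂ) g)) with hz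
  have hzc : IsCentralElt z := by
    rw [isCentralElt_iff]
    intro g x
    rw [hz, coeff_ofFn, coeff_ofFn]
    unfold pRegularPart IsPRegular
    have h1 : orderOf (x * g * x⁻¹) = orderOf g := by
      have := orderOf_injective (MulAut.conj x).toMonoidHom (MulAut.conj x).injective g
      simpa using this
    rw [h1, irr_classFun χ g x]
  have hzl : LocalCoeff M z := by
    intro g
    rw [hz, coeff_ofFn]
    unfold pRegularPart
    split_ifs
    · rw [← irr_inv]
      exact memLocalRing_of_algInt hMp ⟨_, irr_isIntegral χ g⁻¹⟩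
    · rw [map_zero]; exact memLocalRing_zero hMp
  have hstep2 := memLocalIdeal_omega_resAlg_sub hMp H (ψ : H → ℂ) (χ' : G → ℂ) (irr_conjInv χ')
    (fun g => hcong ψ hψ χ' hχ' g) z hzc hzl
  have hom1 : omega (χ' : G → ℂ) z = cc p (χ : G → ℂ) (χ' : G → ℂ) := by
    unfold omega cc
    congr 1
    apply Finset.sum_congr rfl
    intro g _
    rw [hz, coeff_ofFn]
  have hom2 : omega (ψ : H → ℂ) (resAlg H z)
      = cc p (fun h : H => (χ : G → ℂ) h) (ψ : H → ℂ) := by
    unfold omega cc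
    congr 1
    apply Finset.sum_congr rfl
    intro h _
    rw [coeff_resAlg, hz, coeff_ofFn]
    congr 2
    unfold pRegularPart IsPRegular
    rw [Subgroup.orderOf_coe]
  rw [hom1, hom2] at hstep2
  exact hstep2

/-- `cc p χ χ' = 0` when `χ'` is not in the block of `χ`. -/
theorem cc_eq_zero_of_not_mem {G : Type u} [Group G] [Fintype G] {p : ℕ} [Fact p.Prime]
    {M : Ideal Cfsg.AlgInt} (hM : Cfsg.IsPModular p M) {B : Set (Cfsg.IrrCharacter G)}
    (hB : Cfsg.IsPBlock M B) {χ χ' : Cfsg.IrrCharacter G} (hχ : χ ∈ B) (hχ' : χ' ∉ B) :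
    cc p (χ : G → ℂ) (χ' : G → ℂ) = 0 := by
  have hpp : p.Prime := Fact.out
  have hpc : (p : ℂ) ≠ 0 := Nat.cast_ne_zero.mpr hpp.ne_zero
  have h1 := contrib_spec hM hB hχ χ'
  rw [contrib_eq_zero hM hB hχ hχ'] at h1
  have h2 : regInner p (χ : G → ℂ) (χ' : G → ℂ) = 0 := by
    have h3 : (p ^ blockDefect p B : ℂ) ≠ 0 := pow_ne_zero _ hpc
    have h4 : (p ^ blockDefect p B : ℂ) * regInner p (χ : G → ℂ) (χ' : G → ℂ) = 0 := by
      rw [← h1]; simp
    exact (mul_eq_zero.1 h4).resolve_left h3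
  have h5 := cc_mul p (χ : G → ℂ) (χ' : G → ℂ) (irr_one_ne_zero χ')
  rw [h2, map_zero] at h5
  exact (mul_eq_zero.1 h5).resolve_right (irr_one_ne_zero χ')

/-- `cc p χ χ` is a local unit for `χ` of height zero. -/
theorem not_memLocalIdeal_cc_self {G : Type u} [Group G] [Fintype G] {p : ℕ} [Fact p.Prime]
    {M : Ideal Cfsg.AlgInt} (hM : Cfsg.IsPModular p M) {B : Set (Cfsg.IrrCharacter G)}
    (hB : Cfsg.IsPBlock M B) {χ : Cfsg.IrrCharacter G} (hχ : χ ∈ B)
    (h0 : Cfsg.blockHeight p B (χ : G → ℂ) = 0) :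
    ¬ MemLocalIdeal M (cc p (χ : G → ℂ) (χ : G → ℂ)) := by
  rw [cc_memLocalIdeal_iff hM hB hχ hχ]
  exact not_dvd_of_height_zero hM hB hχ h0 hχ

end Cfsg.Agent.Lib.helper20
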