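import Mathlib
import Cfsg.Prelude.Def_Characters

/-!
# S0420 piece A: the stabilizer of a vector fixed by `N` and by an involution `t`
-/

set_option autoImplicit false
open Cfsg
universe u

namespace Cfsg.Agent.Lib.helper20.M11U

/-- Left multiplication by an element of a subgroup fixes the sum of `ρ` over the subgroup. -/
theorem m11ua_mul_sum {G : Type*} [Group G] {n : ℕ} (ρ : Representation ℂ G (Fin n → ℂ))
    (K : Subgroup G) (sK : Finset G) (hsK : ∀ g, g ∈ sK ↔ g ∈ K) (m : G) (hm : m ∈ K) :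
    ρ m * (∑ x ∈ sK, ρ x) = ∑ x ∈ sK, ρ x := by
  rw [Finset.mul_sum]
  have h1 : ∀ x ∈ sK, ρ m * ρ x = ρ (m * x) := fun x _ => (map_mul ρ m x).symm
  rw [Finset.sum_congr rfl h1]
  refine Finset.sum_equiv (Equiv.mulLeft m) ?_ ?_
  · intro x
    rw [hsK, hsK]
    simp only [Equiv.coe_mulLeft]
    exact (K.mul_mem_cancel_left hm).symm
  · intro x _
    rfl

theorem m11ua_core {G : Type*} [Group G] {n : ℕ} (ρ : Representation ℂ G (Fin n → ℂ))
    (hρ : ρ.IsIrreducible) (hdeg : ρ.character 1 ≠ 1)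
    (N Q : Subgroup G) (hQN : Q ≤ N) (t : G) (ht : t * t = 1)
    (hnorm : ∀ q ∈ Q, t * q * t⁻¹ ∈ Q)
    (sN sQ : Finset G) (hsN : ∀ g, g ∈ sN ↔ g ∈ N) (hsQ : ∀ g, g ∈ sQ ↔ g ∈ Q)
    (hN : ∑ m ∈ sN, ρ.character m ≠ 0)
    (hQ : ∑ q ∈ sQ, ρ.character (t * q) = ∑ q ∈ sQ, ρ.character q) :
    ∃ S : Subgroup G, N ≤ S ∧ t ∈ S ∧ S ≠ ⊤ := by
  classical
  set aN : Module.End ℂ (Fin n → ℂ) := ∑ m ∈ sN, ρ m with haN
  set aQ : Module.End ℂ (Fin n → ℂ) := ∑ q ∈ sQ, ρ q with haQ
  set T : Module.End ℂ (Fin n → ℂ) := ρ t with hT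
  -- a nonzero vector fixed by `N`
  have htrN : LinearMap.trace ℂ (Fin n → ℂ) aN ≠ 0 := by
    rw [haN, map_sum]
    exact hN
  have haN0 : aN ≠ 0 := by
    intro h0
    rw [h0, map_zero] at htrN
    exact htrN rfl
  obtain ⟨u, hu⟩ : ∃ u, aN u ≠ 0 := by
    by_contra hcon
    push Not at hcon
    exact haN0 (LinearMap.ext hcon)
  set v := aN u with hv
  have hfixN : ∀ m ∈ N, ρ m v = v := by
    intro m hm
    have := m11ua_mul_sum ρ N sN hsN m hm
    rw [hv, ← Module.End.mul_apply, ← haN, ← haN] at *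
    rw [this]
  -- the element `aQ`
  have hQfix : ∀ q ∈ Q, ρ q * aQ = aQ := fun q hq => m11ua_mul_sum ρ Q sQ hsQ q hq
  set c : ℕ := sQ.card with hc
  have hc0 : c ≠ 0 := by
    rw [hc]
    exact Finset.card_ne_zero.mpr ⟨1, (hsQ 1).mpr Q.one_mem⟩
  have hcC : (c : ℂ) ≠ 0 := Nat.cast_ne_zero.mpr hc0
  have haa : aQ * aQ = (c : ℂ) • aQ := by
    conv_lhs => rw [haQ, Finset.sum_mul]
    rw [← haQ]
    have h1 : ∀ q ∈ sQ, ρ q * aQ = aQ := fun q hq => hQfix q ((hsQ q).mp hq)
    rw [Finset.sum_congr rfl h1, Finset.sum_const, Nat.cast_smul_eq_nsmul]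
  have hTT : T * T = 1 := by
    rw [hT, ← map_mul, ht, map_one]
  have htinv : t⁻¹ = t := inv_eq_of_mul_eq_one_left ht
  have hcomm : T * aQ = aQ * T := by
    rw [haQ, Finset.mul_sum, Finset.sum_mul]
    have h1 : ∀ q ∈ sQ, T * ρ q = ρ (t * q) := fun q _ => (map_mul ρ t q).symm
    have h2 : ∀ q ∈ sQ, ρ q * T = ρ (q * t) := fun q _ => (map_mul ρ q t).symm
    rw [Finset.sum_congr rfl h1, Finset.sum_congr rfl h2]
    refine Finset.sum_equiv (MulAut.conj t).toEquiv ?_ ?_
    · intro q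
      rw [hsQ, hsQ]
      show q ∈ Q ↔ t * q * t⁻¹ ∈ Q
      constructor
      · intro hq
        exact hnorm q hq
      · intro hq
        have h3 := hnorm _ hq
        have h4 : t * (t * q * t⁻¹) * t⁻¹ = q := by
          rw [htinv]
          calc t * (t * q * t) * t = (t * t) * q * (t * t) := by group
            _ = q := by rw [ht, one_mul, mul_one]
        rw [h4] at h3
        exact h3
    · intro q _
      simp only [MulEquiv.toEquiv_eq_coe, EquivLike.coe_coe, MulAut.conj_apply]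
      congr 1
      group
  -- the difference `D`
  set D : Module.End ℂ (Fin n → ℂ) := aQ - T * aQ with hD
  have hDD : D * D = (2 * (c : ℂ)) • D := by
    have e1 : D * D = aQ * aQ - aQ * (T * aQ) - T * aQ * aQ + T * aQ * (T * aQ) := by
      rw [hD, sub_mul, mul_sub, mul_sub]
      abel
    have e2 : aQ * (T * aQ) = T * (aQ * aQ) := by
      rw [← mul_assoc, ← hcomm, mul_assoc]
    have e3 : T * aQ * (T * aQ) = aQ * aQ := by
      rw [mul_assoc, e2, ← mul_assoc, hTT, one_mul]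
    rw [e1, e2, e3, mul_assoc, haa, hD, mul_smul_comm]
    module
  have htrD : LinearMap.trace ℂ (Fin n → ℂ) D = 0 := by
    rw [hD, map_sub, haQ, Finset.mul_sum, map_sum, map_sum]
    have h1 : ∀ q ∈ sQ, LinearMap.trace ℂ (Fin n → ℂ) (T * ρ q) = ρ.character (t * q) := by
      intro q _
      rw [hT, ← map_mul]
      rfl
    rw [Finset.sum_congr rfl h1, hQ]
    exact sub_self _
  set E : Module.End ℂ (Fin n → ℂ) := (2 * (c : ℂ))⁻¹ • D with hE
  have h2c : (2 * (c : ℂ)) ≠ 0 := mul_ne_zero two_ne_zero hcC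
  have hEidem : IsIdempotentElem E := by
    unfold IsIdempotentElem
    rw [hE, smul_mul_smul_comm, hDD, smul_smul]
    congr 1
    field_simp
  have htrE : LinearMap.trace ℂ (Fin n → ℂ) E = 0 := by
    rw [hE, map_smul, htrD, smul_zero]
  have hE0 : E = 0 := LinearMap.IsIdempotentElem.eq_zero_of_trace_eq_zero hEidem htrE
  have hD0 : D = 0 := by
    rw [hE] at hE0
    rcases smul_eq_zero.mp hE0 with h | h
    · exact absurd h (inv_ne_zero h2c)
    · exact h
  have hTa : T * aQ = aQ := by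
    rw [hD] at hD0
    exact (sub_eq_zero.mp hD0).symm
  have haQv : aQ v = (c : ℂ) • v := by
    rw [haQ, LinearMap.sum_apply]
    have h1 : ∀ q ∈ sQ, ρ q v = v := fun q hq => hfixN q (hQN ((hsQ q).mp hq))
    rw [Finset.sum_congr rfl h1, Finset.sum_const, Nat.cast_smul_eq_nsmul]
  have hTv : T v = v := by
    have h1 : T (aQ v) = aQ v := by
      rw [← Module.End.mul_apply, hTa]
    rw [haQv, map_smul] at h1
    exact smul_right_injective _ hcC h1
  -- the stabilizer of `v`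
  let S : Subgroup G :=
    { carrier := {g | ρ g v = v}
      mul_mem' := by
        intro a b ha hb
        simp only [Set.mem_ofPred_eq] at ha hb ⊢
        rw [map_mul, Module.End.mul_apply, hb, ha]
      one_mem' := by
        simp only [Set.mem_ofPred_eq]
        rw [map_one, Module.End.one_apply]
      inv_mem' := by
        intro a ha
        simp only [Set.mem_ofPred_eq] at ha ⊢
        conv_lhs => rw [← ha]
        rw [← Module.End.mul_apply, ← map_mul, inv_mul_cancel, map_one, Module.End.one_apply] }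
  refine ⟨S, fun m hm => hfixN m hm, hTv, ?_⟩
  intro htop
  have hall : ∀ g : G, ρ g v = v := by
    intro g
    have : g ∈ S := by rw [htop]; exact Subgroup.mem_top g
    exact this
  let W : Subrepresentation ρ :=
    { toSubmodule := Submodule.span ℂ {v}
      apply_mem_toSubmodule := by
        intro g x hx
        obtain ⟨a, rfl⟩ := Submodule.mem_span_singleton.mp hx
        rw [map_smul, hall g]
        exact Submodule.mem_span_singleton.mpr ⟨a, rfl⟩ }
  have := hρ
  rcases eq_bot_or_eq_top W with hW | hW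
  · have h1 : W.toSubmodule = ⊥ := by rw [hW]; rfl
    have h2 : v ∈ W.toSubmodule := Submodule.mem_span_singleton_self v
    rw [h1, Submodule.mem_bot] at h2
    exact hu h2
  · have h1 : Submodule.span ℂ {v} = (⊤ : Submodule ℂ (Fin n → ℂ)) := by
      have : W.toSubmodule = ⊤ := by rw [hW]; rfl
      exact this
    have h2 : Module.finrank ℂ (Submodule.span ℂ {v}) = 1 := finrank_span_singleton hu
    rw [h1, finrank_top] at h2
    apply hdeg
    rw [Representation.char_one, h2, Nat.cast_one]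

/-- PIECE A: stabilizer of a fixed vector. -/
theorem exists_proper_of_fixed_vector {G : Type u} [Group G] [Finite G]
    (ψ : IrrCharacter G) (hdeg : (ψ : G → ℂ) 1 ≠ 1)
    (N Q : Subgroup G) (hQN : Q ≤ N) (t : G) (ht : t * t = 1)
    (hnorm : ∀ q ∈ Q, t * q * t⁻¹ ∈ Q)
    (sN sQ : Finset G) (hsN : ∀ g, g ∈ sN ↔ g ∈ N) (hsQ : ∀ g, g ∈ sQ ↔ g ∈ Q)
    (hN : ∑ n ∈ sN, (ψ : G → ℂ) n ≠ 0)
    (hQ : ∑ q ∈ sQ, (ψ : G → ℂ) (t * q) = ∑ q ∈ sQ, (ψ : G → ℂ) q) :
    ∃ S : Subgroup G, N ≤ S ∧ t ∈ S ∧ S ≠ ⊤ := by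
  obtain ⟨n, ρ, hirr, hchar⟩ := ψ.2
  have hch : (ψ : G → ℂ) = ρ.character := hchar.symm
  rw [hch] at hdeg hN hQ
  exact m11ua_core ρ hirr hdeg N Q hQN t ht hnorm sN sQ hsN hsQ hN hQ

end Cfsg.Agent.Lib.helper20.M11U
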