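import Mathlib
import Cfsg.Agent.Lib.helper21.M11Defs
import Cfsg.Agent.Lib.helper11.InvDet
import Cfsg.Agent.Lib.helper11.FrobData

/-!
# S4429 piece M4 (helper20): values of irreducible characters of a simple group at involutions

For an involution `t` of a simple group of non-prime order and an irreducible character `ψ`, the
value `ψ t` is an integer `s` with `s ≡ ψ 1 (mod 4)` and `|s| ≤ ψ 1` (the determinant of `ρ t` is
`1`, so the eigenvalue `-1` has even multiplicity).
-/

set_option autoImplicit false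

namespace Cfsg.Agent.Lib.helper20

open Cfsg Cfsg.Agent.Lib.helper4 Cfsg.Agent.Lib.helper21

universe u

/-- **S4429, piece M4**. -/
theorem irr_involution_mod_four {G : Type u} [Group G] [Fintype G] [IsSimpleGroup G]
    (hnp : ¬ (Nat.card G).Prime) (ψ : IrrCharacter G) (t : G) (ht : t * t = 1) :
    ∃ s : ℤ, (ψ : G → ℂ) t = (s : ℂ) ∧ (4 : ℤ) ∣ (charDegree (ψ : G → ℂ) : ℤ) - s ∧
      |s| ≤ (charDegree (ψ : G → ℂ) : ℤ) := by
  obtain ⟨n, ρ, -, hρ⟩ := ψ.2
  have hff : ρ t * ρ t = 1 := by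
    rw [← map_mul, ht, map_one]
  obtain ⟨q, hq, htr, hdet⟩ := Cfsg.Agent.Lib.helper11.involution_trace_det (ρ t) hff
  have hdet1 := Cfsg.Agent.Lib.helper11.det_eq_one_of_simple hnp ρ t
  rw [hdet] at hdet1
  have hev : Even q := (neg_one_pow_eq_one_iff_even (by norm_num : (-1 : ℂ) ≠ 1)).mp hdet1
  obtain ⟨r, hr⟩ := hev
  have hdeg : charDegree (ψ : G → ℂ) = n := by
    have h1 : (ψ : G → ℂ) 1 = (n : ℂ) := by
      rw [← hρ, Representation.char_one]
      simp
    unfold charDegree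
    rw [h1]
    simp
  have hval : (ψ : G → ℂ) t = ((n : ℤ) - 2 * (q : ℤ) : ℤ) := by
    rw [← hρ]
    show LinearMap.trace ℂ (Fin n → ℂ) (ρ t) = _
    rw [htr]
    push_cast
    ring
  refine ⟨(n : ℤ) - 2 * (q : ℤ), hval, ?_, ?_⟩
  · rw [hdeg, hr]
    refine ⟨(r : ℤ), ?_⟩
    push_cast
    ring
  · rw [hdeg, abs_le]
    constructor <;> omega

end Cfsg.Agent.Lib.helper20
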