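import Mathlib

/-!
# Cyclotomic integers and traces (helper20)

* `exists_aeval_of_isIntegral`: an algebraic integer of `ℂ` lying in `ℚ(ζ)` (`ζ` a primitive
  `n`-th root of unity) is an integer polynomial in `ζ`.
* `sum_pow_family_eq`: trace-type sums of such an element over a family of automorphisms raising
  `ζ` to the powers `1 + E * t`, `t < D`, are divisible by `D` when `n ∣ E * D`.
-/

set_option autoImplicit false

namespace Cfsg.Agent.Lib.helper20

open Polynomial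

theorem exists_aeval_of_isIntegral (n : ℕ) (hn : 0 < n) (ζ : ℂ) (hζ : IsPrimitiveRoot ζ n) (z : ℂ)
    (hz : IsIntegral ℤ z) (hmem : z ∈ IntermediateField.adjoin ℚ ({ζ} : Set ℂ)) :
    ∃ P : Polynomial ℤ, z = Polynomial.aeval ζ P := by
  classical
  have : NeZero n := ⟨hn.ne'⟩
  have halg : IsAlgebraic ℚ ζ := by
    have h1 : IsIntegral ℤ ζ := hζ.isIntegral hn
    exact (h1.tower_top (A := ℚ)).isAlgebraic
  let K := IntermediateField.adjoin ℚ ({ζ} : Set ℂ)
  have : IsCyclotomicExtension {n} ℚ K := by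
    change IsCyclotomicExtension {n} ℚ (IntermediateField.adjoin ℚ {ζ}).toSubalgebra
    rw [IntermediateField.adjoin_simple_toSubalgebra_of_isAlgebraic halg]
    exact hζ.adjoin_isCyclotomicExtension ℚ
  let ζK : K := ⟨ζ, IntermediateField.mem_adjoin_simple_self ℚ ζ⟩
  have hζK : IsPrimitiveRoot ζK n := by
    have : IsPrimitiveRoot ((algebraMap K ℂ) ζK) n := hζ
    exact this.of_map_of_injective (algebraMap K ℂ).injective
  have hic := IsCyclotomicExtension.Rat.isIntegralClosure_adjoin_singleton (K := K) hζK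
  let zK : K := ⟨z, hmem⟩
  have hzK : IsIntegral ℤ zK := by
    have h1 : IsIntegral ℤ ((algebraMap K ℂ) zK) := hz
    exact (isIntegral_algebraMap_iff (algebraMap K ℂ).injective).mp h1
  obtain ⟨y, hy⟩ := hic.isIntegral_iff.1 hzK
  have hy0 : ∀ w ∈ Algebra.adjoin ℤ ({ζK} : Set K), ∃ P : Polynomial ℤ,
      Polynomial.aeval ζK P = w := by
    intro w hw
    rw [Algebra.adjoin_singleton_eq_range_aeval] at hw
    exact hw
  obtain ⟨P, hP⟩ := hy0 (y : K) y.2
  refine ⟨P, ?_⟩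
  have h2 : (algebraMap K ℂ) (Polynomial.aeval ζK P) = Polynomial.aeval ζ P := by
    rw [← Polynomial.aeval_algebraMap_apply]
    rfl
  have h3 : (Polynomial.aeval ζK) P = zK := by
    have : (Polynomial.aeval ζK) P = (y : K) := hP
    rw [this]
    exact hy
  rw [← h2, h3]
  rfl

/-- Geometric sum of a `D`-th root of unity. -/
theorem sum_range_pow_root (D : ℕ) (ρ : ℂ) (hρ : ρ ^ D = 1) :
    ∑ t ∈ Finset.range D, ρ ^ t = if ρ = 1 then (D : ℂ) else 0 := by
  split_ifs with h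
  · subst h
    simp
  · rw [geom_sum_eq h, hρ, sub_self, zero_div]

/-- Sum of the values of an integer polynomial at the powers `ζ ^ (1 + E * t)`, `t < D`, of an
`n`-th root of unity with `n ∣ E * D`: it is `D` times an algebraic integer. -/
theorem sum_aeval_pow_family (n : ℕ) (hn : 0 < n) (ζ : ℂ) (hζ : ζ ^ n = 1) (P : Polynomial ℤ)
    (E D : ℕ) (hED : n ∣ E * D) :
    ∃ y : ℂ, IsIntegral ℤ y ∧
      ∑ t ∈ Finset.range D, Polynomial.aeval (ζ ^ (1 + E * t)) P = (D : ℂ) * y := by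
  classical
  have hζi : IsIntegral ℤ ζ := by
    refine IsIntegral.of_pow hn ?_
    rw [hζ]
    exact isIntegral_one
  refine ⟨∑ i ∈ P.support, if (ζ ^ (i * E)) = 1 then ((P.coeff i : ℤ) : ℂ) * ζ ^ i else 0, ?_, ?_⟩
  · refine IsIntegral.sum _ (fun i _ => ?_)
    split_ifs
    · exact (isIntegral_algebraMap (R := ℤ) (A := ℂ) (x := P.coeff i)).mul (hζi.pow i)
    · exact isIntegral_zero
  · have h1 : ∀ t : ℕ, Polynomial.aeval (ζ ^ (1 + E * t)) P =
        ∑ i ∈ P.support, ((P.coeff i : ℤ) : ℂ) * ζ ^ i * (ζ ^ (i * E)) ^ t := by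
      intro t
      rw [Polynomial.aeval_def, Polynomial.eval₂_eq_sum, Polynomial.sum_def]
      refine Finset.sum_congr rfl (fun i _ => ?_)
      rw [eq_intCast, mul_assoc]
      congr 1
      rw [← pow_mul, ← pow_mul, ← pow_add]
      congr 1
      ring
    simp_rw [h1]
    rw [Finset.sum_comm, Finset.mul_sum]
    refine Finset.sum_congr rfl (fun i _ => ?_)
    rw [← Finset.mul_sum]
    have h2 : (ζ ^ (i * E)) ^ D = 1 := by
      obtain ⟨k, hk⟩ := hED
      rw [← pow_mul, mul_assoc, hk, show i * (n * k) = n * (i * k) by ring, pow_mul, hζ, one_pow]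
    rw [sum_range_pow_root D _ h2]
    split_ifs <;> ring

/-- Trace-type sums: an algebraic integer `z` of `ℚ(ζ)` (`ζ` a primitive `n`-th root of unity),
summed over ring endomorphisms `τ t` of `ℂ` with `τ t ζ = ζ ^ (1 + E * t)`, `t < D`, where
`n ∣ E * D`, gives `D` times an algebraic integer. -/
theorem sum_ringHom_family (n : ℕ) (hn : 0 < n) (ζ : ℂ) (hζ : IsPrimitiveRoot ζ n) (z : ℂ)
    (hz : IsIntegral ℤ z) (hmem : z ∈ IntermediateField.adjoin ℚ ({ζ} : Set ℂ)) (E D : ℕ)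
    (hED : n ∣ E * D) (τ : ℕ → (ℂ →+* ℂ)) (hτ : ∀ t, τ t ζ = ζ ^ (1 + E * t)) :
    ∃ y : ℂ, IsIntegral ℤ y ∧ ∑ t ∈ Finset.range D, τ t z = (D : ℂ) * y := by
  obtain ⟨P, rfl⟩ := exists_aeval_of_isIntegral n hn ζ hζ z hz hmem
  obtain ⟨y, hy, hsum⟩ := sum_aeval_pow_family n hn ζ hζ.pow_eq_one P E D hED
  refine ⟨y, hy, ?_⟩
  rw [← hsum]
  refine Finset.sum_congr rfl (fun t _ => ?_)
  have h1 : (τ t) (Polynomial.aeval ζ P) = Polynomial.aeval ((τ t) ζ) P := by
    have := Polynomial.aeval_algHom_apply ((τ t).toIntAlgHom) ζ P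
    exact this.symm
  rw [h1, hτ t]

/-- `(1 + m p²) ^ (p ^ l) = 1 + m p^(2+l) s` with `s ≡ 1 (mod p)`, over `ℤ`. -/
theorem exists_pow_prime_pow_int (p : ℕ) (m : ℕ) (l : ℕ) :
    ∃ s : ℤ, s ≡ 1 [ZMOD p] ∧
      ((1 + (m : ℤ) * (p : ℤ) ^ 2)) ^ (p ^ l) = 1 + (m : ℤ) * (p : ℤ) ^ (2 + l) * s := by
  induction l with
  | zero => exact ⟨1, Int.ModEq.refl _, by simp⟩
  | succ l ih =>
    obtain ⟨s, hs, h⟩ := ih
    obtain ⟨k, hk⟩ := sq_dvd_add_pow_sub_sub ((m : ℤ) * (p : ℤ) ^ (2 + l) * s) 1 p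
    refine ⟨s + p * (m * p ^ l * s ^ 2 * k), ?_, ?_⟩
    · have : s + (p : ℤ) * (m * p ^ l * s ^ 2 * k) ≡ s [ZMOD p] := by
        rw [Int.modEq_iff_dvd]
        exact ⟨-(m * p ^ l * s ^ 2 * k), by ring⟩
      exact this.trans hs
    · rw [show p ^ (l + 1) = p ^ l * p from pow_succ p l, pow_mul, h]
      simp only [one_pow, one_mul] at hk
      have h2 : ((1 : ℤ) + (m : ℤ) * (p : ℤ) ^ (2 + l) * s) ^ p =
          ((m : ℤ) * (p : ℤ) ^ (2 + l) * s) ^ 2 * k + (m : ℤ) * (p : ℤ) ^ (2 + l) * s * p + 1 := by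
        linear_combination hk
      rw [h2]
      ring

/-- Natural-number form. -/
theorem exists_pow_prime_pow (p : ℕ) (hp : p.Prime) (m : ℕ) (hm : 0 < m) (l : ℕ) :
    ∃ s : ℕ, ¬ p ∣ s ∧ (1 + m * p ^ 2) ^ (p ^ l) = 1 + m * p ^ (2 + l) * s := by
  obtain ⟨s, hs, h⟩ := exists_pow_prime_pow_int p m l
  have hpos : (0 : ℤ) < (m : ℤ) * (p : ℤ) ^ (2 + l) := by
    have := hp.pos
    positivity
  have hs0 : 0 ≤ s := by
    by_contra hneg
    push Not at hneg
    have h1 : (1 : ℤ) ≤ ((1 + (m : ℤ) * (p : ℤ) ^ 2)) ^ (p ^ l) := by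
      apply one_le_pow₀
      have : (0 : ℤ) ≤ (m : ℤ) * (p : ℤ) ^ 2 := by positivity
      linarith
    rw [h] at h1
    nlinarith
  obtain ⟨s', rfl⟩ := Int.eq_ofNat_of_zero_le hs0
  refine ⟨s', ?_, ?_⟩
  · intro hdvd
    have h1 : (s' : ℤ) ≡ 0 [ZMOD p] := by
      rw [Int.modEq_zero_iff_dvd]
      exact_mod_cast hdvd
    have h2 : (1 : ℤ) ≡ 0 [ZMOD p] := hs.symm.trans h1
    rw [Int.modEq_zero_iff_dvd] at h2
    have h3 : (p : ℤ) = 1 ∨ (p : ℤ) = -1 := Int.isUnit_iff.mp (isUnit_of_dvd_one h2)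
    have := hp.two_le
    omega
  · exact_mod_cast h

/-- Reindexing a sum of a `D`-periodic function along an affine map with unit slope. -/
theorem sum_range_affine (D : ℕ) (hD : 0 < D) (f : ℕ → ℂ) (hf : ∀ s, f (s + D) = f s) (b c : ℕ)
    (hc : Nat.Coprime c D) :
    ∑ s ∈ Finset.range D, f (b + c * s) = ∑ s ∈ Finset.range D, f s := by
  classical
  have hmul : ∀ k y : ℕ, f (y + D * k) = f y := by
    intro k
    induction k with
    | zero => intro y; simp
    | succ k ih =>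
      intro y
      rw [Nat.mul_succ, ← add_assoc, hf, ih]
  have hmod : ∀ x : ℕ, f (x % D) = f x := by
    intro x
    conv_rhs => rw [← Nat.mod_add_div x D]
    rw [hmul]
  have hinj : Set.InjOn (fun s => (b + c * s) % D) (Finset.range D : Set ℕ) := by
    intro s hs s' hs' h
    simp only [Finset.coe_range, Set.mem_Iio] at hs hs'
    have h1 : b + c * s ≡ b + c * s' [MOD D] := h
    have h2 : c * s ≡ c * s' [MOD D] := Nat.ModEq.add_left_cancel' b h1
    have h3 : s ≡ s' [MOD D] := Nat.ModEq.cancel_left_of_coprime (Nat.Coprime.symm hc) h2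
    exact Nat.ModEq.eq_of_lt_of_lt h3 hs hs'
  have himg : (Finset.range D).image (fun s => (b + c * s) % D) = Finset.range D := by
    apply Finset.eq_of_subset_of_card_le
    · intro y hy
      rw [Finset.mem_image] at hy
      obtain ⟨s, -, rfl⟩ := hy
      exact Finset.mem_range.mpr (Nat.mod_lt _ hD)
    · rw [Finset.card_image_of_injOn hinj]
  calc ∑ s ∈ Finset.range D, f (b + c * s)
      = ∑ s ∈ Finset.range D, f ((b + c * s) % D) := by
        refine Finset.sum_congr rfl (fun s _ => (hmod _).symm)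
    _ = ∑ y ∈ (Finset.range D).image (fun s => (b + c * s) % D), f y :=
        (Finset.sum_image hinj).symm
    _ = ∑ s ∈ Finset.range D, f s := by rw [himg]

/-- A function on `ℕ` with two coprime periods is constant. -/
theorem const_of_two_periods (f : ℕ → ℂ) (p s₁ : ℕ) (hp : 1 < p) (h1 : ∀ t, f (t + p) = f t)
    (h2 : ∀ t, f (t + s₁) = f t) (hc : Nat.Coprime s₁ p) : ∀ t, f t = f 0 := by
  have hmul : ∀ k y : ℕ, f (y + p * k) = f y := by
    intro k
    induction k with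
    | zero => intro y; simp
    | succ k ih =>
      intro y
      rw [Nat.mul_succ, ← add_assoc, h1, ih]
  have hmod : ∀ x : ℕ, f (x % p) = f x := by
    intro x
    conv_rhs => rw [← Nat.mod_add_div x p]
    rw [hmul]
  have hk : ∀ k : ℕ, f (s₁ * k) = f 0 := by
    intro k
    induction k with
    | zero => simp
    | succ k ih => rw [Nat.mul_succ, h2, ih]
  obtain ⟨i, -, hi⟩ := Nat.exists_mul_mod_eq_one_of_coprime hc hp
  intro t
  have h3 : (s₁ * (i * t)) % p = t % p := by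
    rw [← mul_assoc, Nat.mul_mod, hi, one_mul, Nat.mod_mod]
  rw [← hmod t, ← h3, hmod, hk]

end Cfsg.Agent.Lib.helper20
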