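import Mathlib

/-!
# Orbit sums for a finite-order self-map (helper20)

`orbit_sum_dvd`: if `f : X → X` has finite order, `Φ` is `f`-invariant with values in an additive
subgroup `I` of `ℂ`, and `k` divides the minimal period of every point where `Φ` does not vanish,
then `∑ x, Φ x ∈ k • I`.
-/

namespace Cfsg.Agent.Lib.helper20

open Finset

theorem orbit_sum_dvd {X : Type*} [Fintype X] (f : X → X) (N : ℕ) (hN : 0 < N)
    (hfN : ∀ x, f^[N] x = x) (Φ : X → ℂ) (hΦ : ∀ x, Φ (f x) = Φ x) (k : ℕ)
    (hk : ∀ x, Φ x ≠ 0 → k ∣ Function.minimalPeriod f x) (I : AddSubgroup ℂ)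
    (hI : ∀ x, Φ x ∈ I) :
    ∃ y ∈ I, ∑ x, Φ x = k * y := by
  classical
  have hinj : Function.Injective f := by
    intro x y hxy
    have : f^[N] x = f^[N] y := by
      obtain ⟨N', rfl⟩ : ∃ N', N = N' + 1 := ⟨N - 1, by omega⟩
      rw [Function.iterate_succ_apply, Function.iterate_succ_apply, hxy]
    rwa [hfN, hfN] at this
  have hper : ∀ x, 0 < Function.minimalPeriod f x := fun x =>
    Function.IsPeriodicPt.minimalPeriod_pos hN (hfN x)
  have key : ∀ (n : ℕ) (S : Finset X), S.card = n → (∀ x, f x ∈ S ↔ x ∈ S) →
      ∃ y ∈ I, ∑ x ∈ S, Φ x = k * y := by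
    intro n
    induction n using Nat.strong_induction_on with
    | _ n ih =>
      intro S hcard hS
      rcases S.eq_empty_or_nonempty with rfl | ⟨x, hx⟩
      · exact ⟨0, I.zero_mem, by simp⟩
      obtain ⟨P, hP⟩ : ∃ P, P = Function.minimalPeriod f x := ⟨_, rfl⟩
      have hPpos : 0 < P := hP ▸ hper x
      have hPit : f^[P] x = x := hP ▸ Function.iterate_minimalPeriod
      have hmod : ∀ i, f^[i % P] x = f^[i] x := fun i =>
        hP ▸ Function.iterate_mod_minimalPeriod_eq
      have hinjOn : ∀ i, i < P → ∀ j, j < P → f^[i] x = f^[j] x → i = j := by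
        intro i hi j hj hij
        have h := Function.iterate_injOn_Iio_minimalPeriod (f := f) (x := x)
          (x₁ := i) (x₂ := j) (by simpa [← hP] using hi) (by simpa [← hP] using hj)
        exact h hij
      obtain ⟨O, hO⟩ : ∃ O : Finset X, O = (range P).image (fun i => f^[i] x) := ⟨_, rfl⟩
      have hiter : ∀ i, f^[i] x ∈ S := by
        intro i
        induction i with
        | zero => simpa using hx
        | succ i ihi => rw [Function.iterate_succ_apply']; exact (hS _).2 ihi
      have hOS : O ⊆ S := by
        intro y hy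
        rw [hO, mem_image] at hy
        obtain ⟨i, -, rfl⟩ := hy
        exact hiter i
      have hmemO : ∀ i, f^[i] x ∈ O := by
        intro i
        rw [hO, mem_image]
        exact ⟨i % P, mem_range.2 (Nat.mod_lt _ hPpos), hmod i⟩
      have hOst : ∀ y, f y ∈ O ↔ y ∈ O := by
        intro y
        constructor
        · intro hy
          rw [hO, mem_image] at hy
          obtain ⟨i, -, hi⟩ := hy
          have h1 : f (f^[i + P - 1] x) = f y := by
            rw [← Function.iterate_succ_apply' f (i + P - 1) x,
              show (i + P - 1).succ = i + P by omega,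
              Function.iterate_add_apply, hPit]
            exact hi
          rw [← hinj h1]
          exact hmemO _
        · intro hy
          rw [hO, mem_image] at hy
          obtain ⟨i, -, rfl⟩ := hy
          rw [← Function.iterate_succ_apply' f i x]
          exact hmemO _
      have hΦit : ∀ i, Φ (f^[i] x) = Φ x := by
        intro i
        induction i with
        | zero => rfl
        | succ i ihi => rw [Function.iterate_succ_apply', hΦ, ihi]
      have hsumO : ∑ y ∈ O, Φ y = P * Φ x := by
        rw [hO, sum_image]
        · simp [hΦit]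
        · intro i hi j hj hij
          exact hinjOn i (mem_range.1 hi) j (mem_range.1 hj) hij
      have hxO : x ∈ O := by simpa using hmemO 0
      have hcard' : (S \ O).card < n := by
        rw [← hcard]
        apply card_lt_card
        refine ⟨sdiff_subset, fun h => ?_⟩
        have := h hx
        rw [mem_sdiff] at this
        exact this.2 hxO
      obtain ⟨y', hy', hsum'⟩ := ih _ hcard' (S \ O) rfl (by
        intro y
        simp only [mem_sdiff, hS, hOst])
      have hsplit : ∑ y ∈ S, Φ y = ∑ y ∈ O, Φ y + ∑ y ∈ S \ O, Φ y := by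
        rw [add_comm, sum_sdiff hOS]
      by_cases h0 : Φ x = 0
      · refine ⟨y', hy', ?_⟩
        rw [hsplit, hsumO, h0, hsum']; ring
      · obtain ⟨q, hq⟩ := hk x h0
        refine ⟨q • Φ x + y', I.add_mem (I.nsmul_mem (hI x) q) hy', ?_⟩
        rw [hsplit, hsumO, hsum', hP, hq]
        push_cast
        rw [nsmul_eq_mul]; ring
  obtain ⟨y, hy, h⟩ := key _ univ rfl (by simp)
  exact ⟨y, hy, h⟩

end Cfsg.Agent.Lib.helper20
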