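import Mathlib
import Cfsg.Prelude.Def_Blocks
import Cfsg.Agent.Lib.helper20.PConj1
import Cfsg.Agent.Lib.helper20.CentralChar
import Cfsg.Agent.Lib.helper79.GaloisChar
import Cfsg.Agent.Lib.helper80.DefectGroup
import Cfsg.Agent.Lib.helper4.CharTheory

/-!
# Galois-equivariant class functions (helper20)

`GalEquiv G F`: `F : G → ℂ` is a class function with algebraic-integer values in the
`|G|`-th cyclotomic field, compatible with the Galois action (`τ (F g) = F (g ^ u)`).
The central character `ω_χ` is such a function, and the class is closed under products,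
differences, inversion of the argument and averaging over the power maps `g ↦ g ^ (1 + E t)`
(a relative trace, divisible by its degree).
-/

namespace Cfsg.Agent.Lib.helper20

open Cfsg Finset

universe u

variable {G : Type u} [Group G]

theorem index_centralizer_pow_coprime [Finite G] (k : ℕ) (hk : k.Coprime (Nat.card G)) (g : G) :
    (Subgroup.centralizer ({g ^ k} : Set G)).index
      = (Subgroup.centralizer ({g} : Set G)).index := by
  have hk' : k.Coprime (orderOf g) := Nat.Coprime.coprime_dvd_right (orderOf_dvd_natCard g) hk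
  obtain ⟨m, hm⟩ := exists_pow_eq_self_of_coprime hk'
  congr 1
  ext y
  simp only [Subgroup.mem_centralizer_iff, Set.mem_singleton_iff, forall_eq]
  constructor
  · intro h
    have h1 : Commute (g ^ k) y := h
    have h2 : Commute ((g ^ k) ^ m) y := h1.pow_left m
    rw [hm] at h2
    exact h2
  · intro h
    have h1 : Commute g y := h
    exact h1.pow_left k

theorem index_centralizer_inv' (g : G) :
    (Subgroup.centralizer ({g⁻¹} : Set G)).index
      = (Subgroup.centralizer ({g} : Set G)).index := by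
  congr 1
  ext y
  simp only [Subgroup.mem_centralizer_iff, Set.mem_singleton_iff, forall_eq]
  constructor
  · intro h
    have h1 : Commute g⁻¹ y := h
    exact Commute.inv_left_iff.1 h1
  · intro h
    have h1 : Commute g y := h
    exact Commute.inv_left_iff.2 h1

theorem index_centralizer_isConj [Finite G] {x y : G} (h : IsConj x y) :
    (Subgroup.centralizer ({x} : Set G)).index
      = (Subgroup.centralizer ({y} : Set G)).index := by
  obtain ⟨c, rfl⟩ := isConj_iff.1 h
  have := Fintype.ofFinite G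
  exact (Cfsg.Agent.Lib.helper80.index_centralizer_conj' x c).symm

/-- Galois-equivariant class functions with algebraic-integer values in the `|G|`-th cyclotomic
field. -/
structure GalEquiv (G : Type u) [Group G] (F : G → ℂ) : Prop where
  integral : ∀ g, IsIntegral ℤ (F g)
  mem : ∀ ζ : ℂ, IsPrimitiveRoot ζ (Nat.card G) → ∀ g,
    F g ∈ IntermediateField.adjoin ℚ ({ζ} : Set ℂ)
  equivariant : ∀ (τ : ℂ →+* ℂ) (u : ℕ), u.Coprime (Nat.card G) →
    (∀ z : ℂ, z ^ Nat.card G = 1 → τ z = z ^ u) → ∀ g, τ (F g) = F (g ^ u)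
  conj : ∀ g h, F (h * g * h⁻¹) = F g

theorem GalEquiv.isConj {F : G → ℂ} (hF : GalEquiv G F) {x y : G} (h : IsConj x y) :
    F x = F y := by
  obtain ⟨c, rfl⟩ := isConj_iff.1 h
  exact (hF.conj x c).symm

theorem GalEquiv.mul {F F' : G → ℂ} (hF : GalEquiv G F) (hF' : GalEquiv G F') :
    GalEquiv G (fun g => F g * F' g) where
  integral g := (hF.integral g).mul (hF'.integral g)
  mem ζ hζ g := mul_mem (hF.mem ζ hζ g) (hF'.mem ζ hζ g)
  equivariant τ u hu hτ g := by
    show τ (F g * F' g) = F (g ^ u) * F' (g ^ u)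
    rw [map_mul, hF.equivariant τ u hu hτ, hF'.equivariant τ u hu hτ]
  conj g h := by
    show F (h * g * h⁻¹) * F' (h * g * h⁻¹) = F g * F' g
    rw [hF.conj, hF'.conj]

theorem GalEquiv.sub {F F' : G → ℂ} (hF : GalEquiv G F) (hF' : GalEquiv G F') :
    GalEquiv G (fun g => F g - F' g) where
  integral g := (hF.integral g).sub (hF'.integral g)
  mem ζ hζ g := sub_mem (hF.mem ζ hζ g) (hF'.mem ζ hζ g)
  equivariant τ u hu hτ g := by
    show τ (F g - F' g) = F (g ^ u) - F' (g ^ u)
    rw [map_sub, hF.equivariant τ u hu hτ, hF'.equivariant τ u hu hτ]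
  conj g h := by
    show F (h * g * h⁻¹) - F' (h * g * h⁻¹) = F g - F' g
    rw [hF.conj, hF'.conj]

theorem GalEquiv.inv {F : G → ℂ} (hF : GalEquiv G F) : GalEquiv G (fun g => F g⁻¹) where
  integral g := hF.integral _
  mem ζ hζ g := hF.mem ζ hζ _
  equivariant τ u hu hτ g := by
    show τ (F g⁻¹) = F (g ^ u)⁻¹
    rw [hF.equivariant τ u hu hτ, inv_pow]
  conj g h := by
    show F (h * g * h⁻¹)⁻¹ = F g⁻¹
    rw [show (h * g * h⁻¹)⁻¹ = h * g⁻¹ * h⁻¹ by group, hF.conj]

/-- Average of `F` over the power maps `g ↦ g ^ (1 + E t)`, `t < D`. -/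
noncomputable def avgPow (E D : ℕ) (F : G → ℂ) : G → ℂ :=
  fun g => (D : ℂ)⁻¹ * ∑ t ∈ range D, F (g ^ (1 + E * t))

theorem GalEquiv.avg [Finite G] {F : G → ℂ} (hF : GalEquiv G F) (E D : ℕ) (hD : 0 < D)
    (hED : Nat.card G ∣ E * D) (hcop : ∀ t, (1 + E * t).Coprime (Nat.card G)) :
    GalEquiv G (avgPow E D F) where
  integral g := by
    have hn : 0 < Nat.card G := Nat.card_pos
    have hζ := Complex.isPrimitiveRoot_exp (Nat.card G) hn.ne'
    obtain ⟨ζ, hζdef⟩ : ∃ ζ : ℂ, ζ = Complex.exp (2 * Real.pi * Complex.I / (Nat.card G : ℕ)) :=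
      ⟨_, rfl⟩
    rw [← hζdef] at hζ
    choose τ hτ using fun t =>
      Cfsg.Agent.Lib.helper79.exists_ringEquiv_complex_pow (Nat.card G) hn (1 + E * t) (hcop t)
    obtain ⟨y, hy, hsum⟩ := sum_ringHom_family (Nat.card G) hn ζ hζ (F g) (hF.integral g)
      (hF.mem ζ hζ g) E D hED (fun t => ((τ t : ℂ ≃+* ℂ) : ℂ →+* ℂ))
      (fun t => hτ t ζ hζ.pow_eq_one)
    have h2 : ∑ t ∈ range D, F (g ^ (1 + E * t)) = (D : ℂ) * y := by
      rw [← hsum]
      refine sum_congr rfl (fun t _ => ?_)
      exact (hF.equivariant ((τ t : ℂ ≃+* ℂ) : ℂ →+* ℂ) (1 + E * t) (hcop t)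
        (fun z hz => hτ t z hz) g).symm
    have h3 : avgPow E D F g = y := by
      unfold avgPow
      rw [h2]
      have hD' : (D : ℂ) ≠ 0 := by exact_mod_cast hD.ne'
      field_simp
    rw [h3]; exact hy
  mem ζ hζ g := by
    unfold avgPow
    exact mul_mem (inv_mem (natCast_mem _ D)) (sum_mem (fun t _ => hF.mem ζ hζ _))
  equivariant τ u hu hτ g := by
    unfold avgPow
    rw [map_mul, map_inv₀, map_natCast, map_sum]
    congr 1
    refine sum_congr rfl (fun t _ => ?_)
    rw [hF.equivariant τ u hu hτ, ← pow_mul, ← pow_mul, mul_comm]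
  conj g h := by
    unfold avgPow
    congr 1
    refine sum_congr rfl (fun t _ => ?_)
    rw [conj_pow, hF.conj]

theorem avgPow_pow_invariant [Finite G] (F : G → ℂ) (E D : ℕ) (hD : 0 < D)
    (hED : Nat.card G ∣ E * D) (b : ℕ) (hc : (1 + E * b).Coprime D) (g : G) :
    avgPow E D F (g ^ (1 + E * b)) = avgPow E D F g := by
  unfold avgPow
  congr 1
  have hper : ∀ s, F (g ^ (1 + E * (s + D))) = F (g ^ (1 + E * s)) := by
    intro s
    have : g ^ (1 + E * (s + D)) = g ^ (1 + E * s) := by
      obtain ⟨q, hq⟩ := hED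
      rw [show 1 + E * (s + D) = (1 + E * s) + Nat.card G * q by rw [mul_add, hq]; ring,
        pow_add, pow_mul, pow_card_eq_one', one_pow, mul_one]
    rw [this]
  have := sum_range_affine D hD (fun s => F (g ^ (1 + E * s))) hper b (1 + E * b) hc
  rw [← this]
  refine sum_congr rfl (fun s _ => ?_)
  rw [← pow_mul]
  congr 2
  ring

theorem sum_weight_avgPow [Fintype G] (F W : G → ℂ) (E D : ℕ) (hD : 0 < D)
    (hcop : ∀ t, (1 + E * t).Coprime (Nat.card G))
    (hW : ∀ u : ℕ, u.Coprime (Nat.card G) → ∀ g, W (g ^ u) = W g) :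
    ∑ g, W g * avgPow E D F g = ∑ g, W g * F g := by
  unfold avgPow
  have h1 : ∀ t, ∑ g, W g * F (g ^ (1 + E * t)) = ∑ g, W g * F g := by
    intro t
    have := Equiv.sum_comp (powCoprime (hcop t).symm) (fun g => W g * F g)
    rw [← this]
    refine sum_congr rfl (fun g _ => ?_)
    rw [powCoprime_apply, hW _ (hcop t)]
  have hD' : (D : ℂ) ≠ 0 := by exact_mod_cast hD.ne'
  calc ∑ g, W g * ((D:ℂ)⁻¹ * ∑ t ∈ range D, F (g ^ (1 + E * t)))
      = (D:ℂ)⁻¹ * ∑ t ∈ range D, ∑ g, W g * F (g ^ (1 + E * t)) := by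
        rw [sum_comm, mul_sum]
        refine sum_congr rfl (fun g _ => ?_)
        rw [← mul_sum]; ring
    _ = ∑ g, W g * F g := by
        rw [sum_congr rfl (fun t _ => h1 t), sum_const, card_range, nsmul_eq_mul]
        field_simp

theorem character_mem_adjoin [Finite G] {χ : G → ℂ} (hχ : IsIrrCharacter G χ) (ζ : ℂ)
    (hζ : IsPrimitiveRoot ζ (Nat.card G)) (g : G) :
    χ g ∈ IntermediateField.adjoin ℚ ({ζ} : Set ℂ) := by
  obtain ⟨n, ρ, -, rfl⟩ := hχ
  have hn : Nat.card G ≠ 0 := Nat.card_pos.ne'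
  have : NeZero (Nat.card G) := ⟨hn⟩
  obtain ⟨S, m, hS, -, hsum, -⟩ :=
    Cfsg.Agent.Lib.helper79.character_pow_eq_sum ρ g (Nat.card G) hn pow_card_eq_one'
  have h1 := hsum 1
  rw [pow_one] at h1
  rw [h1]
  refine sum_mem (fun μ hμ => ?_)
  obtain ⟨i, -, rfl⟩ := hζ.eq_pow_of_pow_eq_one (hS μ hμ)
  exact mul_mem (natCast_mem _ _)
    (pow_mem (pow_mem (IntermediateField.mem_adjoin_simple_self ℚ ζ) i) 1)

theorem galEquiv_centralChar [Finite G] {χ : G → ℂ} (hχ : IsIrrCharacter G χ) :
    GalEquiv G (centralChar χ) where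
  integral g := isIntegral_centralChar χ hχ g
  mem ζ hζ g := by
    unfold centralChar
    exact div_mem (mul_mem (natCast_mem _ _) (character_mem_adjoin hχ ζ hζ g))
      (character_mem_adjoin hχ ζ hζ 1)
  equivariant τ u hu hτ g := by
    have hN : Nat.card G ≠ 0 := Nat.card_pos.ne'
    have hc := isCharacter_of_isIrrCharacter hχ
    unfold centralChar
    rw [map_div₀, map_mul, map_natCast,
      Cfsg.Agent.Lib.helper79.ringHom_character_eq_character_pow τ (Nat.card G) u hN hτ hc g
        pow_card_eq_one',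
      Cfsg.Agent.Lib.helper79.ringHom_character_eq_character_pow τ (Nat.card G) u hN hτ hc 1
        (one_pow _),
      one_pow, index_centralizer_pow_coprime u hu g]
  conj g h := by
    unfold centralChar
    rw [index_centralizer_isConj (isConj_iff.2 ⟨h, rfl⟩ : IsConj g (h * g * h⁻¹)).symm,
      Cfsg.Agent.Lib.helper4.isClassFunction_of_isIrrCharacter hχ g h]

/-- The class of the `v`-th power of a representative. -/
noncomputable def powClass (v : ℕ) : ConjClasses G → ConjClasses G :=
  fun c => ConjClasses.mk (Quotient.out c ^ v)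

theorem powClass_mk (v : ℕ) (g : G) :
    powClass v (ConjClasses.mk g) = ConjClasses.mk (g ^ v) := by
  unfold powClass
  rw [ConjClasses.mk_eq_mk_iff_isConj]
  apply IsConj.pow
  rw [← ConjClasses.mk_eq_mk_iff_isConj]
  exact Quotient.out_eq _

theorem powClass_iterate (v i : ℕ) (g : G) :
    (powClass v)^[i] (ConjClasses.mk g) = ConjClasses.mk (g ^ (v ^ i)) := by
  induction i with
  | zero => simp
  | succ i ih => rw [Function.iterate_succ_apply', ih, powClass_mk, ← pow_mul, pow_succ]

end Cfsg.Agent.Lib.helper20
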