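import Mathlib
import Cfsg.Prelude.Def_Blocks
import Cfsg.Agent.Lib.helper20.PConj1
import Cfsg.Agent.Lib.helper20.PConj2
import Cfsg.Agent.Lib.helper20.PConj3
import Cfsg.Agent.Lib.helper83.CharBasic
import Cfsg.Agent.Lib.helper84.MinMax
import Cfsg.Agent.Lib.helper81.CharOrtho

/-!
# The inductive step for the field of values of a character of large `p`-degree (helper20)

If `|G| = p^(j+e) m` (`p ∤ m`, `j, e ≥ 1`), `p^e ∣ χ(1)` and `χ (g ^ (1 + m p^(j+1) s)) = χ g`
for all `s, g`, then `χ (g ^ (1 + m p^j s)) = χ g` for all `s, g`.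
-/

namespace Cfsg.Agent.Lib.helper20

open Cfsg Finset
open scoped ComplexConjugate

universe u

variable {G : Type u} [Group G]

theorem coprime_one_add_mul {n E : ℕ} (h : ∀ q : ℕ, q.Prime → q ∣ n → q ∣ E) (t : ℕ) :
    (1 + E * t).Coprime n := by
  apply Nat.coprime_of_dvd
  intro q hq h1 h2
  have h3 : q ∣ E * t := Dvd.dvd.mul_right (h q hq h2) t
  have h4 : q ∣ 1 := (Nat.dvd_add_left h3).1 h1
  exact hq.one_lt.ne' (Nat.dvd_one.1 h4)

theorem char_pow_congr [Finite G] (χ : G → ℂ) (E' : ℕ) (hE' : 1 < E') (hE'n : E' ∣ Nat.card G)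
    (hInv : ∀ s g, χ (g ^ (1 + E' * s)) = χ g) (x y : ℕ) (hx : x.Coprime (Nat.card G))
    (hxy : x ≡ y [MOD E']) (g : G) : χ (g ^ x) = χ (g ^ y) := by
  have hn : 0 < Nat.card G := Nat.card_pos
  have h1n : 1 < Nat.card G := lt_of_lt_of_le hE' (Nat.le_of_dvd hn hE'n)
  obtain ⟨i, -, hi⟩ := Nat.exists_mul_mod_eq_one_of_coprime hx h1n
  have hg : (g ^ x) ^ i = g := by
    rw [← pow_mul, ← pow_mod_natCard, hi, pow_one]
  have hyi : y * i % E' = 1 := by
    have h1 : x * i % E' = 1 := by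
      rw [← Nat.mod_mod_of_dvd (x * i) hE'n, hi, Nat.mod_eq_of_lt hE']
    have h2 : y * i ≡ x * i [MOD E'] := (hxy.mul_right i).symm
    rw [← h1]; exact h2
  have hyi' : y * i = 1 + E' * (y * i / E') := by
    have := Nat.mod_add_div (y * i) E'
    rw [hyi] at this
    exact this.symm
  calc χ (g ^ x) = χ ((g ^ x) ^ (1 + E' * (y * i / E'))) := (hInv _ _).symm
    _ = χ ((g ^ x) ^ (y * i)) := by rw [← hyi']
    _ = χ (g ^ y) := by rw [mul_comm y i, pow_mul, hg]

theorem sum_range_mul_periodic (f : ℕ → ℂ) (p : ℕ) (hf : ∀ t, f (t + p) = f t) (k : ℕ) :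
    ∑ t ∈ range (p * k), f t = k * ∑ t ∈ range p, f t := by
  have hmul : ∀ k t, f (p * k + t) = f t := by
    intro k
    induction k with
    | zero => intro t; simp
    | succ k ih =>
      intro t
      rw [Nat.mul_succ, add_assoc, add_comm p t, ← add_assoc, hf, ih]
  induction k with
  | zero => simp
  | succ k ih =>
    rw [Nat.mul_succ, sum_range_add, ih, sum_congr rfl (fun t _ => hmul k t)]
    push_cast; ring

theorem centralChar_pow_coprime [Finite G] (χ : G → ℂ) (u : ℕ) (hu : u.Coprime (Nat.card G))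
    (g : G) :
    centralChar χ (g ^ u)
      = ((Subgroup.centralizer ({g} : Set G)).index : ℂ) * χ (g ^ u) / χ 1 := by
  unfold centralChar
  rw [index_centralizer_pow_coprime u hu g]

theorem centralChar_inv_pow_coprime [Finite G] {χ : G → ℂ} (hχ : IsIrrCharacter G χ) (u : ℕ)
    (hu : u.Coprime (Nat.card G)) (g : G) :
    centralChar χ (g ^ u)⁻¹
      = ((Subgroup.centralizer ({g} : Set G)).index : ℂ) * conj (χ (g ^ u)) / χ 1 := by
  unfold centralChar
  rw [index_centralizer_inv', index_centralizer_pow_coprime u hu g,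
    Cfsg.Agent.Lib.helper83.isCharacter_inv (isCharacter_of_isIrrCharacter hχ)]

/-- The "variance" of the central character along the power maps `g ↦ g ^ (1 + E t)`. -/
noncomputable def bFun (E D : ℕ) (ω : G → ℂ) : G → ℂ :=
  fun g => avgPow E D (fun x => ω x * ω x⁻¹) g
    - avgPow E D ω g * avgPow E D (fun x => ω x⁻¹) g

theorem galEquiv_bFun [Finite G] {ω : G → ℂ} (hω : GalEquiv G ω) (E D : ℕ) (hD : 0 < D)
    (hED : Nat.card G ∣ E * D) (hcop : ∀ t, (1 + E * t).Coprime (Nat.card G)) :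
    GalEquiv G (bFun E D ω) :=
  ((hω.mul hω.inv).avg E D hD hED hcop).sub
    ((hω.avg E D hD hED hcop).mul (hω.inv.avg E D hD hED hcop))

theorem bFun_centralChar_eq [Finite G] {χ : G → ℂ} (hχ : IsIrrCharacter G χ) (E D : ℕ)
    (hcop : ∀ t, (1 + E * t).Coprime (Nat.card G)) (g : G) :
    bFun E D (centralChar χ) g =
      (((Subgroup.centralizer ({g} : Set G)).index : ℂ) / χ 1) ^ 2 *
      ((D : ℂ)⁻¹ * ∑ t ∈ range D, χ (g ^ (1 + E * t)) * conj (χ (g ^ (1 + E * t)))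
        - ((D : ℂ)⁻¹ * ∑ t ∈ range D, χ (g ^ (1 + E * t))) *
          ((D : ℂ)⁻¹ * ∑ t ∈ range D, conj (χ (g ^ (1 + E * t))))) := by
  have f1 : ∀ t, centralChar χ (g ^ (1 + E * t))
      = ((Subgroup.centralizer ({g} : Set G)).index : ℂ) * χ (g ^ (1 + E * t)) / χ 1 :=
    fun t => centralChar_pow_coprime χ _ (hcop t) g
  have f2 : ∀ t, centralChar χ (g ^ (1 + E * t))⁻¹
      = ((Subgroup.centralizer ({g} : Set G)).index : ℂ) * conj (χ (g ^ (1 + E * t))) / χ 1 :=
    fun t => centralChar_inv_pow_coprime hχ _ (hcop t) g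
  unfold bFun avgPow
  simp only [f1, f2]
  have e1 : ∑ t ∈ range D, ((Subgroup.centralizer ({g} : Set G)).index : ℂ)
        * χ (g ^ (1 + E * t)) / χ 1
        * (((Subgroup.centralizer ({g} : Set G)).index : ℂ) * conj (χ (g ^ (1 + E * t))) / χ 1)
      = (((Subgroup.centralizer ({g} : Set G)).index : ℂ) / χ 1) ^ 2
        * ∑ t ∈ range D, χ (g ^ (1 + E * t)) * conj (χ (g ^ (1 + E * t))) := by
    rw [mul_sum]; refine sum_congr rfl (fun t _ => ?_); ring
  have e2 : ∑ t ∈ range D, ((Subgroup.centralizer ({g} : Set G)).index : ℂ)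
        * χ (g ^ (1 + E * t)) / χ 1
      = (((Subgroup.centralizer ({g} : Set G)).index : ℂ) / χ 1)
        * ∑ t ∈ range D, χ (g ^ (1 + E * t)) := by
    rw [mul_sum]; refine sum_congr rfl (fun t _ => ?_); ring
  have e3 : ∑ t ∈ range D, ((Subgroup.centralizer ({g} : Set G)).index : ℂ)
        * conj (χ (g ^ (1 + E * t))) / χ 1
      = (((Subgroup.centralizer ({g} : Set G)).index : ℂ) / χ 1)
        * ∑ t ∈ range D, conj (χ (g ^ (1 + E * t))) := by
    rw [mul_sum]; refine sum_congr rfl (fun t _ => ?_); ring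
  rw [e1, e2, e3]; ring

/-- The data of a hypothetical counterexample to the inductive step. -/
structure StepData (G : Type u) [Group G] [Fintype G] (χ : G → ℂ) (p m j e d : ℕ) : Prop where
  irr : IsIrrCharacter G χ
  prime : p.Prime
  card : Nat.card G = p ^ (j + e) * m
  hpm : ¬ p ∣ m
  hj : 1 ≤ j
  he : 1 ≤ e
  deg : χ 1 = (d : ℂ)
  hd : p ^ e ∣ d
  inv : ∀ s g, χ (g ^ (1 + m * p ^ (j + 1) * s)) = χ g
  ninv : ¬ ∀ s g, χ (g ^ (1 + m * p ^ j * s)) = χ g

namespace StepData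

variable [Fintype G] {χ : G → ℂ} {p m j e d : ℕ} (h : StepData G χ p m j e d)

include h

theorem m_pos : 0 < m := by
  rcases Nat.eq_zero_or_pos m with rfl | hm
  · have h1 := h.card
    rw [mul_zero] at h1
    exact absurd h1 Nat.card_pos.ne'
  · exact hm

theorem d_pos : 0 < d := by
  have h1 := Cfsg.Agent.Lib.helper81.isCharacter_one_eq_charDegree
    (isCharacter_of_isIrrCharacter h.irr)
  have h2 := Cfsg.Agent.Lib.helper81.irr_charDegree_pos (⟨χ, h.irr⟩ : IrrCharacter G)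
  rw [h.deg] at h1
  have h3 : d = charDegree χ := by exact_mod_cast h1
  rw [h3]; exact h2

theorem prime_dvd {E : ℕ} (hE : m ∣ E) (hpE : p ∣ E) :
    ∀ q : ℕ, q.Prime → q ∣ Nat.card G → q ∣ E := by
  intro q hq hqn
  rw [h.card] at hqn
  rcases (Nat.Prime.dvd_mul hq).1 hqn with h1 | h1
  · have : q ∣ p := hq.dvd_of_dvd_pow h1
    exact this.trans hpE
  · exact h1.trans hE

theorem cop (t : ℕ) : (1 + m * p ^ j * t).Coprime (Nat.card G) :=
  coprime_one_add_mul (h.prime_dvd (Dvd.intro _ rfl)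
    (Dvd.dvd.mul_left (dvd_pow_self p (by have := h.hj; omega)) m)) t

theorem cop2 (t : ℕ) : (1 + m * p ^ 2 * t).Coprime (Nat.card G) :=
  coprime_one_add_mul (h.prime_dvd (Dvd.intro _ rfl)
    (Dvd.dvd.mul_left (dvd_pow_self p (by norm_num)) m)) t

theorem congr (x y : ℕ) (hx : x.Coprime (Nat.card G)) (hxy : x ≡ y [MOD m * p ^ (j + 1)])
    (g : G) : χ (g ^ x) = χ (g ^ y) := by
  refine char_pow_congr χ (m * p ^ (j + 1)) ?_ ?_ h.inv x y hx hxy g
  · have h1 : 2 ≤ p := h.prime.two_le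
    have h2 : p ≤ p ^ (j + 1) := Nat.le_self_pow (by omega) p
    have h3 : 1 ≤ m := h.m_pos
    nlinarith
  · rw [h.card]
    obtain ⟨e', he'⟩ : ∃ e', e = e' + 1 := ⟨e - 1, by have := h.he; omega⟩
    rw [he']
    exact ⟨p ^ e', by ring⟩

theorem c_add_p (t : ℕ) (g : G) :
    χ (g ^ (1 + m * p ^ j * (t + p))) = χ (g ^ (1 + m * p ^ j * t)) := by
  refine h.congr _ _ (h.cop _) ?_ g
  have : 1 + m * p ^ j * (t + p) = 1 + m * p ^ j * t + m * p ^ (j + 1) := by ring
  rw [this]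
  exact Nat.add_modEq_right

theorem c_add (t t' : ℕ) (g : G) :
    χ (g ^ (1 + m * p ^ j * (t + t')))
      = χ ((g ^ (1 + m * p ^ j * t')) ^ (1 + m * p ^ j * t)) := by
  rw [← pow_mul]
  symm
  refine h.congr _ _ ((h.cop t').mul_left (h.cop t)) ?_ g
  obtain ⟨j', hj'⟩ : ∃ j', j = j' + 1 := ⟨j - 1, by have := h.hj; omega⟩
  have : (1 + m * p ^ j * t') * (1 + m * p ^ j * t)
      = 1 + m * p ^ j * (t + t') + m * p ^ (j + 1) * (m * p ^ j' * t * t') := by
    rw [hj']; ring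
  rw [this]
  exact Nat.add_mul_mod_self_left _ _ _

theorem c_irr (t : ℕ) : IsIrrCharacter G (fun g => χ (g ^ (1 + m * p ^ j * t))) :=
  Cfsg.Agent.Lib.helper79.isIrrCharacter_pow_coprime _ (h.cop t) h.irr

theorem c_period (δ : ℕ) (hδ : ∀ g, χ (g ^ (1 + m * p ^ j * δ)) = χ g) : p ∣ δ := by
  by_contra hnd
  apply h.ninv
  intro s g
  have hcop : Nat.Coprime δ p := ((Nat.Prime.coprime_iff_not_dvd h.prime).2 hnd).symm
  have h1 : ∀ t, χ (g ^ (1 + m * p ^ j * (t + p))) = χ (g ^ (1 + m * p ^ j * t)) :=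
    fun t => h.c_add_p t g
  have h2 : ∀ t, χ (g ^ (1 + m * p ^ j * (t + δ))) = χ (g ^ (1 + m * p ^ j * t)) := by
    intro t
    rw [add_comm t δ, h.c_add δ t g, hδ]
  have := const_of_two_periods (fun t => χ (g ^ (1 + m * p ^ j * t))) p δ h.prime.one_lt h1 h2
    hcop s
  simpa using this

theorem c_eq_imp (t t' : ℕ) (hle : t ≤ t')
    (heq : ∀ g, χ (g ^ (1 + m * p ^ j * t)) = χ (g ^ (1 + m * p ^ j * t'))) : p ∣ t' - t := by
  apply h.c_period
  intro g
  obtain ⟨x, rfl⟩ : ∃ x : G, x ^ (1 + m * p ^ j * t) = g := by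
    have hk' : (1 + m * p ^ j * t).Coprime (orderOf g) :=
      Nat.Coprime.coprime_dvd_right (orderOf_dvd_natCard g) (h.cop t)
    obtain ⟨i, hi⟩ := exists_pow_eq_self_of_coprime hk'
    exact ⟨g ^ i, by rw [← pow_mul, mul_comm, pow_mul, hi]⟩
  rw [← h.c_add (t' - t) t x, show t' - t + t = t' by omega, ← heq x]

theorem c_eq_iff (t t' : ℕ) :
    ((fun g => χ (g ^ (1 + m * p ^ j * t))) = (fun g => χ (g ^ (1 + m * p ^ j * t'))))
      ↔ t ≡ t' [MOD p] := by
  constructor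
  · intro heq
    have heq' : ∀ g, χ (g ^ (1 + m * p ^ j * t)) = χ (g ^ (1 + m * p ^ j * t')) :=
      fun g => congrFun heq g
    rcases le_total t t' with hle | hle
    · exact ((Nat.modEq_iff_dvd' hle).2 (h.c_eq_imp t t' hle heq'))
    · exact ((Nat.modEq_iff_dvd' hle).2 (h.c_eq_imp t' t hle (fun g => (heq' g).symm))).symm
  · intro hmod
    funext g
    have hper : ∀ k t, χ (g ^ (1 + m * p ^ j * (t + p * k))) = χ (g ^ (1 + m * p ^ j * t)) := by
      intro k
      induction k with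
      | zero => intro t; simp
      | succ k ih => intro t; rw [Nat.mul_succ, ← add_assoc, h.c_add_p, ih]
    have h1 := hper (t / p) (t % p)
    have h2 := hper (t' / p) (t' % p)
    rw [Nat.mod_add_div] at h1 h2
    rw [h1, h2, show t % p = t' % p from hmod]

theorem sum_c_mul_conj (t t' : ℕ) :
    ∑ g, χ (g ^ (1 + m * p ^ j * t)) * conj (χ (g ^ (1 + m * p ^ j * t')))
      = if t ≡ t' [MOD p] then (Nat.card G : ℂ) else 0 := by
  classical
  have h1 := Cfsg.Agent.Lib.helper4.classInner_irr (h.c_irr t) (h.c_irr t')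
  unfold classInner at h1
  beta_reduce at h1
  have hn : (Nat.card G : ℂ) ≠ 0 := by exact_mod_cast Nat.card_pos.ne'
  have h2 : ∑ g, χ (g ^ (1 + m * p ^ j * t)) * conj (χ (g ^ (1 + m * p ^ j * t')))
      = (Nat.card G : ℂ) * (if (fun g => χ (g ^ (1 + m * p ^ j * t)))
          = (fun g => χ (g ^ (1 + m * p ^ j * t'))) then 1 else 0) := by
    rw [← h1]; field_simp
  rw [h2]
  by_cases hc : t ≡ t' [MOD p]
  · rw [if_pos hc, if_pos ((h.c_eq_iff t t').2 hc), mul_one]
  · rw [if_neg hc, if_neg (fun hh => hc ((h.c_eq_iff t t').1 hh)), mul_zero]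

theorem sum_weight_bFun :
    ∑ g : G, ((d : ℂ) / ((Subgroup.centralizer ({g} : Set G)).index : ℂ)) ^ 2
        * bFun (m * p ^ j) (p ^ e) (centralChar χ) g
      = (Nat.card G : ℂ) - (Nat.card G : ℂ) / p := by
  classical
  obtain ⟨e', he'⟩ : ∃ e', e = e' + 1 := ⟨e - 1, by have := h.he; omega⟩
  have hidx : ∀ g : G, ((Subgroup.centralizer ({g} : Set G)).index : ℂ) ≠ 0 := by
    intro g
    have : (Subgroup.centralizer ({g} : Set G)).index ≠ 0 := Subgroup.index_ne_zero_of_finite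
    exact_mod_cast this
  have hd0 : (d : ℂ) ≠ 0 := by exact_mod_cast h.d_pos.ne'
  have hp0 : (p : ℂ) ≠ 0 := by exact_mod_cast h.prime.pos.ne'
  have hD0 : ((p ^ e : ℕ) : ℂ) ≠ 0 := by exact_mod_cast (pow_pos h.prime.pos e).ne'
  have key : ∀ (I dd Dinv S1 S2 S3 : ℂ), I ≠ 0 → dd ≠ 0 →
      (dd / I) ^ 2 * ((I / dd) ^ 2 * (Dinv * S1 - (Dinv * S2) * (Dinv * S3)))
        = Dinv * S1 - Dinv ^ 2 * (S2 * S3) := by
    intro I dd Dinv S1 S2 S3 hI hdd
    field_simp
  have hpt : ∀ g : G, ((d : ℂ) / ((Subgroup.centralizer ({g} : Set G)).index : ℂ)) ^ 2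
        * bFun (m * p ^ j) (p ^ e) (centralChar χ) g
      = ((p ^ e : ℕ) : ℂ)⁻¹ * ∑ t ∈ range (p ^ e),
            χ (g ^ (1 + m * p ^ j * t)) * conj (χ (g ^ (1 + m * p ^ j * t)))
        - (((p ^ e : ℕ) : ℂ)⁻¹) ^ 2 * ∑ t ∈ range (p ^ e), ∑ t' ∈ range (p ^ e),
            χ (g ^ (1 + m * p ^ j * t)) * conj (χ (g ^ (1 + m * p ^ j * t'))) := by
    intro g
    rw [bFun_centralChar_eq h.irr _ _ h.cop g, h.deg, key _ _ _ _ _ _ (hidx g) hd0,
      sum_mul_sum]
  have hS1 : ∑ g : G, ∑ t ∈ range (p ^ e),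
        χ (g ^ (1 + m * p ^ j * t)) * conj (χ (g ^ (1 + m * p ^ j * t)))
      = ((p ^ e : ℕ) : ℂ) * (Nat.card G : ℂ) := by
    rw [sum_comm, sum_congr rfl (fun t _ => h.sum_c_mul_conj t t)]
    simp [Nat.ModEq.refl]
  have hS2 : ∑ g : G, ∑ t ∈ range (p ^ e), ∑ t' ∈ range (p ^ e),
        χ (g ^ (1 + m * p ^ j * t)) * conj (χ (g ^ (1 + m * p ^ j * t')))
      = ((p ^ e : ℕ) : ℂ) * (((p ^ e' : ℕ) : ℂ) * (Nat.card G : ℂ)) := by
    rw [sum_comm]
    have hin : ∀ t ∈ range (p ^ e), ∑ g : G, ∑ t' ∈ range (p ^ e),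
        χ (g ^ (1 + m * p ^ j * t)) * conj (χ (g ^ (1 + m * p ^ j * t')))
        = ((p ^ e' : ℕ) : ℂ) * (Nat.card G : ℂ) := by
      intro t _
      rw [sum_comm, sum_congr rfl (fun t' _ => h.sum_c_mul_conj t t')]
      rw [he', pow_succ, mul_comm (p ^ e') p,
        sum_range_mul_periodic (fun t' => if t ≡ t' [MOD p] then (Nat.card G : ℂ) else 0) p ?_
          (p ^ e')]
      · congr 1
        rw [sum_eq_single (t % p)]
        · rw [if_pos]; exact (Nat.mod_modEq t p).symm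
        · intro b hb hbne
          rw [if_neg]
          intro hmod
          apply hbne
          have h3 : t % p = b % p := hmod
          rw [Nat.mod_eq_of_lt (mem_range.1 hb)] at h3
          exact h3.symm
        · intro hnot
          exact absurd (mem_range.2 (Nat.mod_lt t h.prime.pos)) hnot
      · intro t'
        have h4 : (t ≡ t' + p [MOD p]) ↔ (t ≡ t' [MOD p]) := by
          unfold Nat.ModEq; rw [Nat.add_mod_right]
        simp only [h4]
    rw [sum_congr rfl hin, sum_const, card_range, nsmul_eq_mul]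
  rw [sum_congr rfl (fun g _ => hpt g), sum_sub_distrib, ← mul_sum, ← mul_sum, hS1, hS2, he']
  push_cast
  field_simp
  ring

theorem bFun_eq_zero_of_const (g : G) (hc : ∀ t, χ (g ^ (1 + m * p ^ j * t)) = χ g) :
    bFun (m * p ^ j) (p ^ e) (centralChar χ) g = 0 := by
  rw [bFun_centralChar_eq h.irr _ _ h.cop g]
  simp only [hc, sum_const, card_range, nsmul_eq_mul]
  have hD0 : ((p ^ e : ℕ) : ℂ) ≠ 0 := by exact_mod_cast (pow_pos h.prime.pos e).ne'
  have h0 : ((p ^ e : ℕ) : ℂ)⁻¹ * (((p ^ e : ℕ) : ℂ) * (χ g * conj (χ g)))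
      - ((p ^ e : ℕ) : ℂ)⁻¹ * (((p ^ e : ℕ) : ℂ) * χ g)
        * (((p ^ e : ℕ) : ℂ)⁻¹ * (((p ^ e : ℕ) : ℂ) * conj (χ g))) = 0 := by
    field_simp
    ring
  rw [h0, mul_zero]

theorem bFun_ne_zero_order (g : G) (hne : bFun (m * p ^ j) (p ^ e) (centralChar χ) g ≠ 0) :
    p ^ (j + 1) ∣ orderOf g := by
  by_contra hnd
  apply hne
  apply h.bFun_eq_zero_of_const
  intro t
  have ho : orderOf g ∣ m * p ^ j := by
    have h1 : orderOf g ∣ p ^ (j + e) * m := h.card ▸ orderOf_dvd_natCard g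
    have h2 : orderOf g ∣ Nat.gcd (p ^ (j + e) * m) (orderOf g * m) :=
      Nat.dvd_gcd h1 (Dvd.intro _ rfl)
    rw [Nat.gcd_mul_right] at h2
    obtain ⟨b, -, hb⟩ := (Nat.dvd_prime_pow h.prime).1
      (Nat.gcd_dvd_left (p ^ (j + e)) (orderOf g))
    have hb' : p ^ b ∣ orderOf g := hb ▸ Nat.gcd_dvd_right _ _
    have hbj : b ≤ j := by
      by_contra hlt
      exact hnd ((pow_dvd_pow p (by omega)).trans hb')
    rw [hb] at h2
    exact h2.trans (by rw [mul_comm]; exact Nat.mul_dvd_mul_left m (pow_dvd_pow p hbj))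
  obtain ⟨q, hq⟩ := ho
  rw [pow_add, pow_one, hq, mul_assoc, pow_mul, pow_orderOf_eq_one, one_pow, mul_one]

theorem bFun_eq_zero_of_conj (g : G) (s₁ : ℕ) (hs₁ : ¬ p ∣ s₁)
    (hconj : IsConj (g ^ (1 + m * p ^ j * s₁)) g) :
    bFun (m * p ^ j) (p ^ e) (centralChar χ) g = 0 := by
  apply h.bFun_eq_zero_of_const
  intro t
  have hcop : Nat.Coprime s₁ p := ((Nat.Prime.coprime_iff_not_dvd h.prime).2 hs₁).symm
  have h1 : ∀ t, χ (g ^ (1 + m * p ^ j * (t + p))) = χ (g ^ (1 + m * p ^ j * t)) :=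
    fun t => h.c_add_p t g
  have h2 : ∀ t, χ (g ^ (1 + m * p ^ j * (t + s₁))) = χ (g ^ (1 + m * p ^ j * t)) := by
    intro t
    rw [h.c_add t s₁ g]
    exact isIrrCharacter_conj h.irr _ _ (hconj.pow _)
  have := const_of_two_periods (fun t => χ (g ^ (1 + m * p ^ j * t))) p s₁ h.prime.one_lt h1 h2
    hcop t
  simpa using this

theorem card_dvd : Nat.card G ∣ m * p ^ j * p ^ e := by
  rw [h.card]; exact ⟨1, by ring⟩

theorem card_dvd2 : Nat.card G ∣ m * p ^ 2 * p ^ (j + e - 2) := by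
  rw [h.card]
  have h1 := h.hj
  have h2 := h.he
  have : p ^ (j + e) = p ^ 2 * p ^ (j + e - 2) := by
    rw [← pow_add]; congr 1; omega
  rw [this]; exact ⟨1, by ring⟩

theorem galEquiv_b : GalEquiv G (bFun (m * p ^ j) (p ^ e) (centralChar χ)) :=
  galEquiv_bFun (galEquiv_centralChar h.irr) _ _ (pow_pos h.prime.pos e) h.card_dvd h.cop

end StepData

/-- The average of `bFun` over the power maps `g ↦ g ^ (1 + m p² s)`. -/
noncomputable def aFun (m p j e : ℕ) (χ : G → ℂ) : G → ℂ :=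
  avgPow (m * p ^ 2) (p ^ (j + e - 2)) (bFun (m * p ^ j) (p ^ e) (centralChar χ))

namespace StepData

variable [Fintype G] {χ : G → ℂ} {p m j e d : ℕ} (h : StepData G χ p m j e d)

include h

theorem galEquiv_a : GalEquiv G (aFun m p j e χ) :=
  h.galEquiv_b.avg _ _ (pow_pos h.prime.pos _) h.card_dvd2 h.cop2

theorem aFun_pow (g : G) : aFun m p j e χ (g ^ (1 + m * p ^ 2)) = aFun m p j e χ g := by
  have hc : (1 + m * p ^ 2 * 1).Coprime (p ^ (j + e - 2)) := by
    apply Nat.Coprime.pow_right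
    apply coprime_one_add_mul (n := p) (E := m * p ^ 2) _ 1
    intro q hq hqp
    exact hqp.trans (Dvd.dvd.mul_left (dvd_pow_self p (by norm_num)) m)
  have := avgPow_pow_invariant (bFun (m * p ^ j) (p ^ e) (centralChar χ)) (m * p ^ 2)
    (p ^ (j + e - 2)) (pow_pos h.prime.pos _) h.card_dvd2 1 hc g
  rw [mul_one] at this
  exact this

theorem sum_weight_aFun :
    ∑ g : G, ((d : ℂ) / ((Subgroup.centralizer ({g} : Set G)).index : ℂ)) ^ 2
        * aFun m p j e χ g
      = (Nat.card G : ℂ) - (Nat.card G : ℂ) / p := by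
  rw [← h.sum_weight_bFun]
  unfold aFun
  refine sum_weight_avgPow _ (fun g : G => ((d : ℂ)
    / ((Subgroup.centralizer ({g} : Set G)).index : ℂ)) ^ 2) _ _ (pow_pos h.prime.pos _)
    h.cop2 ?_
  intro u hu g
  show ((d : ℂ) / ((Subgroup.centralizer ({g ^ u} : Set G)).index : ℂ)) ^ 2 = _
  rw [index_centralizer_pow_coprime u hu g]

theorem aFun_ne_zero_order (g : G) (hne : aFun m p j e χ g ≠ 0) : p ^ (j + 1) ∣ orderOf g := by
  by_contra hnd
  apply hne
  unfold aFun avgPow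
  rw [sum_eq_zero, mul_zero]
  intro s _
  by_contra hb
  have h1 := h.bFun_ne_zero_order _ hb
  have hco : (orderOf g).Coprime (1 + m * p ^ 2 * s) :=
    Nat.Coprime.coprime_dvd_left (orderOf_dvd_natCard g) (h.cop2 s).symm
  rw [Nat.Coprime.orderOf_pow hco] at h1
  exact hnd h1

theorem aFun_eq_zero_of_conj (g : G) (s₁ : ℕ) (hs₁ : ¬ p ∣ s₁)
    (hconj : IsConj (g ^ (1 + m * p ^ j * s₁)) g) : aFun m p j e χ g = 0 := by
  unfold aFun avgPow
  rw [sum_eq_zero, mul_zero]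
  intro s _
  apply h.bFun_eq_zero_of_conj _ s₁ hs₁
  rw [← pow_mul, mul_comm, pow_mul]
  exact hconj.pow _

theorem false : False := by
  classical
  have hp := h.prime
  have hm := h.m_pos
  have hA := h.galEquiv_a
  have hidx : ∀ g : G, ((Subgroup.centralizer ({g} : Set G)).index : ℂ) ≠ 0 := by
    intro g
    have : (Subgroup.centralizer ({g} : Set G)).index ≠ 0 := Subgroup.index_ne_zero_of_finite
    exact_mod_cast this
  obtain ⟨j', hj'⟩ : ∃ j', j = j' + 1 := ⟨j - 1, by have := h.hj; omega⟩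
  obtain ⟨e', he'⟩ : ∃ e', e = e' + 1 := ⟨e - 1, by have := h.he; omega⟩
  obtain ⟨Φ, hΦdef⟩ : ∃ Φ : ConjClasses G → ℂ, ∀ c, Φ c
      = (d : ℂ) ^ 2 / ((Subgroup.centralizer ({Quotient.out c} : Set G)).index : ℂ)
        * aFun m p j e χ (Quotient.out c) := ⟨_, fun _ => rfl⟩
  -- the sum of `Φ` over the classes
  have hF1 : ∑ c, Φ c = (Nat.card G : ℂ) - (Nat.card G : ℂ) / p := by
    rw [← h.sum_weight_aFun]
    have hcf : IsClassFunction G (fun g : G => ((d : ℂ)
        / ((Subgroup.centralizer ({g} : Set G)).index : ℂ)) ^ 2 * aFun m p j e χ g) := by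
      intro g x
      show ((d : ℂ) / ((Subgroup.centralizer ({x * g * x⁻¹} : Set G)).index : ℂ)) ^ 2
        * aFun m p j e χ (x * g * x⁻¹) = _
      rw [hA.conj,
        index_centralizer_isConj (isConj_iff.2 ⟨x, rfl⟩ : IsConj g (x * g * x⁻¹)).symm]
    rw [Cfsg.Agent.Lib.helper84.sum_eq_sum_classes_out _ hcf]
    refine sum_congr rfl (fun c _ => ?_)
    rw [hΦdef]
    have := hidx (Quotient.out c)
    field_simp
  obtain ⟨v₀, hv₀⟩ : ∃ v₀, v₀ = 1 + m * p ^ 2 := ⟨_, rfl⟩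
  have hout : ∀ c : ConjClasses G, ConjClasses.mk (Quotient.out c) = c :=
    fun c => Quotient.out_eq c
  -- invariance of `Φ`
  have hF2 : ∀ c : ConjClasses G, Φ (powClass v₀ c) = Φ c := by
    intro c
    have hconj : IsConj (Quotient.out (powClass v₀ c)) (Quotient.out c ^ v₀) := by
      rw [← ConjClasses.mk_eq_mk_iff_isConj, hout]
      rfl
    have hcop : (1 + m * p ^ 2).Coprime (Nat.card G) := by
      have := h.cop2 1
      rwa [mul_one] at this
    rw [hΦdef, hΦdef, hA.isConj hconj, index_centralizer_isConj hconj, hv₀, h.aFun_pow,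
      index_centralizer_pow_coprime _ hcop]
  -- finite order
  have hF3 : ∀ c : ConjClasses G, (powClass v₀)^[p ^ (j + e)] c = c := by
    intro c
    obtain ⟨s, -, hs⟩ := exists_pow_prime_pow p hp m hm (j + e)
    rw [← hout c, powClass_iterate, hv₀, hs]
    congr 1
    rw [pow_add, pow_one,
      show m * p ^ (2 + (j + e)) * s = Nat.card G * (p ^ 2 * s) by rw [h.card]; ring,
      pow_mul, pow_card_eq_one', one_pow, mul_one]
  -- long orbits where `Φ ≠ 0`
  have hF4 : ∀ c : ConjClasses G, Φ c ≠ 0 →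
      p ^ (j - 1) ∣ Function.minimalPeriod (powClass v₀) c := by
    intro c hc
    have hA0 : aFun m p j e χ (Quotient.out c) ≠ 0 := by
      intro h0; apply hc; rw [hΦdef, h0, mul_zero]
    have hdvd : Function.minimalPeriod (powClass v₀) c ∣ p ^ (j + e) :=
      Function.IsPeriodicPt.minimalPeriod_dvd (hF3 c)
    obtain ⟨i, -, hi⟩ := (Nat.dvd_prime_pow hp).1 hdvd
    rw [hi]
    apply pow_dvd_pow
    by_contra hlt
    have hi2 : i ≤ j - 2 := by omega
    have hper0 := Function.isPeriodicPt_minimalPeriod (powClass v₀) c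
    rw [hi] at hper0
    have hper : Function.IsPeriodicPt (powClass v₀) (p ^ (j - 2)) c :=
      hper0.trans_dvd (pow_dvd_pow p hi2)
    have hfix : (powClass v₀)^[p ^ (j - 2)] c = c := hper
    obtain ⟨s₁, hs₁, hs⟩ := exists_pow_prime_pow p hp m hm (j - 2)
    rw [← hout c, powClass_iterate, hv₀, hs, ConjClasses.mk_eq_mk_iff_isConj,
      show 2 + (j - 2) = j by omega] at hfix
    exact hA0 (h.aFun_eq_zero_of_conj _ s₁ hs₁ hfix)
  -- the additive group of admissible values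
  let I : AddSubgroup ℂ :=
    { carrier := {z | ∃ y : ℂ, IsIntegral ℤ y ∧ (m : ℂ) * z = (p : ℂ) ^ (e + 1) * y}
      zero_mem' := ⟨0, isIntegral_zero, by simp⟩
      add_mem' := by
        rintro a b ⟨y1, hy1, h1⟩ ⟨y2, hy2, h2⟩
        exact ⟨y1 + y2, hy1.add hy2, by rw [mul_add, mul_add, h1, h2]⟩
      neg_mem' := by
        rintro a ⟨y1, hy1, h1⟩
        exact ⟨-y1, hy1.neg, by rw [mul_neg, mul_neg, h1]⟩ }
  have hI : ∀ c, Φ c ∈ I := by
    intro c
    show ∃ y : ℂ, IsIntegral ℤ y ∧ (m : ℂ) * Φ c = (p : ℂ) ^ (e + 1) * y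
    by_cases hA0 : aFun m p j e χ (Quotient.out c) = 0
    · exact ⟨0, isIntegral_zero, by rw [hΦdef, hA0]; simp⟩
    · have ho := h.aFun_ne_zero_order _ hA0
      have hoC : orderOf (Quotient.out c)
          ∣ Nat.card (Subgroup.centralizer ({Quotient.out c} : Set G)) :=
        Subgroup.orderOf_dvd_natCard _ (by
          rw [Subgroup.mem_centralizer_iff]
          intro x hx
          rw [Set.mem_singleton_iff] at hx
          rw [hx])
      obtain ⟨c₁, hc₁⟩ := ho.trans hoC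
      obtain ⟨d₁, hd₁⟩ := h.hd
      have hCi := Subgroup.card_mul_index (Subgroup.centralizer ({Quotient.out c} : Set G))
      rw [hc₁, h.card] at hCi
      have key : c₁ * (Subgroup.centralizer ({Quotient.out c} : Set G)).index = p ^ e' * m := by
        apply Nat.eq_of_mul_eq_mul_left (pow_pos hp.pos (j + 1))
        calc p ^ (j + 1) * (c₁ * (Subgroup.centralizer ({Quotient.out c} : Set G)).index)
            = p ^ (j + 1) * c₁ * (Subgroup.centralizer ({Quotient.out c} : Set G)).index := by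
              ring
          _ = p ^ (j + e) * m := hCi
          _ = p ^ (j + 1) * (p ^ e' * m) := by rw [he']; ring
      have hnat : m * d ^ 2 = p ^ (e + 1) * (d₁ ^ 2 * c₁)
          * (Subgroup.centralizer ({Quotient.out c} : Set G)).index := by
        rw [show p ^ (e + 1) * (d₁ ^ 2 * c₁)
            * (Subgroup.centralizer ({Quotient.out c} : Set G)).index
          = p ^ (e + 1) * d₁ ^ 2
            * (c₁ * (Subgroup.centralizer ({Quotient.out c} : Set G)).index) by ring, key,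
          hd₁, he']
        ring
      have hC : (m : ℂ) * (d : ℂ) ^ 2 = (p : ℂ) ^ (e + 1) * ((d₁ ^ 2 * c₁ : ℕ) : ℂ)
          * ((Subgroup.centralizer ({Quotient.out c} : Set G)).index : ℂ) := by
        exact_mod_cast hnat
      refine ⟨((d₁ ^ 2 * c₁ : ℕ) : ℂ) * aFun m p j e χ (Quotient.out c),
        (isIntegral_natCast _).mul (hA.integral _), ?_⟩
      rw [hΦdef]
      have hi0 := hidx (Quotient.out c)
      calc (m : ℂ) * ((d : ℂ) ^ 2
            / ((Subgroup.centralizer ({Quotient.out c} : Set G)).index : ℂ)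
            * aFun m p j e χ (Quotient.out c))
          = ((m : ℂ) * (d : ℂ) ^ 2)
            / ((Subgroup.centralizer ({Quotient.out c} : Set G)).index : ℂ)
            * aFun m p j e χ (Quotient.out c) := by ring
        _ = ((p : ℂ) ^ (e + 1) * ((d₁ ^ 2 * c₁ : ℕ) : ℂ)
            * ((Subgroup.centralizer ({Quotient.out c} : Set G)).index : ℂ))
            / ((Subgroup.centralizer ({Quotient.out c} : Set G)).index : ℂ)
            * aFun m p j e χ (Quotient.out c) := by rw [hC]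
        _ = (p : ℂ) ^ (e + 1)
            * (((d₁ ^ 2 * c₁ : ℕ) : ℂ) * aFun m p j e χ (Quotient.out c)) := by
              rw [mul_div_assoc, div_self hi0]; ring
  obtain ⟨y, ⟨y', hy'int, hy'⟩, hsum⟩ := orbit_sum_dvd (powClass v₀) (p ^ (j + e))
    (pow_pos hp.pos _) hF3 Φ hF2 (p ^ (j - 1)) hF4 I hI
  rw [hF1] at hsum
  have hp0 : (p : ℂ) ≠ 0 := by exact_mod_cast hp.pos.ne'
  have hn : (Nat.card G : ℂ) = (p : ℂ) ^ (j + e) * m := by exact_mod_cast h.card
  have hsum' : (Nat.card G : ℂ) * p - Nat.card G = p * ((p : ℂ) ^ j' * y) := by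
    have h1 : (Nat.card G : ℂ) - (Nat.card G : ℂ) / p = (p : ℂ) ^ j' * y := by
      rw [hsum, hj']; simp
    rw [← h1]; field_simp
  rw [hn] at hsum'
  have e1 : (p : ℂ) * y' = ((m ^ 2 * (p - 1) : ℕ) : ℂ) := by
    have hpj : (p : ℂ) ^ (j + e) ≠ 0 := pow_ne_zero _ hp0
    apply mul_left_cancel₀ hpj
    have hcast : ((m ^ 2 * (p - 1) : ℕ) : ℂ) = (m : ℂ) ^ 2 * ((p : ℂ) - 1) := by
      rw [Nat.cast_mul, Nat.cast_pow, Nat.cast_sub hp.one_le, Nat.cast_one]
    rw [hcast]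
    rw [hj'] at hsum' ⊢
    linear_combination (-((p : ℂ) ^ j' * p)) * hy' - (m : ℂ) * hsum'
  have hy'q : y' = ((((m ^ 2 * (p - 1) : ℕ) : ℚ) / (p : ℚ) : ℚ) : ℂ) := by
    push_cast
    rw [eq_div_iff hp0, mul_comm]
    rw [e1]; push_cast; ring
  rw [hy'q] at hy'int
  have hint : IsIntegral ℤ (((m ^ 2 * (p - 1) : ℕ) : ℚ) / (p : ℚ) : ℚ) := by
    apply (isIntegral_algebraMap_iff (algebraMap ℚ ℂ).injective).1
    rw [eq_ratCast]; exact hy'int
  obtain ⟨k, hk⟩ := IsIntegrallyClosed.isIntegral_iff.1 hint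
  have hpq : (p : ℚ) ≠ 0 := by exact_mod_cast hp.pos.ne'
  have hk' : (k : ℚ) * p = ((m ^ 2 * (p - 1) : ℕ) : ℚ) := by
    rw [show (k : ℚ) = algebraMap ℤ ℚ k from rfl, hk]; field_simp
  have hk'' : k * (p : ℤ) = ((m ^ 2 * (p - 1) : ℕ) : ℤ) := by exact_mod_cast hk'
  have hdvd : (p : ℤ) ∣ ((m ^ 2 * (p - 1) : ℕ) : ℤ) := ⟨k, by rw [← hk'']; ring⟩
  have hdvd' : p ∣ m ^ 2 * (p - 1) := Int.natCast_dvd_natCast.1 hdvd
  rcases (Nat.Prime.dvd_mul hp).1 hdvd' with h1 | h1
  · exact h.hpm (hp.dvd_of_dvd_pow h1)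
  · have h2 := Nat.le_of_dvd (by have := hp.two_le; omega) h1
    have h3 := hp.two_le
    omega

end StepData

/-- **The inductive step.** -/
theorem char_pow_step [Fintype G] {χ : G → ℂ} (hχ : IsIrrCharacter G χ) {p m j e d : ℕ}
    (hp : p.Prime) (hcard : Nat.card G = p ^ (j + e) * m) (hpm : ¬ p ∣ m) (hj : 1 ≤ j)
    (he : 1 ≤ e) (hdeg : χ 1 = (d : ℂ)) (hd : p ^ e ∣ d)
    (hinv : ∀ s g, χ (g ^ (1 + m * p ^ (j + 1) * s)) = χ g) :
    ∀ s g, χ (g ^ (1 + m * p ^ j * s)) = χ g := by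
  by_contra hneg
  exact StepData.false ⟨hχ, hp, hcard, hpm, hj, he, hdeg, hd, hinv, hneg⟩

/-- If `|G| = p^a m`, `p ∤ m`, and `p^e ∣ χ(1)` with `j + e = a`, `j ≥ 1`, then the irreducible
character `χ` is invariant under the power maps `g ↦ g ^ (1 + m p^j s)`: its values lie in the
`m p^j`-th cyclotomic field. -/
theorem char_pow_invariant [Fintype G] {χ : G → ℂ} (hχ : IsIrrCharacter G χ) {p m a d : ℕ}
    (hp : p.Prime) (hcard : Nat.card G = p ^ a * m) (hpm : ¬ p ∣ m) (hdeg : χ 1 = (d : ℂ)) :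
    ∀ e j : ℕ, j + e = a → 1 ≤ j → p ^ e ∣ d → ∀ s g, χ (g ^ (1 + m * p ^ j * s)) = χ g := by
  intro e
  induction e with
  | zero =>
    intro j hja _ _ s g
    rw [pow_add, pow_one,
      show m * p ^ j * s = Nat.card G * s by rw [hcard, ← hja]; ring,
      pow_mul, pow_card_eq_one', one_pow, mul_one]
  | succ e ih =>
    intro j hja hj hd s g
    have hinv := ih (j + 1) (by omega) (by omega) ((pow_dvd_pow p (Nat.le_succ e)).trans hd)
    exact char_pow_step hχ hp (by rw [hja]; exact hcard) hpm hj (by omega) hdeg hd hinv s g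

end Cfsg.Agent.Lib.helper20
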