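import Mathlib
import Cfsg.Prelude.Def_Blocks
import Cfsg.Agent.Lib.helper20.PConj4

/-!
# Field of values and `p`-conjugates (helper20)

`ringEquiv_fix_char`: if `p^(a-c) ∣ χ(1)` (`p^a` the `p`-part of `|G|`, `c ≥ 1`), every
automorphism of `ℂ` fixing the `|G|_{p'}`-th and the `p^c`-th roots of unity fixes `χ`.
`pconj_count`: the number `r` of `p`-conjugates of `χ` satisfies `(r χ(1))_p ≤ |G|_p`, and
`|G|_p ∣ r χ(1)` forces `|G|_p ∣ χ(1)`.
-/

namespace Cfsg.Agent.Lib.helper20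

open Cfsg Finset

universe u

variable {G : Type u} [Group G]

theorem modEq_of_primitiveRoot_pow_eq {ζ : ℂ} {k : ℕ} (hk : 0 < k) (hζ : IsPrimitiveRoot ζ k)
    {u v : ℕ} (h : ζ ^ u = ζ ^ v) : u ≡ v [MOD k] := by
  have ho : orderOf ζ = k := hζ.eq_orderOf.symm
  apply hζ.pow_inj (Nat.mod_lt _ hk) (Nat.mod_lt _ hk)
  have h1 := pow_mod_orderOf ζ u
  have h2 := pow_mod_orderOf ζ v
  rw [ho] at h1 h2
  rw [h1, h2]; exact h

theorem ringEquiv_fix_char [Finite G] {χ : G → ℂ} (hχ : IsIrrCharacter G χ) {p : ℕ}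
    (hp : p.Prime) (c : ℕ) (hc : 1 ≤ c) (d : ℕ) (hdeg : χ 1 = (d : ℂ))
    (hd : p ^ ((Nat.card G).factorization p - c) ∣ d) (σ : ℂ ≃+* ℂ)
    (hσm : σ (Complex.exp (2 * Real.pi * Complex.I
        / ((Nat.card G / p ^ (Nat.card G).factorization p : ℕ) : ℂ)))
      = Complex.exp (2 * Real.pi * Complex.I
        / ((Nat.card G / p ^ (Nat.card G).factorization p : ℕ) : ℂ)))
    (hσp : σ (Complex.exp (2 * Real.pi * Complex.I / ((p ^ c : ℕ) : ℂ)))
      = Complex.exp (2 * Real.pi * Complex.I / ((p ^ c : ℕ) : ℂ))) (g : G) :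
    σ (χ g) = χ g := by
  let _ := Fintype.ofFinite G
  have hn : 0 < Nat.card G := Nat.card_pos
  obtain ⟨a, ha⟩ : ∃ a, a = (Nat.card G).factorization p := ⟨_, rfl⟩
  obtain ⟨m, hm⟩ : ∃ m, m = Nat.card G / p ^ (Nat.card G).factorization p := ⟨_, rfl⟩
  rw [← hm] at hσm
  rw [← ha] at hd
  have hcard : Nat.card G = p ^ a * m := by
    rw [ha, hm]; exact (Nat.ordProj_mul_ordCompl_eq_self _ p).symm
  have hpm : ¬ p ∣ m := by rw [hm]; exact Nat.not_dvd_ordCompl hp hn.ne'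
  have hm0 : 0 < m := by
    rcases Nat.eq_zero_or_pos m with h0 | h0
    · rw [h0, mul_zero] at hcard; omega
    · exact h0
  obtain ⟨u, hucop, hu⟩ :=
    Cfsg.Agent.Lib.helper79.exists_pow_of_ringHom_rootsOfUnity (σ : ℂ →+* ℂ) (Nat.card G) hn
  have hσχ : σ (χ g) = χ (g ^ u) :=
    Cfsg.Agent.Lib.helper79.ringHom_character_eq_character_pow (σ : ℂ →+* ℂ) (Nat.card G) u
      hn.ne' hu (isCharacter_of_isIrrCharacter hχ) g pow_card_eq_one'
  rw [hσχ]
  -- `u ≡ 1 [MOD m]`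
  have hζm := Complex.isPrimitiveRoot_exp m hm0.ne'
  have hζm_n : (Complex.exp (2 * Real.pi * Complex.I / (m : ℂ))) ^ Nat.card G = 1 := by
    obtain ⟨q, hq⟩ : m ∣ Nat.card G := ⟨p ^ a, by rw [hcard]; ring⟩
    rw [hq, pow_mul, hζm.pow_eq_one, one_pow]
  have e1 := hu _ hζm_n
  have h1 : u ≡ 1 [MOD m] := by
    apply modEq_of_primitiveRoot_pow_eq hm0 hζm
    rw [pow_one, ← e1]
    exact hσm
  -- `u ≡ 1 [MOD p ^ j]`, `j = min c a`
  obtain ⟨j, hj⟩ : ∃ j, j = min c a := ⟨_, rfl⟩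
  have hζp := Complex.isPrimitiveRoot_exp (p ^ c) (pow_pos hp.pos c).ne'
  have hξ : IsPrimitiveRoot
      (Complex.exp (2 * Real.pi * Complex.I / ((p ^ c : ℕ) : ℂ)) ^ (p ^ (c - j))) (p ^ j) :=
    IsPrimitiveRoot.pow (pow_pos hp.pos c) hζp (by rw [← pow_add]; congr 1; omega)
  have hξ_n : (Complex.exp (2 * Real.pi * Complex.I / ((p ^ c : ℕ) : ℂ)) ^ (p ^ (c - j)))
      ^ Nat.card G = 1 := by
    obtain ⟨q, hq⟩ : p ^ j ∣ Nat.card G := by
      rw [hcard]; exact Dvd.dvd.mul_right (pow_dvd_pow p (by omega)) m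
    rw [hq, pow_mul, hξ.pow_eq_one, one_pow]
  have e2 := hu _ hξ_n
  have h2 : u ≡ 1 [MOD p ^ j] := by
    apply modEq_of_primitiveRoot_pow_eq (pow_pos hp.pos j) hξ
    rw [pow_one, ← e2]
    show σ (Complex.exp (2 * Real.pi * Complex.I / ((p ^ c : ℕ) : ℂ)) ^ (p ^ (c - j))) = _
    rw [map_pow, hσp]
  have hcop : Nat.Coprime m (p ^ j) :=
    (((Nat.Prime.coprime_iff_not_dvd hp).2 hpm).pow_left j).symm
  have h3 : u ≡ 1 [MOD m * p ^ j] := (Nat.modEq_and_modEq_iff_modEq_mul hcop).1 ⟨h1, h2⟩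
  rcases le_or_gt a c with hac | hac
  · have hja : j = a := by omega
    have h4 : u % Nat.card G = 1 % Nat.card G := by
      rw [hcard, mul_comm, ← hja]; exact h3
    rw [← pow_mod_natCard, h4, pow_mod_natCard, pow_one]
  · have hjc : j = c := by omega
    rw [hjc] at h3
    have hinv := char_pow_invariant hχ hp hcard hpm hdeg (a - c) c (by omega) hc hd
    have h5 : 1 < m * p ^ c := by
      have h5 : 2 ≤ p := hp.two_le
      have h6 : p ≤ p ^ c := Nat.le_self_pow (by omega) p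
      nlinarith
    have h6 : m * p ^ c ∣ Nat.card G := by
      rw [hcard]
      exact ⟨p ^ (a - c), by rw [mul_comm (p ^ a) m, mul_assoc, ← pow_add]; congr 2; omega⟩
    have := char_pow_congr χ (m * p ^ c) h5 h6 hinv 1 u (Nat.coprime_one_left _) h3.symm g
    rw [pow_one] at this
    exact this.symm

theorem pconj_count [Finite G] (p : ℕ) (hp : p.Prime) (χ : IrrCharacter G) (z : ℂ)
    (hz : z = Complex.exp (2 * Real.pi * Complex.I
        / ((Nat.card G / p ^ (Nat.card G).factorization p : ℕ) : ℂ))) (r : ℕ)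
    (hr : Nat.card {ψ : IrrCharacter G // ∃ σ : ℂ ≃+* ℂ, σ z = z
      ∧ (ψ : G → ℂ) = fun g => σ ((χ : G → ℂ) g)} = r) :
    (r * charDegree (χ : G → ℂ)).factorization p ≤ (Nat.card G).factorization p
      ∧ (p ^ (Nat.card G).factorization p ∣ r * charDegree (χ : G → ℂ)
        → p ^ (Nat.card G).factorization p ∣ charDegree (χ : G → ℂ)) := by
  classical
  let _ := Fintype.ofFinite G
  have hn : 0 < Nat.card G := Nat.card_pos
  obtain ⟨a, ha⟩ : ∃ a, a = (Nat.card G).factorization p := ⟨_, rfl⟩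
  obtain ⟨d, hd⟩ : ∃ d, d = charDegree (χ : G → ℂ) := ⟨_, rfl⟩
  have hd0 : 0 < d := by rw [hd]; exact Cfsg.Agent.Lib.helper81.irr_charDegree_pos χ
  have hdn : d ∣ Nat.card G := by rw [hd]; exact Cfsg.Agent.Lib.helper81.irr_degree_dvd_card χ
  have hdeg : (χ : G → ℂ) 1 = (d : ℂ) := by
    rw [hd]; exact Cfsg.Agent.Lib.helper81.irr_one_eq_charDegree χ
  obtain ⟨ed, hed⟩ : ∃ ed, ed = d.factorization p := ⟨_, rfl⟩
  have hed_le : ed ≤ a := by
    rw [hed, ha]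
    exact (Nat.factorization_le_iff_dvd hd0.ne' hn.ne').2 hdn p
  have hedd : p ^ ed ∣ d := by rw [hed]; exact Nat.ordProj_dvd d p
  obtain ⟨c, hc⟩ : ∃ c, c = max 1 (a - ed) := ⟨_, rfl⟩
  have hc1 : 1 ≤ c := by omega
  have hpd : p ^ ((Nat.card G).factorization p - c) ∣ d := by
    rw [← ha]; exact (pow_dvd_pow p (by omega)).trans hedd
  have hξ := Complex.isPrimitiveRoot_exp (p ^ c) (pow_pos hp.pos c).ne'
  have hpc1 : 1 < p ^ c := Nat.one_lt_pow (by omega) hp.one_lt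
  have hNZ : NeZero (p ^ c) := ⟨(pow_pos hp.pos c).ne'⟩
  obtain ⟨ξ, hξdef⟩ : ∃ ξ : ℂ, ξ = Complex.exp (2 * Real.pi * Complex.I / ((p ^ c : ℕ) : ℂ)) :=
    ⟨_, rfl⟩
  rw [← hξdef] at hξ
  obtain ⟨S, hS⟩ : ∃ S : Set (IrrCharacter G), S = {ψ : IrrCharacter G | ∃ σ : ℂ ≃+* ℂ, σ z = z
      ∧ (ψ : G → ℂ) = fun g => σ ((χ : G → ℂ) g)} := ⟨_, rfl⟩
  have hr' : Nat.card S = r := by rw [hS]; exact hr
  have hex : ∀ ψ : S, ∃ (σ : ℂ ≃+* ℂ) (i : ℕ), σ z = z
      ∧ ((ψ : IrrCharacter G) : G → ℂ) = (fun g => σ ((χ : G → ℂ) g))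
      ∧ 1 ≤ i ∧ i < p ^ c ∧ ξ ^ i = σ ξ := by
    rintro ⟨ψ, hψS⟩
    rw [hS] at hψS
    obtain ⟨σ, hσ, hψ⟩ := hψS
    have h1 : (σ ξ) ^ (p ^ c) = 1 := by rw [← map_pow, hξ.pow_eq_one, map_one]
    obtain ⟨i, hi, hi'⟩ := hξ.eq_pow_of_pow_eq_one h1
    refine ⟨σ, i, hσ, hψ, ?_, hi, hi'⟩
    by_contra h0
    have hi0 : i = 0 := by omega
    rw [hi0, pow_zero] at hi'
    have h2 : σ ξ = σ 1 := by rw [← hi', map_one]
    exact hξ.ne_one hpc1 (σ.injective h2)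
  choose σ i hσm hψ hi1 hilt hiξ using hex
  let F : S → Fin (p ^ c - 1) := fun ψ =>
    ⟨i ψ - 1, by have := hi1 ψ; have := hilt ψ; omega⟩
  have hF : Function.Injective F := by
    intro ψ ψ' hFF
    have hii : i ψ = i ψ' := by
      have h1 : i ψ - 1 = i ψ' - 1 := congrArg Fin.val hFF
      have := hi1 ψ
      have := hi1 ψ'
      omega
    have hσξ : σ ψ ξ = σ ψ' ξ := by rw [← hiξ, ← hiξ, hii]
    have hfix : ∀ g, ((σ ψ).trans (σ ψ').symm) ((χ : G → ℂ) g) = (χ : G → ℂ) g := by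
      intro g
      apply ringEquiv_fix_char χ.2 hp c hc1 d hdeg hpd ((σ ψ).trans (σ ψ').symm)
      · rw [← hz]
        show (σ ψ').symm (σ ψ z) = z
        rw [hσm ψ, RingEquiv.symm_apply_eq, hσm ψ']
      · rw [← hξdef]
        show (σ ψ').symm (σ ψ ξ) = ξ
        rw [hσξ, RingEquiv.symm_apply_apply]
    apply Subtype.ext
    apply Subtype.ext
    rw [hψ ψ, hψ ψ']
    funext g
    have h3 : (σ ψ').symm (σ ψ ((χ : G → ℂ) g)) = (χ : G → ℂ) g := hfix g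
    exact (RingEquiv.symm_apply_eq _).1 h3
  have hfin : Finite S := Finite.of_injective F hF
  have hne : Nonempty S := ⟨⟨χ, by rw [hS]; exact ⟨RingEquiv.refl ℂ, rfl, rfl⟩⟩⟩
  have hr_pos : 0 < r := by rw [← hr']; exact Nat.card_pos
  have hr_lt : r < p ^ c := by
    have h1 := Nat.card_le_card_of_injective F hF
    rw [hr', Nat.card_fin] at h1
    have := pow_pos hp.pos c
    omega
  have hvr : r.factorization p < c := by
    have h1 : p ^ (r.factorization p) ≤ r := Nat.le_of_dvd hr_pos (Nat.ordProj_dvd r p)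
    exact (Nat.pow_lt_pow_iff_right hp.one_lt).1 (lt_of_le_of_lt h1 hr_lt)
  have hfac : (r * d).factorization p = r.factorization p + ed := by
    rw [Nat.factorization_mul hr_pos.ne' hd0.ne', Finsupp.add_apply, hed]
  rw [← hd, ← ha]
  constructor
  · rw [hfac]; omega
  · intro hdiv
    have h1 : a ≤ (r * d).factorization p :=
      (Nat.Prime.pow_dvd_iff_le_factorization hp (Nat.mul_ne_zero hr_pos.ne' hd0.ne')).1 hdiv
    rw [hfac] at h1
    have h2 : a ≤ ed := by omega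
    exact (pow_dvd_pow p h2).trans hedd

end Cfsg.Agent.Lib.helper20
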