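import Mathlib
import Cfsg.Agent.Lib.helper20.NormalIdem
import Cfsg.Agent.Lib.helper20.Osima
import Cfsg.Agent.Lib.helper81.Blocks
import Cfsg.Agent.Lib.helper81.CharOrtho
import Cfsg.Agent.Lib.helper27.AxB
import Cfsg.Agent.Lib.helper65.MetaInv
import Cfsg.Agent.Lib.helper3.PGroupFrattini

/-!
# Blocks and quotients by normal `p`-subgroups (helper20)

* `exists_mem_block_trivial_on`: for a normal `p`-subgroup `K`, every block contains a character
  with `K` in its kernel;
* `centralizes_of_coprime_of_commutator_mem`: a `p'`-element acting trivially on `D / D'`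
  (`D ⊴ G` a `p`-group) centralizes `D`;
* `index_centralizer_quotient_eq`: for a normal `p`-subgroup `N` and a `p'`-element `g`
  centralizing `N`, the class of `g` and of its image in `G ⧸ N` have the same size.
-/

set_option autoImplicit false
open Cfsg

namespace Cfsg.Agent.Lib.helper20

open Cfsg.Agent.Lib.helper81 (irr_classFun irr_one_ne_zero irr_one_eq_charDegree)
open scoped ComplexConjugate commutatorElement

universe u

/-- For a normal `p`-subgroup `K`, every block contains a character with `K` in its kernel. -/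
theorem exists_mem_block_trivial_on {G : Type u} [Group G] [Fintype G] {p : ℕ}
    [Fact p.Prime] {M : Ideal AlgInt} (hM : IsPModular p M) {B : Set (IrrCharacter G)}
    (hB : IsPBlock M B) (K : Subgroup G) [K.Normal] (hK : IsPGroup p K) :
    ∃ θ ∈ B, ∀ n ∈ K, (θ : G → ℂ) n = (θ : G → ℂ) 1 := by
  classical
  by_contra hcon
  push Not at hcon
  have hp : p.Prime := Fact.out
  have hK0 : (Nat.card K : ℂ)⁻¹ ≠ 0 := inv_ne_zero (Nat.cast_ne_zero.2 Nat.card_pos.ne')
  have hsumK : ∀ θ ∈ B, ∑ g ∈ Finset.univ.filter (fun g : G => g ∈ K), (θ : G → ℂ) g = 0 := by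
    intro θ hθ
    rcases omega_normIdem_eq_zero_or_one K (θ : G → ℂ) θ.2 with h0 | h1
    · rw [omega_normIdem] at h0
      rcases div_eq_zero_iff.1 h0 with h | h
      · rcases mul_eq_zero.1 h with h | h
        · exact absurd h hK0
        · exact h
      · exact absurd h (irr_one_ne_zero θ)
    · exfalso
      obtain ⟨n, hn, hne⟩ := hcon θ hθ
      exact hne (eq_one_of_omega_normIdem K θ h1 n hn)
  -- the sum of the block idempotent coefficients over `K`
  have h1 : ∑ x ∈ Finset.univ.filter (fun x : G => x ∈ K), blockCoeff B x = 0 := by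
    simp_rw [helper81.blockCoeff_eq_sum]
    rw [← Finset.mul_sum, Finset.sum_comm]
    apply mul_eq_zero_of_right
    apply Finset.sum_eq_zero
    intro θ _
    by_cases hθ : θ ∈ B
    · simp_rw [if_pos hθ]
      rw [← Finset.mul_sum, ← map_sum, hsumK θ hθ, map_zero, mul_zero]
    · simp_rw [if_neg hθ]
      exact Finset.sum_const_zero
  have h2 : ∑ x ∈ Finset.univ.filter (fun x : G => x ∈ K), blockCoeff B x = blockCoeff B 1 := by
    apply Finset.sum_eq_single 1
    · intro x hx hx1
      have hxK : x ∈ K := (Finset.mem_filter.1 hx).2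
      apply blockCoeff_eq_zero_of_singular hM hB x
      obtain ⟨k, hk⟩ := hK ⟨x, hxK⟩
      have hk' : x ^ p ^ k = 1 := by
        have := congrArg (fun y : K => (y : G)) hk
        simpa using this
      obtain ⟨j, _, hj⟩ := (Nat.dvd_prime_pow hp).1 (orderOf_dvd_of_pow_eq_one hk')
      rcases Nat.eq_zero_or_pos j with h0 | hpos
      · rw [h0, pow_zero] at hj
        exact absurd (orderOf_eq_one_iff.1 hj) hx1
      · rw [hj]; exact dvd_pow_self p hpos.ne'
    · intro h
      exact absurd (Finset.mem_filter.2 ⟨Finset.mem_univ _, K.one_mem⟩) h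
  rw [h2] at h1
  rw [helper81.blockCoeff_eq_sum] at h1
  have hG0 : (Nat.card G : ℂ)⁻¹ ≠ 0 := inv_ne_zero (Nat.cast_ne_zero.2 Nat.card_pos.ne')
  have hsum0 := (mul_eq_zero.1 h1).resolve_left hG0
  obtain ⟨χ₀, hχ₀⟩ := helper81.isPBlock_nonempty (isPrime_of_isPModular hM) hB
  have hrew : (∑ χ : IrrCharacter G, if χ ∈ B then (χ : G → ℂ) 1 * conj ((χ : G → ℂ) 1) else 0)
      = ((∑ χ : IrrCharacter G, if χ ∈ B then charDegree (χ : G → ℂ) ^ 2 else 0 : ℕ) : ℂ) := by
    rw [Nat.cast_sum]
    apply Finset.sum_congr rfl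
    intro χ _
    by_cases hχ : χ ∈ B
    · rw [if_pos hχ, if_pos hχ, irr_one_eq_charDegree, Complex.conj_natCast]
      push_cast; ring
    · rw [if_neg hχ, if_neg hχ, Nat.cast_zero]
  rw [hrew] at hsum0
  have hsum0' := Nat.cast_eq_zero.1 hsum0
  have hle : charDegree (χ₀ : G → ℂ) ^ 2 ≤
      ∑ χ : IrrCharacter G, if χ ∈ B then charDegree (χ : G → ℂ) ^ 2 else 0 := by
    have := Finset.single_le_sum (f := fun χ : IrrCharacter G =>
      if χ ∈ B then charDegree (χ : G → ℂ) ^ 2 else 0) (fun _ _ => Nat.zero_le _)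
      (Finset.mem_univ χ₀)
    simpa [hχ₀] using this
  have hd0 : charDegree (χ₀ : G → ℂ) ≠ 0 := by
    intro h
    have := irr_one_eq_charDegree χ₀
    rw [h, Nat.cast_zero] at this
    exact irr_one_ne_zero χ₀ this
  have : 0 < charDegree (χ₀ : G → ℂ) ^ 2 := by positivity
  omega

/-- A `p'`-element acting trivially on `D / D'`, for a normal `p`-subgroup `D`, centralizes
`D`. -/
theorem centralizes_of_coprime_of_commutator_mem {G : Type u} [Group G] [Finite G] {p : ℕ}
    [Fact p.Prime] (D : Subgroup G) [D.Normal] (hD : IsPGroup p D) (x : G)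
    (hx : (orderOf x).Coprime p) (h : ∀ d ∈ D, x * d * x⁻¹ * d⁻¹ ∈ ⁅D, D⁆) :
    ∀ d ∈ D, x * d = d * x := by
  have hβ : (MulAut.conjNormal x : MulAut D) ^ orderOf x = 1 := by
    rw [← map_pow, pow_orderOf_eq_one, map_one]
  have hfr : ∀ d : D, (MulAut.conjNormal x : MulAut D) d * d⁻¹ ∈ frattini D := by
    intro d
    apply helper3.commutator_le_frattini hD
    have h1 := h d d.2
    rw [← Subgroup.map_subtype_commutator] at h1
    obtain ⟨c, hc, hcc⟩ := h1
    have hcc' : (c : G) = x * d * x⁻¹ * (d : G)⁻¹ := hcc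
    have : c = (MulAut.conjNormal x : MulAut D) d * d⁻¹ := by
      apply Subtype.ext
      rw [hcc']
      simp [MulAut.conjNormal_apply]
    rw [← this]
    exact hc
  have h1 := helper65.mulAut_eq_one_of_coprime_trivial_mod_frattini hD
    (MulAut.conjNormal x : MulAut D) (orderOf x) hx hβ hfr
  intro d hd
  have h2 := congrArg (fun β : MulAut D => ((β ⟨d, hd⟩ : D) : G)) h1
  simp only [MulAut.conjNormal_apply, MulAut.one_apply] at h2
  calc x * d = (x * d * x⁻¹) * x := by group
    _ = d * x := by rw [h2]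

/-- For a normal `p`-subgroup `N` and a `p'`-element `g` centralizing `N`, the centralizer of
the image of `g` in `G ⧸ N` is the image of the centralizer of `g`; the class sizes agree. -/
theorem index_centralizer_quotient_eq {G : Type u} [Group G] [Finite G] {p : ℕ}
    [Fact p.Prime] (N : Subgroup G) [N.Normal] (hN : IsPGroup p N) (g : G)
    (hg : (orderOf g).Coprime p) (hgN : ∀ n ∈ N, g * n = n * g) :
    (Subgroup.centralizer ({(g : G ⧸ N)} : Set (G ⧸ N))).index =
      (Subgroup.centralizer ({g} : Set G)).index := by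
  have hmap : Subgroup.centralizer ({(g : G ⧸ N)} : Set (G ⧸ N)) =
      (Subgroup.centralizer ({g} : Set G)).map (QuotientGroup.mk' N) := by
    ext q
    constructor
    · intro hq
      obtain ⟨h, rfl⟩ := QuotientGroup.mk_surjective q
      rw [Subgroup.mem_centralizer_singleton_iff] at hq
      have hc : ⁅h, g⁆ ∈ N := by
        rw [← QuotientGroup.eq_one_iff]
        rw [commutatorElement_def]
        rw [QuotientGroup.mk_mul, QuotientGroup.mk_mul, QuotientGroup.mk_mul,
          QuotientGroup.mk_inv, QuotientGroup.mk_inv, hq]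
        group
      have hc1 : ⁅h, g⁆ = 1 := by
        apply helper27.commutatorElement_eq_one_of_coprime (p := p) _ hg
        · exact (hgN _ hc).symm
        · obtain ⟨k, hk⟩ := hN ⟨⁅h, g⁆, hc⟩
          refine ⟨k, ?_⟩
          have := congrArg (fun y : N => (y : G)) hk
          simpa using this
      exact ⟨h, Subgroup.mem_centralizer_singleton_iff.2
        (commutatorElement_eq_one_iff_mul_comm.1 hc1), rfl⟩
    · rintro ⟨h, hh, rfl⟩
      have hh' := Subgroup.mem_centralizer_singleton_iff.1 hh
      rw [Subgroup.mem_centralizer_singleton_iff]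
      show (QuotientGroup.mk h : G ⧸ N) * (QuotientGroup.mk g) =
        QuotientGroup.mk g * QuotientGroup.mk h
      rw [← QuotientGroup.mk_mul, ← QuotientGroup.mk_mul, hh']
  have hker : (QuotientGroup.mk' N).ker ≤ Subgroup.centralizer ({g} : Set G) := by
    rw [QuotientGroup.ker_mk']
    intro n hn
    exact Subgroup.mem_centralizer_singleton_iff.2 (hgN n hn).symm
  rw [hmap]
  exact Subgroup.index_map_eq (Subgroup.centralizer ({g} : Set G))
    (QuotientGroup.mk'_surjective N) hker

end Cfsg.Agent.Lib.helper20
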