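import Mathlib
import Cfsg.Agent.Lib.helper20.QuotBlock
import Cfsg.Agent.Lib.helper20.PrincipalIdem
import Cfsg.Agent.Lib.helper82.CharQuot
import Cfsg.Agent.Lib.helper81.PrincipalQuot
import Cfsg.Agent.Lib.helper80.BlockIdem
import Cfsg.Agent.Lib.helper80.DefectGroup
import Cfsg.Agent.Lib.helper80.FMT

/-!
# Blocks of a quotient inside a block (helper20)

* `inflIrr N ψ`: the inflation of an irreducible character of `G ⧸ N`;
* `inflSet N B`: the irreducible characters of `G ⧸ N` whose inflation lies in `B`;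
* `sum_subgroup_irr_mul`: `∑_{n ∈ N} χ (n g)` is `|N| χ g` or `0` according as `N ≤ ker χ` or not;
* `blockCoeff_inflSet`: the idempotent coefficient of `inflSet N B` at the image of `x` is the sum
  of the coefficients of `B` over the coset `N x`;
* `inflSet_eq_iUnion`: `inflSet N B` is a union of blocks of `G ⧸ N`;
* `exists_block_quotient`: for a normal `p`-subgroup `N`, a block `B̄ ⊆ B` of `G ⧸ N` whose defect
  groups are the images of those of `B`.
-/

set_option autoImplicit false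
open Cfsg

namespace Cfsg.Agent.Lib.helper20

open Cfsg.Agent.Lib.helper81 (irr_classFun irr_one_ne_zero irr_one_eq_charDegree)
open scoped ComplexConjugate

universe u

open scoped Classical in
/-- `∑_{n ∈ N} χ (n g)` is `|N| χ g` if `N ≤ ker χ` and `0` otherwise. -/
theorem sum_subgroup_irr_mul {G : Type u} [Group G] [Fintype G] (N : Subgroup G) [N.Normal]
    (χ : IrrCharacter G) (g : G) :
    ∑ n ∈ Finset.univ.filter (fun n : G => n ∈ N), (χ : G → ℂ) (n * g) =
      if (∀ n ∈ N, (χ : G → ℂ) n = (χ : G → ℂ) 1) then (Nat.card N : ℂ) * (χ : G → ℂ) g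
      else 0 := by
  have hN0 : (Nat.card N : ℂ) ≠ 0 := Nat.cast_ne_zero.2 Nat.card_pos.ne'
  have h := sum_coeff_mul_irr_shift χ (normIdem N) (isCentralElt_normIdem N) g
  simp_rw [coeff_normIdem, ite_mul, zero_mul] at h
  rw [← Finset.sum_filter, ← Finset.mul_sum] at h
  have h' : ∑ n ∈ Finset.univ.filter (fun n : G => n ∈ N), (χ : G → ℂ) (n * g) =
      (Nat.card N : ℂ) * (omega (χ : G → ℂ) (normIdem N) * (χ : G → ℂ) g) := by
    rw [← h, ← mul_assoc, mul_inv_cancel₀ hN0, one_mul]
  rw [h']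
  by_cases hk : ∀ n ∈ N, (χ : G → ℂ) n = (χ : G → ℂ) 1
  · rw [if_pos hk, omega_normIdem_of_ker N _ (irr_one_ne_zero χ) hk, one_mul]
  · rw [if_neg hk]
    rcases omega_normIdem_eq_zero_or_one N (χ : G → ℂ) χ.2 with h0 | h1
    · rw [h0, zero_mul, mul_zero]
    · exact absurd (eq_one_of_omega_normIdem N χ h1) hk

/-- The inflation of an irreducible character of `G ⧸ N`. -/
noncomputable def inflIrr {G : Type u} [Group G] [Finite G] (N : Subgroup G) [N.Normal]
    (ψ : IrrCharacter (G ⧸ N)) : IrrCharacter G :=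
  ((helper82.irrQuotEquiv N).symm ψ).1

theorem inflIrr_apply {G : Type u} [Group G] [Finite G] (N : Subgroup G) [N.Normal]
    (ψ : IrrCharacter (G ⧸ N)) (g : G) :
    (inflIrr N ψ : G → ℂ) g = (ψ : G ⧸ N → ℂ) (g : G ⧸ N) :=
  helper82.irrQuotEquiv_symm_apply N ψ g

theorem inflIrr_ker {G : Type u} [Group G] [Finite G] (N : Subgroup G) [N.Normal]
    (ψ : IrrCharacter (G ⧸ N)) : ∀ n ∈ N, (inflIrr N ψ : G → ℂ) n = (inflIrr N ψ : G → ℂ) 1 :=
  ((helper82.irrQuotEquiv N).symm ψ).2

theorem inflIrr_eq_of_coe {G : Type u} [Group G] [Finite G] (N : Subgroup G) [N.Normal]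
    (ψ : IrrCharacter (G ⧸ N)) (χ : IrrCharacter G)
    (h : (χ : G → ℂ) = (ψ : G ⧸ N → ℂ) ∘ QuotientGroup.mk) : χ = inflIrr N ψ := by
  apply Subtype.ext
  funext g
  rw [inflIrr_apply, h]
  rfl

/-- The irreducible characters of `G ⧸ N` whose inflation lies in `B`. -/
def inflSet {G : Type u} [Group G] [Finite G] (N : Subgroup G) [N.Normal]
    (B : Set (IrrCharacter G)) : Set (IrrCharacter (G ⧸ N)) :=
  {ψ | inflIrr N ψ ∈ B}

open scoped Classical in
/-- The idempotent coefficient of `inflSet N B` at the image of `x` is the sum of the coefficients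
of `B` over the coset `N x`. -/
theorem blockCoeff_inflSet {G : Type u} [Group G] [Fintype G] (N : Subgroup G) [N.Normal]
    (B : Set (IrrCharacter G)) (x : G) :
    blockCoeff (inflSet N B) (x : G ⧸ N) =
      ∑ n ∈ Finset.univ.filter (fun n : G => n ∈ N), blockCoeff B (n * x) := by
  let _ : Fintype (G ⧸ N) := Fintype.ofFinite _
  have hN0 : (Nat.card N : ℂ) ≠ 0 := Nat.cast_ne_zero.2 Nat.card_pos.ne'
  have hG0 : (Nat.card G : ℂ) ≠ 0 := Nat.cast_ne_zero.2 Nat.card_pos.ne'
  have hQ0 : (Nat.card (G ⧸ N) : ℂ) ≠ 0 := Nat.cast_ne_zero.2 Nat.card_pos.ne'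
  have hcard : (Nat.card G : ℂ) = (Nat.card (G ⧸ N) : ℂ) * (Nat.card N : ℂ) := by
    rw [← Nat.cast_mul, ← Subgroup.card_eq_card_quotient_mul_card_subgroup N]
  -- left side
  rw [helper80.blockCoeff_eq_sum]
  have hL : (∑ ψ : IrrCharacter (G ⧸ N), if ψ ∈ inflSet N B then
        (ψ : G ⧸ N → ℂ) 1 * conj ((ψ : G ⧸ N → ℂ) (x : G ⧸ N)) else 0) =
      ∑ χ : IrrCharacter G, if (∀ n ∈ N, (χ : G → ℂ) n = (χ : G → ℂ) 1) then
        (if χ ∈ B then (χ : G → ℂ) 1 * conj ((χ : G → ℂ) x) else 0) else 0 := by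
    rw [← Equiv.sum_comp (helper82.irrQuotEquiv N)]
    have hsub : (∑ χ : IrrCharacter G, if (∀ n ∈ N, (χ : G → ℂ) n = (χ : G → ℂ) 1) then
          (if χ ∈ B then (χ : G → ℂ) 1 * conj ((χ : G → ℂ) x) else 0) else 0) =
        ∑ χ : {χ : IrrCharacter G // ∀ n ∈ N, (χ : G → ℂ) n = (χ : G → ℂ) 1},
          (if χ.1 ∈ B then (χ.1 : G → ℂ) 1 * conj ((χ.1 : G → ℂ) x) else 0) := by
      rw [← Finset.sum_filter]
      exact Finset.sum_subtype
        (p := fun χ : IrrCharacter G => ∀ n ∈ N, (χ : G → ℂ) n = (χ : G → ℂ) 1)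
        (Finset.univ.filter
          (fun χ : IrrCharacter G => ∀ n ∈ N, (χ : G → ℂ) n = (χ : G → ℂ) 1))
        (fun χ => by simp)
        (fun χ : IrrCharacter G =>
          if χ ∈ B then (χ : G → ℂ) 1 * conj ((χ : G → ℂ) x) else 0)
    rw [hsub]
    apply Finset.sum_congr rfl
    intro χ _
    have h1 : (helper82.irrQuotEquiv N χ ∈ inflSet N B) ↔ χ.1 ∈ B := by
      unfold inflSet inflIrr
      rw [Set.mem_ofPred_eq, Equiv.symm_apply_apply]
    have h2 : (helper82.irrQuotEquiv N χ : G ⧸ N → ℂ) 1 = (χ.1 : G → ℂ) 1 :=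
      helper82.irrQuotEquiv_apply N χ 1
    have h3 : (helper82.irrQuotEquiv N χ : G ⧸ N → ℂ) (x : G ⧸ N) = (χ.1 : G → ℂ) x :=
      helper82.irrQuotEquiv_apply N χ x
    rw [h2, h3]
    by_cases hχ : χ.1 ∈ B
    · rw [if_pos (h1.2 hχ), if_pos hχ]
    · rw [if_neg (fun h => hχ (h1.1 h)), if_neg hχ]
  rw [hL]
  -- right side
  simp_rw [helper80.blockCoeff_eq_sum]
  rw [← Finset.mul_sum, Finset.sum_comm]
  have hR : ∀ χ : IrrCharacter G,
      (∑ n ∈ Finset.univ.filter (fun n : G => n ∈ N),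
        if χ ∈ B then (χ : G → ℂ) 1 * conj ((χ : G → ℂ) (n * x)) else 0) =
      (Nat.card N : ℂ) * (if (∀ n ∈ N, (χ : G → ℂ) n = (χ : G → ℂ) 1) then
        (if χ ∈ B then (χ : G → ℂ) 1 * conj ((χ : G → ℂ) x) else 0) else 0) := by
    intro χ
    by_cases hχ : χ ∈ B
    · simp_rw [if_pos hχ]
      rw [← Finset.mul_sum, ← map_sum, sum_subgroup_irr_mul N χ x]
      by_cases hk : ∀ n ∈ N, (χ : G → ℂ) n = (χ : G → ℂ) 1
      · rw [if_pos hk, if_pos hk, map_mul, Complex.conj_natCast]
        ring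
      · rw [if_neg hk, if_neg hk, map_zero, mul_zero, mul_zero]
    · simp_rw [if_neg hχ]
      rw [Finset.sum_const_zero]
      simp
  simp_rw [hR]
  rw [← Finset.mul_sum, hcard, mul_inv, mul_assoc, ← mul_assoc (Nat.card N : ℂ)⁻¹,
    inv_mul_cancel₀ hN0, one_mul]

/-- `inflSet N B` is closed under the block relation of `G ⧸ N`. -/
theorem blockOf_subset_inflSet {G : Type u} [Group G] [Finite G] {M : Ideal AlgInt}
    (hM : M.IsPrime) (N : Subgroup G) [N.Normal] {B : Set (IrrCharacter G)} (hB : IsPBlock M B)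
    {ψ : IrrCharacter (G ⧸ N)} (hψ : ψ ∈ inflSet N B) :
    blockOf M (ψ : G ⧸ N → ℂ) ⊆ inflSet N B := by
  intro ψ' hψ'
  have h1 : SameBlock M (ψ : G ⧸ N → ℂ) (ψ' : G ⧸ N → ℂ) := hψ'
  have h2 := helper81.sameBlock_inflation hM N h1
  have e1 : (inflIrr N ψ : G → ℂ) = fun g : G => (ψ : G ⧸ N → ℂ) (g : G ⧸ N) :=
    funext (inflIrr_apply N ψ)
  have e2 : (inflIrr N ψ' : G → ℂ) = fun g : G => (ψ' : G ⧸ N → ℂ) (g : G ⧸ N) :=
    funext (inflIrr_apply N ψ')
  rw [← e1, ← e2] at h2
  have hBeq := helper80.eq_blockOf_of_mem hM hB hψ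
  show inflIrr N ψ' ∈ B
  rw [hBeq]
  exact h2

/-- For a normal `p`-subgroup `N`, every block `B` of `G` contains a block of `G ⧸ N` having the
image of a given defect group of `B` as a defect group. -/
theorem exists_block_quotient {G : Type u} [Group G] [Finite G] {p : ℕ} [Fact p.Prime]
    {M : Ideal AlgInt} (hM : IsPModular p M) (N : Subgroup G) [N.Normal] (hN : IsPGroup p N)
    {B : Set (IrrCharacter G)} (hB : IsPBlock M B) {D : Subgroup G}
    (hD : IsDefectGroup p M B D) :
    ∃ Bbar : Set (IrrCharacter (G ⧸ N)), IsPBlock M Bbar ∧ Bbar ⊆ inflSet N B ∧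
      IsDefectGroup p M Bbar (D.map (QuotientGroup.mk' N)) := by
  classical
  cases nonempty_fintype G
  have hp : p.Prime := Fact.out
  have hMp := isPrime_of_isPModular hM
  obtain ⟨x, hx, hS⟩ := (helper80.isDefectGroup_iff p M B D).1 hD
  obtain ⟨hx1, hx2, hx3⟩ := hx
  -- `x` is `p`-regular
  have hxreg : ¬ p ∣ orderOf x := by
    intro h
    apply hx2
    rw [blockCoeff_eq_zero_of_singular hM hB x h]
    exact memLocalIdeal_zero hMp
  have hxcop : (orderOf x).Coprime p := ((Nat.Prime.coprime_iff_not_dvd hp).2 hxreg).symm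
  -- `x` centralizes `N`
  have hND : N ≤ D := helper80.normal_le_defectGroup hM N hN hB hD
  have hxN : ∀ n ∈ N, x * n = n * x := by
    intro n hn
    exact helper80.mem_centralizer_singleton.1 (hS.le (hND hn))
  -- the coefficient of the inflation set
  have hcoef : blockCoeff (inflSet N B) (x : G ⧸ N) = blockCoeff B x := by
    rw [blockCoeff_inflSet]
    rw [Finset.sum_eq_single 1]
    · rw [one_mul]
    · intro n hn hn1
      have hnN : n ∈ N := (Finset.mem_filter.1 hn).2
      apply blockCoeff_eq_zero_of_singular hM hB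
      obtain ⟨k, hk⟩ := hN ⟨n, hnN⟩
      have hk' : n ^ p ^ k = 1 := by
        have := congrArg (fun y : N => (y : G)) hk
        simpa using this
      obtain ⟨j, _, hj⟩ := (Nat.dvd_prime_pow hp).1 (orderOf_dvd_of_pow_eq_one hk')
      have hjpos : 0 < j := by
        rcases Nat.eq_zero_or_pos j with h0 | hpos
        · rw [h0, pow_zero] at hj
          exact absurd (orderOf_eq_one_iff.1 hj) hn1
        · exact hpos
      have hcomm : Commute n x := (hxN n hnN).symm
      have hcop' : (orderOf n).Coprime (orderOf x) := by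
        rw [hj]; exact Nat.Coprime.pow_left j hxcop.symm
      rw [hcomm.orderOf_mul_eq_mul_orderOf_of_coprime hcop', hj]
      exact Dvd.dvd.mul_right (dvd_pow_self p hjpos.ne') _
    · intro h
      exact absurd (Finset.mem_filter.2 ⟨Finset.mem_univ _, N.one_mem⟩) h
  -- decompose into blocks
  set 𝔅 := (helper80.blocks M (G ⧸ N)).filter (fun b => b ⊆ inflSet N B) with h𝔅
  have hunion : (⋃ b ∈ 𝔅, b) = inflSet N B := by
    apply Set.Subset.antisymm
    · intro ψ hψ
      simp only [Set.mem_iUnion] at hψ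
      obtain ⟨b, hb, hψb⟩ := hψ
      exact (Finset.mem_filter.1 hb).2 hψb
    · intro ψ hψ
      simp only [Set.mem_iUnion]
      refine ⟨blockOf M (ψ : G ⧸ N → ℂ), ?_, helper80.mem_blockOf_self hMp ψ⟩
      exact Finset.mem_filter.2 ⟨helper80.mem_blocks.2 (helper80.isPBlock_blockOf M ψ),
        blockOf_subset_inflSet hMp N hB hψ⟩
  have hsum : ∑ b ∈ 𝔅, blockCoeff b (x : G ⧸ N) = blockCoeff B x := by
    rw [helper80.sum_blockCoeff_of_pairwiseDisjoint 𝔅 _ (x : G ⧸ N), hunion, hcoef]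
    intro b hb b' hb' hne
    exact helper80.blocks_disjoint hMp b (Finset.mem_filter.1 hb).1 b'
      (Finset.mem_filter.1 hb').1 hne
  have hex : ∃ b ∈ 𝔅, ¬ MemLocalIdeal M (blockCoeff b (x : G ⧸ N)) := by
    by_contra hcon
    push Not at hcon
    apply hx2
    rw [← hsum]
    exact memLocalIdeal_sum hMp 𝔅 _ hcon
  obtain ⟨Bbar, hBbar𝔅, hBbarx⟩ := hex
  have hBbar : IsPBlock M Bbar := helper80.mem_blocks.1 (Finset.mem_filter.1 hBbar𝔅).1
  have hBsub : Bbar ⊆ inflSet N B := (Finset.mem_filter.1 hBbar𝔅).2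
  refine ⟨Bbar, hBbar, hBsub, ?_⟩
  rw [helper80.isDefectGroup_iff]
  have hidx := index_centralizer_quotient_eq N hN x hxcop hxN
  refine ⟨(x : G ⧸ N), ⟨helper81.memLocalRing_blockCoeff hMp hBbar _, hBbarx, ?_⟩, ?_⟩
  · intro ψ hψ
    have hinfl : inflIrr N ψ ∈ B := hBsub hψ
    have h3 := hx3 _ hinfl
    have heq : centralChar (ψ : G ⧸ N → ℂ) (x : G ⧸ N) =
        centralChar (inflIrr N ψ : G → ℂ) x := by
      unfold centralChar
      rw [hidx, inflIrr_apply, inflIrr_apply]
      rfl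
    rw [heq]; exact h3
  · apply helper80.isSylowCent_of_card
    · intro q hq
      obtain ⟨d, hd, rfl⟩ := hq
      have h1 : x * d = d * x := helper80.mem_centralizer_singleton.1 (hS.le hd)
      rw [helper80.mem_centralizer_singleton]
      have h2 := congrArg (QuotientGroup.mk' N) h1
      rw [map_mul, map_mul] at h2
      exact h2
    · have hidxD : (D.map (QuotientGroup.mk' N)).index = D.index :=
        Subgroup.index_map_eq D (QuotientGroup.mk'_surjective N)
          (by rw [QuotientGroup.ker_mk']; exact hND)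
      have hcardG : Nat.card G = Nat.card (G ⧸ N) * Nat.card N :=
        Subgroup.card_eq_card_quotient_mul_card_subgroup N
      obtain ⟨a, ha⟩ := IsPGroup.exists_card_eq hN
      have hDpos : 0 < D.index := Nat.pos_of_ne_zero (Subgroup.index_ne_zero_of_finite)
      have hCpos : 0 < (Subgroup.centralizer ({x} : Set G)).index :=
        Nat.pos_of_ne_zero (Subgroup.index_ne_zero_of_finite)
      have e1 : Nat.card (D.map (QuotientGroup.mk' N)) * p ^ a = Nat.card D := by
        have h1 := Subgroup.index_mul_card (D.map (QuotientGroup.mk' N))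
        have h2 := Subgroup.index_mul_card D
        rw [hidxD] at h1
        apply Nat.eq_of_mul_eq_mul_left hDpos
        rw [h2, hcardG, ← h1, ha]
        ring
      have e2 : Nat.card (Subgroup.centralizer ({(x : G ⧸ N)} : Set (G ⧸ N))) * p ^ a =
          Nat.card (Subgroup.centralizer ({x} : Set G)) := by
        have h1 := Subgroup.index_mul_card (Subgroup.centralizer ({(x : G ⧸ N)} : Set (G ⧸ N)))
        have h2 := Subgroup.index_mul_card (Subgroup.centralizer ({x} : Set G))
        rw [hidx] at h1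
        apply Nat.eq_of_mul_eq_mul_left hCpos
        rw [h2, hcardG, ← h1, ha]
        ring
      have hfac : (Nat.card (Subgroup.centralizer ({x} : Set G))).factorization p =
          (Nat.card (Subgroup.centralizer ({(x : G ⧸ N)} : Set (G ⧸ N)))).factorization p + a := by
        rw [← e2, Nat.factorization_mul Nat.card_pos.ne' (pow_ne_zero _ hp.ne_zero),
          Finsupp.add_apply, hp.factorization_pow, Finsupp.single_eq_same]
      have hDc := hS.card
      rw [← e1, hfac, pow_add] at hDc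
      exact Nat.eq_of_mul_eq_mul_right (pow_pos hp.pos a) hDc

end Cfsg.Agent.Lib.helper20
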