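import Mathlib
import Cfsg.Agent.Lib.helper20.QuotBlock2
import Cfsg.Agent.Lib.helper80.Cover

/-!
# The idempotent of a normal subgroup as a class function (helper20)

`kap K g = |K|⁻¹` for `g ∈ K` and `0` otherwise: the coefficient function of the idempotent
`|K|⁻¹ ∑_{k ∈ K} k`.  For normal `K` it is the idempotent of the set `trivOn K` of irreducible
characters with `K` in their kernel.
-/

set_option autoImplicit false
open Cfsg

namespace Cfsg.Agent.Lib.helper20

open Cfsg.Agent.Lib.helper81 (irr_classFun irr_one_ne_zero irr_one_eq_charDegree conv)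
open scoped ComplexConjugate

universe u

variable {X : Type u} [Group X]

open scoped Classical in
/-- The coefficient function of the idempotent `|K|⁻¹ ∑_{k ∈ K} k`. -/
noncomputable def kap (K : Subgroup X) : X → ℂ :=
  fun g => if g ∈ K then (Nat.card K : ℂ)⁻¹ else 0

/-- The irreducible characters with `K` in their kernel. -/
def trivOn (K : Subgroup X) : Set (IrrCharacter X) :=
  {θ | ∀ k ∈ K, (θ : X → ℂ) k = (θ : X → ℂ) 1}

theorem kap_of_mem (K : Subgroup X) {g : X} (hg : g ∈ K) : kap K g = (Nat.card K : ℂ)⁻¹ := by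
  unfold kap; rw [if_pos hg]

theorem kap_of_not_mem (K : Subgroup X) {g : X} (hg : g ∉ K) : kap K g = 0 := by
  unfold kap; rw [if_neg hg]

theorem kap_classFun (K : Subgroup X) [hK : K.Normal] : IsClassFunction X (kap K) := by
  intro g h
  by_cases hg : g ∈ K
  · rw [kap_of_mem K hg, kap_of_mem K (hK.conj_mem g hg h)]
  · have : h * g * h⁻¹ ∉ K := by
      intro hc
      apply hg
      have := hK.conj_mem _ hc h⁻¹
      simpa [mul_assoc] using this
    rw [kap_of_not_mem K hg, kap_of_not_mem K this]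

theorem memLocalRing_kap {p : ℕ} {M : Ideal AlgInt} (hM : IsPModular p M) (K : Subgroup X)
    (hK : (Nat.card K).Coprime p) (g : X) : MemLocalRing M (kap K g) := by
  by_cases hg : g ∈ K
  · rw [kap_of_mem K hg]; exact memLocalRing_inv_natCast hM hK
  · rw [kap_of_not_mem K hg]; exact memLocalRing_zero (isPrime_of_isPModular hM)

open scoped Classical in
theorem sum_kap_mul_irr [Fintype X] (K : Subgroup X) [K.Normal] (χ : IrrCharacter X) :
    ∑ g : X, kap K g * (χ : X → ℂ) g = if χ ∈ trivOn K then (χ : X → ℂ) 1 else 0 := by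
  have hK0 : (Nat.card K : ℂ) ≠ 0 := Nat.cast_ne_zero.2 Nat.card_pos.ne'
  have h := sum_subgroup_irr_mul K χ 1
  simp_rw [mul_one] at h
  have h1 : ∑ g : X, kap K g * (χ : X → ℂ) g =
      (Nat.card K : ℂ)⁻¹ * ∑ n ∈ Finset.univ.filter (fun n : X => n ∈ K), (χ : X → ℂ) n := by
    rw [Finset.mul_sum, Finset.sum_filter]
    apply Finset.sum_congr rfl
    intro g _
    by_cases hg : g ∈ K
    · rw [kap_of_mem K hg, if_pos hg]
    · rw [kap_of_not_mem K hg, if_neg hg, zero_mul]
  rw [h1, h]
  by_cases hk : ∀ n ∈ K, (χ : X → ℂ) n = (χ : X → ℂ) 1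
  · rw [if_pos hk, if_pos (show χ ∈ trivOn K from hk), ← mul_assoc, inv_mul_cancel₀ hK0, one_mul]
  · rw [if_neg hk, if_neg (show χ ∉ trivOn K from hk), mul_zero]

theorem kap_eq_blockCoeff [Fintype X] (K : Subgroup X) [K.Normal] (g : X) :
    kap K g = blockCoeff (trivOn K) g := by
  classical
  exact helper80.eq_blockCoeff_of_sum (trivOn K) (kap K) (kap_classFun K)
    (fun χ => sum_kap_mul_irr K χ) g

theorem conv_blockCoeff_kap [Fintype X] (S : Set (IrrCharacter X)) (K : Subgroup X) [K.Normal]
    (g : X) : conv (blockCoeff S) (kap K) g = blockCoeff (S ∩ trivOn K) g := by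
  have : kap K = blockCoeff (trivOn K) := funext (kap_eq_blockCoeff K)
  rw [this]
  exact helper80.conv_blockCoeff S (trivOn K) g

open scoped Classical in
theorem om_kap [Fintype X] (K : Subgroup X) [K.Normal] (χ : IrrCharacter X) :
    helper80.om (χ : X → ℂ) (kap K) = if χ ∈ trivOn K then 1 else 0 := by
  have : kap K = blockCoeff (trivOn K) := funext (kap_eq_blockCoeff K)
  rw [this]
  exact helper80.om_blockCoeff (trivOn K) χ

/-- Membership in `trivOn K` is constant on blocks, for a normal `p'`-subgroup `K`. -/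
theorem trivOn_of_sameBlock [Fintype X] {p : ℕ} {M : Ideal AlgInt} (hM : IsPModular p M)
    (K : Subgroup X) [K.Normal] (hK : (Nat.card K).Coprime p) {θ θ' : IrrCharacter X}
    (hs : SameBlock M (θ : X → ℂ) (θ' : X → ℂ)) (hθ : θ ∈ trivOn K) : θ' ∈ trivOn K := by
  classical
  have hMp := isPrime_of_isPModular hM
  by_contra hθ'
  have h := helper80.memLocalIdeal_om_sub hMp θ θ' hs (kap K) (kap_classFun K)
    (memLocalRing_kap hM K hK)
  rw [om_kap, om_kap, if_pos hθ, if_neg hθ', sub_zero] at h
  exact not_memLocalIdeal_one h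

theorem subset_trivOn_of_mem [Fintype X] {p : ℕ} {M : Ideal AlgInt} (hM : IsPModular p M)
    (K : Subgroup X) [K.Normal] (hK : (Nat.card K).Coprime p) {f : Set (IrrCharacter X)}
    (hf : IsPBlock M f) {θ : IrrCharacter X} (hθf : θ ∈ f) (hθ : θ ∈ trivOn K) :
    f ⊆ trivOn K := by
  intro θ' hθ'
  exact trivOn_of_sameBlock hM K hK
    (helper80.sameBlock_of_mem (isPrime_of_isPModular hM) hf hθf hθ') hθ

end Cfsg.Agent.Lib.helper20
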