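import Mathlib
import Cfsg.Agent.Lib.helper20.PiKer1
import Cfsg.Agent.Lib.helper80.NormalSubpair
import Cfsg.Agent.Lib.helper80.Cover2

/-!
# Kernels of blocks along normal inclusions of Brauer pairs (helper20)

For a normal inclusion `(Q, f) ⊴ (P, e)` of Brauer pairs and a `p'`-subgroup `K ≤ C_G(Q)`
normalized by `C_G(Q)` and by `P`: `K` lies in the kernel of (every member of) `f` if and only if
`K ∩ C_G(P)` lies in the kernel of `e` (`normalSubpair_trivOnG_iff`).  The proof applies the
multiplicativity of the Brauer functional to the product of the idempotents of `f` and of `K`.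
-/

set_option autoImplicit false
open Cfsg

namespace Cfsg.Agent.Lib.helper20

open Cfsg.Agent.Lib.helper81 (irr_classFun irr_one_ne_zero irr_one_eq_charDegree conv)
open Cfsg.Agent.Lib.helper80 (om extFun invAlg)
open scoped ComplexConjugate

universe u

variable {G : Type u} [Group G]

/-- The function `ξ` on the subgroup `H` takes the value `ξ 1` at the elements of `K`. -/
def TrivOnG (H K : Subgroup G) (ξ : H → ℂ) : Prop :=
  ∀ c : H, (c : G) ∈ K → ξ c = ξ 1

theorem trivOnG_iff (H K : Subgroup G) (ξ : IrrCharacter H) :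
    TrivOnG H K (ξ : H → ℂ) ↔ ξ ∈ trivOn (K.subgroupOf H) := by
  constructor
  · intro h k hk
    exact h k (Subgroup.mem_subgroupOf.1 hk)
  · intro h c hc
    exact h c (Subgroup.mem_subgroupOf.2 hc)

theorem normal_subgroupOf_of_conj (H K : Subgroup G)
    (hKn : ∀ c ∈ H, ∀ k ∈ K, c * k * c⁻¹ ∈ K) : (K.subgroupOf H).Normal := by
  constructor
  intro n hn g
  rw [Subgroup.mem_subgroupOf] at hn ⊢
  have := hKn (g : G) g.2 (n : G) hn
  simpa using this

theorem card_subgroupOf_of_le {H K : Subgroup G} (h : K ≤ H) :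
    Nat.card (K.subgroupOf H) = Nat.card K :=
  Nat.card_congr (Subgroup.subgroupOfEquivOfLe h).toEquiv

theorem card_subgroupOf_dvd [Finite G] (H K : Subgroup G) :
    Nat.card (K.subgroupOf H) ∣ Nat.card K := by
  have h1 : (K ⊓ H).subgroupOf H = K.subgroupOf H := Subgroup.inf_subgroupOf_right K H
  rw [← h1, card_subgroupOf_of_le (inf_le_right : K ⊓ H ≤ H)]
  exact Subgroup.card_dvd_of_le inf_le_left

/-- The extension by zero of `kap (K.subgroupOf H)` is `kap K`, for `K ≤ H`. -/
theorem extFun_kap {H K : Subgroup G} (h : K ≤ H) (g : G) :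
    extFun H (kap (K.subgroupOf H)) g = kap K g := by
  by_cases hg : g ∈ H
  · rw [helper80.extFun_of_mem H _ hg]
    by_cases hgK : g ∈ K
    · rw [kap_of_mem K hgK, kap_of_mem _ (Subgroup.mem_subgroupOf.2 hgK), card_subgroupOf_of_le h]
    · rw [kap_of_not_mem K hgK, kap_of_not_mem _ (fun hc => hgK (Subgroup.mem_subgroupOf.1 hc))]
  · rw [helper80.extFun_of_not_mem H _ hg, kap_of_not_mem K (fun hc => hg (h hc))]

open scoped Classical in
/-- The Brauer functional at `P` of the idempotent of `K`. -/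
theorem brauerOmega_kap [Fintype G] (P K : Subgroup G)
    (hKn : ∀ c ∈ Subgroup.centralizer (P : Set G), ∀ k ∈ K, c * k * c⁻¹ ∈ K)
    (ξ : IrrCharacter (Subgroup.centralizer (P : Set G))) :
    brauerOmega P (kap K) (ξ : Subgroup.centralizer (P : Set G) → ℂ) =
      ((Nat.card (K.subgroupOf (Subgroup.centralizer (P : Set G))) : ℂ) / (Nat.card K : ℂ)) *
        (if TrivOnG (Subgroup.centralizer (P : Set G)) K
          (ξ : Subgroup.centralizer (P : Set G) → ℂ) then 1 else 0) := by
  have := normal_subgroupOf_of_conj (Subgroup.centralizer (P : Set G)) K hKn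
  have hK0 : (Nat.card K : ℂ) ≠ 0 := Nat.cast_ne_zero.2 Nat.card_pos.ne'
  have hK'0 : (Nat.card (K.subgroupOf (Subgroup.centralizer (P : Set G))) : ℂ) ≠ 0 :=
    Nat.cast_ne_zero.2 Nat.card_pos.ne'
  rw [helper80.brauerOmega_eq_om]
  have hfun : (fun x : Subgroup.centralizer (P : Set G) => kap K (x : G)) =
      fun x => ((Nat.card (K.subgroupOf (Subgroup.centralizer (P : Set G))) : ℂ) /
        (Nat.card K : ℂ)) * kap (K.subgroupOf (Subgroup.centralizer (P : Set G))) x := by
    funext x
    by_cases hx : (x : G) ∈ K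
    · rw [kap_of_mem K hx, kap_of_mem _ (Subgroup.mem_subgroupOf.2 hx)]
      field_simp
    · rw [kap_of_not_mem K hx, kap_of_not_mem _ (fun hc => hx (Subgroup.mem_subgroupOf.1 hc)),
        mul_zero]
  rw [hfun, helper80.om_smul, om_kap]
  congr 1

/-- A quotient of two natural numbers prime to `p` is a unit of the local ring. -/
theorem memLocalRing_natCast_div {p : ℕ} {M : Ideal AlgInt} (hM : IsPModular p M) (n m : ℕ)
    (hm : m.Coprime p) : MemLocalRing M ((n : ℂ) / (m : ℂ)) :=
  ⟨(n : AlgInt), (m : AlgInt), natCast_not_mem_of_coprime hM hm, by push_cast; rfl⟩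

theorem not_memLocalIdeal_natCast_div {p : ℕ} {M : Ideal AlgInt} (hM : IsPModular p M)
    (n m : ℕ) (hn : n.Coprime p) (hm : 0 < m) : ¬ MemLocalIdeal M ((n : ℂ) / (m : ℂ)) := by
  intro h
  have hMp := isPrime_of_isPModular hM
  have hm0 : (m : ℂ) ≠ 0 := Nat.cast_ne_zero.2 hm.ne'
  have h1 := memLocalIdeal_mul_right hMp h (memLocalRing_natCast hMp m)
  rw [div_mul_cancel₀ _ hm0] at h1
  have h2 : MemLocalIdeal M (((n : AlgInt) : AlgInt) : ℂ) := by
    have : (((n : AlgInt) : AlgInt) : ℂ) = (n : ℂ) := by push_cast; rfl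
    rw [this]; exact h1
  exact natCast_not_mem_of_coprime hM hn (mem_of_memLocalIdeal_coe hMp h2)

/-- For a normal inclusion `(Q, f) ⊴ (P, e)` and a `p'`-subgroup `K ≤ C_G(Q)` normalized by
`C_G(Q)` and by `P`: `K` is in the kernel of `f` iff `K ∩ C_G(P)` is in the kernel of `e`. -/
theorem normalSubpair_trivOnG_iff [Fintype G] {p : ℕ} [Fact p.Prime] {M : Ideal AlgInt}
    (hM : IsPModular p M) {Q P : Subgroup G}
    {f : Set (IrrCharacter (Subgroup.centralizer (Q : Set G)))}
    {e : Set (IrrCharacter (Subgroup.centralizer (P : Set G)))}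
    (hns : IsNormalSubpair p M Q f P e) (K : Subgroup G)
    (hKC : K ≤ Subgroup.centralizer (Q : Set G))
    (hKn : ∀ c ∈ Subgroup.centralizer (Q : Set G), ∀ k ∈ K, c * k * c⁻¹ ∈ K)
    (hKP : ∀ u ∈ P, ∀ k ∈ K, u * k * u⁻¹ ∈ K) (hKp : (Nat.card K).Coprime p) :
    (∀ θ ∈ f, TrivOnG (Subgroup.centralizer (Q : Set G)) K
        (θ : Subgroup.centralizer (Q : Set G) → ℂ)) ↔
      (∀ ξ ∈ e, TrivOnG (Subgroup.centralizer (P : Set G)) K
        (ξ : Subgroup.centralizer (P : Set G) → ℂ)) := by
  classical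
  have hMp := isPrime_of_isPModular hM
  obtain ⟨hQf, hPe, hQP, hPN, hstab, hbr⟩ := hns
  have hCC : Subgroup.centralizer (P : Set G) ≤ Subgroup.centralizer (Q : Set G) :=
    Subgroup.centralizer_le hQP
  have hPNC : P ≤ Subgroup.normalizer
      ((Subgroup.centralizer (Q : Set G) : Subgroup G) : Set G) :=
    fun u hu => helper80.normalizer_le_normalizer_centralizer Q (hPN hu)
  have hKcn := normal_subgroupOf_of_conj (Subgroup.centralizer (Q : Set G)) K hKn
  have hKn' : ∀ c ∈ Subgroup.centralizer (P : Set G), ∀ k ∈ K, c * k * c⁻¹ ∈ K :=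
    fun c hc k hk => hKn c (hCC hc) k hk
  have hcardKc : Nat.card (K.subgroupOf (Subgroup.centralizer (Q : Set G))) = Nat.card K :=
    card_subgroupOf_of_le hKC
  -- the two members of the invariant algebra
  have hz : invAlg M (Subgroup.centralizer (Q : Set G)) P (blockCoeff f) := by
    apply helper80.invAlg_blockCoeff hMp _ P hPNC f hQf.2
    intro u hu
    exact (helper80.stabilizesBlock_iff_eq hMp _ u (hPNC hu) hQf.2).1 (hstab u hu)
  have hz' : invAlg M (Subgroup.centralizer (Q : Set G)) P
      (kap (K.subgroupOf (Subgroup.centralizer (Q : Set G)))) := by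
    refine ⟨kap_classFun _, memLocalRing_kap hM _ (by rw [hcardKc]; exact hKp), ?_⟩
    intro x hx k k' hkk'
    by_cases hk : (k : G) ∈ K
    · have hk' : (k' : G) ∈ K := by rw [hkk']; exact hKP x hx _ hk
      rw [kap_of_mem _ (Subgroup.mem_subgroupOf.2 hk), kap_of_mem _ (Subgroup.mem_subgroupOf.2 hk')]
    · have hk' : (k' : G) ∉ K := by
        intro hc
        apply hk
        have := hKP x⁻¹ (P.inv_mem hx) _ hc
        rw [hkk'] at this
        simpa [mul_assoc] using this
      rw [kap_of_not_mem _ (fun hc => hk (Subgroup.mem_subgroupOf.1 hc)),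
        kap_of_not_mem _ (fun hc => hk' (Subgroup.mem_subgroupOf.1 hc))]
  -- the Brauer functional
  have hΘ : ∀ ξ : IrrCharacter (Subgroup.centralizer (P : Set G)), _ :=
    fun ξ => helper80.isLocalCharacter_brauer hM P (Subgroup.centralizer (Q : Set G)) hPe.1
      hPNC hCC ξ
  have hΘz : ∀ ξ ∈ e, MemLocalIdeal M (brauerOmega P
      (extFun (Subgroup.centralizer (Q : Set G)) (blockCoeff f))
      (ξ : Subgroup.centralizer (P : Set G) → ℂ) - 1) := by
    intro ξ hξ
    rw [helper80.brauerOmega_congr P (fun x _ => helper80.extFun_blockCoeff _ f x)]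
    exact hbr ξ hξ
  have hΘz' : ∀ ξ : IrrCharacter (Subgroup.centralizer (P : Set G)), brauerOmega P
      (extFun (Subgroup.centralizer (Q : Set G))
        (kap (K.subgroupOf (Subgroup.centralizer (Q : Set G)))))
      (ξ : Subgroup.centralizer (P : Set G) → ℂ) =
      ((Nat.card (K.subgroupOf (Subgroup.centralizer (P : Set G))) : ℂ) / (Nat.card K : ℂ)) *
        (if TrivOnG (Subgroup.centralizer (P : Set G)) K
          (ξ : Subgroup.centralizer (P : Set G) → ℂ) then 1 else 0) := by
    intro ξ
    rw [helper80.brauerOmega_congr P (fun x _ => extFun_kap hKC x)]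
    exact brauerOmega_kap P K hKn' ξ
  have hΘc : ∀ ξ : IrrCharacter (Subgroup.centralizer (P : Set G)), brauerOmega P
      (extFun (Subgroup.centralizer (Q : Set G))
        (conv (blockCoeff f) (kap (K.subgroupOf (Subgroup.centralizer (Q : Set G))))))
      (ξ : Subgroup.centralizer (P : Set G) → ℂ) =
      brauerOmega P (extFun (Subgroup.centralizer (Q : Set G))
        (blockCoeff (f ∩ trivOn (K.subgroupOf (Subgroup.centralizer (Q : Set G))))))
      (ξ : Subgroup.centralizer (P : Set G) → ℂ) := by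
    intro ξ
    have : conv (blockCoeff f) (kap (K.subgroupOf (Subgroup.centralizer (Q : Set G)))) =
        blockCoeff (f ∩ trivOn (K.subgroupOf (Subgroup.centralizer (Q : Set G)))) :=
      funext (conv_blockCoeff_kap f _)
    rw [this]
  have hcopK' : (Nat.card (K.subgroupOf (Subgroup.centralizer (P : Set G)))).Coprime p :=
    Nat.Coprime.coprime_dvd_left (card_subgroupOf_dvd _ K) hKp
  constructor
  · -- ascent
    intro hf ξ hξ
    by_contra hcon
    have hsub : f ∩ trivOn (K.subgroupOf (Subgroup.centralizer (Q : Set G))) = f := by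
      apply Set.inter_eq_left.2
      intro θ hθ
      exact (trivOnG_iff _ K θ).1 (hf θ hθ)
    have hmul := (hΘ ξ).mul _ _ hz hz'
    rw [hΘc ξ, hsub, hΘz' ξ, if_neg hcon, mul_zero, mul_zero, sub_zero] at hmul
    have h1 := memLocalIdeal_sub hMp hmul (hΘz ξ hξ)
    rw [sub_sub_cancel] at h1
    exact not_memLocalIdeal_one h1
  · -- descent
    intro he
    obtain ⟨ξ, hξ⟩ := helper80.isPBlock_nonempty hMp hPe.2
    have hne : (f ∩ trivOn (K.subgroupOf (Subgroup.centralizer (Q : Set G)))).Nonempty := by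
      by_contra hempty
      rw [Set.not_nonempty_iff_eq_empty] at hempty
      have hmul := (hΘ ξ).mul _ _ hz hz'
      rw [hΘc ξ, hempty, hΘz' ξ, if_pos (he ξ hξ), mul_one] at hmul
      have h0 : brauerOmega P (extFun (Subgroup.centralizer (Q : Set G))
          (blockCoeff (∅ : Set (IrrCharacter (Subgroup.centralizer (Q : Set G))))))
          (ξ : Subgroup.centralizer (P : Set G) → ℂ) = 0 := by
        rw [helper80.brauerOmega_congr P (β₂ := fun _ => 0)]
        · exact helper80.brauerOmega_zero P _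
        · intro x _
          by_cases hx : x ∈ Subgroup.centralizer (Q : Set G)
          · rw [helper80.extFun_of_mem _ _ hx, helper80.blockCoeff_empty]
          · rw [helper80.extFun_of_not_mem _ _ hx]
      rw [h0, zero_sub] at hmul
      have hmul' := memLocalIdeal_neg hmul
      rw [neg_neg] at hmul'
      have hA : ¬ MemLocalIdeal M (brauerOmega P
          (extFun (Subgroup.centralizer (Q : Set G)) (blockCoeff f))
          (ξ : Subgroup.centralizer (P : Set G) → ℂ)) := by
        intro hA
        have h1 := memLocalIdeal_sub hMp hA (hΘz ξ hξ)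
        rw [sub_sub_cancel] at h1
        exact not_memLocalIdeal_one h1
      exact not_memLocalIdeal_mul hMp ((hΘ ξ).loc _ hz)
        (memLocalRing_natCast_div hM _ _ hKp) hA
        (not_memLocalIdeal_natCast_div hM _ _ hcopK' Nat.card_pos) hmul'
    obtain ⟨θ₀, hθ₀f, hθ₀⟩ := hne
    intro θ hθ
    exact (trivOnG_iff _ K θ).2
      (subset_trivOn_of_mem hM _ (by rw [hcardKc]; exact hKp) hQf.2 hθ₀f hθ₀ hθ)

end Cfsg.Agent.Lib.helper20
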