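import Mathlib
import Cfsg.Agent.Lib.helper20.PiKer2
import Cfsg.Agent.Lib.helper65.Fitting
import Cfsg.Agent.Lib.helper80.ConjPair
import Cfsg.Agent.Lib.helper80.DefectGroup

/-!
# `π'`-cores of centralizers and kernels of Brauer pairs (helper20)

`opiOf π H` is `O_{π'}(H)` as a subgroup of `G`; `opiC π Q = O_{π'}(C_G(Q))`.
`KerProp π Q f`: every member of the block `f` of `C_G(Q)` has `O_{π'}(C_G(Q))` in its kernel.
`HallProp π Q`: `O_{π'}(C_G(Q))` contains every `π'`-element of `C_G(Q)`.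

* `kerProp_of_le`: `KerProp` passes down inclusions of Brauer pairs (`p ∈ π`);
* `kerProp_hall_of_le`: `KerProp` together with `HallProp` passes up inclusions of Brauer pairs;
* `kerProp_conj_iff`, `hallProp_conj_iff`: invariance under conjugation.
-/

set_option autoImplicit false
open Cfsg

namespace Cfsg.Agent.Lib.helper20

open Cfsg.Agent.Lib.helper80 (om extFun invAlg)

universe u

/-- The `π`-core is preserved by isomorphisms. -/
theorem piCore_equiv {X Y : Type u} [Group X] [Group Y] [Finite X] (π : Set ℕ) (φ : X ≃* Y)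
    {x : X} (hx : x ∈ piCore π X) : φ x ∈ piCore π Y := by
  have hle : (piCore π X).map φ.toMonoidHom ≤ piCore π Y := by
    apply le_sSup
    refine ⟨Subgroup.Normal.map (piCore_normal π X) _ φ.surjective, ?_⟩
    intro q hq hdvd
    have hcard : Nat.card ((piCore π X).map φ.toMonoidHom) = Nat.card (piCore π X) :=
      Nat.card_congr ((piCore π X).equivMapOfInjective φ.toMonoidHom φ.injective).symm.toEquiv
    rw [hcard] at hdvd
    exact helper65.piCore_isPiGrp π q hq hdvd
  exact hle ⟨x, hx, rfl⟩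

variable {G : Type u} [Group G]

/-- `O_{π'}(H)` as a subgroup of `G`. -/
def opiOf (π : Set ℕ) (H : Subgroup G) : Subgroup G :=
  (piCore {q | q ∉ π} ↥H).map H.subtype

theorem opiOf_le (π : Set ℕ) (H : Subgroup G) : opiOf π H ≤ H := by
  rintro _ ⟨y, _, rfl⟩
  exact y.2

theorem mem_opiOf_iff (π : Set ℕ) (H : Subgroup G) (h : H) :
    (h : G) ∈ opiOf π H ↔ h ∈ piCore {q | q ∉ π} ↥H := by
  constructor
  · rintro ⟨y, hy, hyh⟩
    have : y = h := Subtype.ext hyh
    rw [← this]; exact hy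
  · intro hh
    exact ⟨h, hh, rfl⟩

theorem opiOf_conj_mem (π : Set ℕ) (H : Subgroup G) :
    ∀ c ∈ H, ∀ k ∈ opiOf π H, c * k * c⁻¹ ∈ opiOf π H := by
  intro c hc k hk
  obtain ⟨y, hy, rfl⟩ := hk
  have h1 := (piCore_normal {q | q ∉ π} ↥H).conj_mem y hy ⟨c, hc⟩
  exact ⟨_, h1, rfl⟩

theorem card_opiOf (π : Set ℕ) (H : Subgroup G) :
    Nat.card (opiOf π H) = Nat.card (piCore {q | q ∉ π} ↥H) :=
  Nat.card_congr ((piCore {q | q ∉ π} ↥H).equivMapOfInjective H.subtype
    H.subtype_injective).symm.toEquiv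

theorem opiOf_prime [Finite G] (π : Set ℕ) (H : Subgroup G) :
    ∀ q : ℕ, q.Prime → q ∣ Nat.card (opiOf π H) → q ∉ π := by
  intro q hq hdvd
  rw [card_opiOf] at hdvd
  exact helper65.piCore_isPiGrp {q | q ∉ π} q hq hdvd

theorem opiOf_coprime [Finite G] {π : Set ℕ} {p : ℕ} [hp : Fact p.Prime] (hpπ : p ∈ π)
    (H : Subgroup G) : (Nat.card (opiOf π H)).Coprime p := by
  apply Nat.Coprime.symm
  rw [Nat.Prime.coprime_iff_not_dvd hp.out]
  intro hdvd
  exact opiOf_prime π H p hp.out hdvd hpπ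

theorem le_opiOf [Finite G] (π : Set ℕ) (H L : Subgroup G) (hLH : L ≤ H)
    (hLn : ∀ c ∈ H, ∀ k ∈ L, c * k * c⁻¹ ∈ L)
    (hLπ : ∀ q : ℕ, q.Prime → q ∣ Nat.card L → q ∉ π) : L ≤ opiOf π H := by
  have hle : L.subgroupOf H ≤ piCore {q | q ∉ π} ↥H := by
    apply le_sSup
    refine ⟨normal_subgroupOf_of_conj H L hLn, ?_⟩
    intro q hq hdvd
    rw [card_subgroupOf_of_le hLH] at hdvd
    exact hLπ q hq hdvd
  intro k hk
  exact ⟨⟨k, hLH hk⟩, hle (Subgroup.mem_subgroupOf.2 hk), rfl⟩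

/-- Elements of `O_{π'}(H)` are `π'`-elements. -/
theorem orderOf_of_mem_opiOf [Finite G] (π : Set ℕ) (H : Subgroup G) {x : G}
    (hx : x ∈ opiOf π H) : ∀ q : ℕ, q.Prime → q ∣ orderOf x → q ∉ π := by
  intro q hq hdvd
  exact opiOf_prime π H q hq (hdvd.trans (Subgroup.orderOf_dvd_natCard _ hx))

/-- `O_{π'}(C_G(Q))` as a subgroup of `G`. -/
def opiC (π : Set ℕ) (Q : Subgroup G) : Subgroup G :=
  opiOf π (Subgroup.centralizer (Q : Set G))

theorem opiC_conj [Finite G] (π : Set ℕ) (Q : Subgroup G) (x : G) {c : G} (hc : c ∈ opiC π Q) :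
    x * c * x⁻¹ ∈ opiC π (Q.map (MulAut.conj x).toMonoidHom) := by
  obtain ⟨c₀, hc₀, rfl⟩ := hc
  have h1 := piCore_equiv {q | q ∉ π} (helper80.centConj Q x) hc₀
  refine ⟨_, h1, ?_⟩
  exact helper80.centConj_apply_coe Q x c₀

theorem opiC_conj_symm [Finite G] (π : Set ℕ) (Q : Subgroup G) (x : G) {c : G}
    (hc : c ∈ opiC π (Q.map (MulAut.conj x).toMonoidHom)) : x⁻¹ * c * x ∈ opiC π Q := by
  obtain ⟨c₀, hc₀, rfl⟩ := hc
  have h1 := piCore_equiv {q | q ∉ π} (helper80.centConj Q x).symm hc₀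
  refine ⟨_, h1, ?_⟩
  exact helper80.centConj_symm_apply_coe Q x c₀

theorem map_conj_eq_of_mem_normalizer (Q : Subgroup G) {u : G}
    (hu : u ∈ Subgroup.normalizer (Q : Set G)) : Q.map (MulAut.conj u).toMonoidHom = Q := by
  ext y
  rw [helper80.mem_map_conj]
  have h := (Subgroup.mem_normalizer_iff.1 hu) (u⁻¹ * y * u)
  have e : u * (u⁻¹ * y * u) * u⁻¹ = y := by group
  rw [e] at h
  exact h

theorem opiC_conj_of_mem_normalizer [Finite G] (π : Set ℕ) (Q : Subgroup G) {u : G}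
    (hu : u ∈ Subgroup.normalizer (Q : Set G)) {c : G} (hc : c ∈ opiC π Q) :
    u * c * u⁻¹ ∈ opiC π Q := by
  have h := opiC_conj π Q u hc
  rw [map_conj_eq_of_mem_normalizer Q hu] at h
  exact h

/-- Every member of the block `f` of `C_G(Q)` has `O_{π'}(C_G(Q))` in its kernel. -/
def KerProp (π : Set ℕ) (Q : Subgroup G)
    (f : Set (IrrCharacter (Subgroup.centralizer (Q : Set G)))) : Prop :=
  ∀ ξ ∈ f, TrivOnG (Subgroup.centralizer (Q : Set G)) (opiC π Q)
    (ξ : Subgroup.centralizer (Q : Set G) → ℂ)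

/-- `O_{π'}(C_G(Q))` contains every `π'`-element of `C_G(Q)`. -/
def HallProp (π : Set ℕ) (Q : Subgroup G) : Prop :=
  ∀ x ∈ Subgroup.centralizer (Q : Set G), (∀ q : ℕ, q.Prime → q ∣ orderOf x → q ∉ π) →
    x ∈ opiC π Q

theorem opiC_inf_le [Finite G] (π : Set ℕ) {Q P : Subgroup G} (hQP : Q ≤ P) :
    opiC π Q ⊓ Subgroup.centralizer (P : Set G) ≤ opiC π P := by
  have hCC : Subgroup.centralizer (P : Set G) ≤ Subgroup.centralizer (Q : Set G) :=
    Subgroup.centralizer_le hQP
  apply le_opiOf π _ _ inf_le_right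
  · intro c hc k hk
    exact ⟨opiOf_conj_mem π _ c (hCC hc) k hk.1,
      (Subgroup.centralizer (P : Set G)).mul_mem ((Subgroup.centralizer (P : Set G)).mul_mem hc
        hk.2) ((Subgroup.centralizer (P : Set G)).inv_mem hc)⟩
  · intro q hq hdvd
    exact opiOf_prime π _ q hq (hdvd.trans (Subgroup.card_dvd_of_le inf_le_left))

variable [Fintype G] {p : ℕ} [Fact p.Prime] {M : Ideal AlgInt}

theorem kerProp_down (hM : IsPModular p M) {π : Set ℕ} (hpπ : p ∈ π) {Q P : Subgroup G}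
    {f : Set (IrrCharacter (Subgroup.centralizer (Q : Set G)))}
    {e : Set (IrrCharacter (Subgroup.centralizer (P : Set G)))}
    (hns : IsNormalSubpair p M Q f P e) (hP : KerProp π P e) : KerProp π Q f := by
  have hQP : Q ≤ P := hns.2.2.1
  have hPN : P ≤ Subgroup.normalizer (Q : Set G) := hns.2.2.2.1
  apply (normalSubpair_trivOnG_iff hM hns (opiC π Q) (opiOf_le π _) (opiOf_conj_mem π _)
    (fun u hu k hk => opiC_conj_of_mem_normalizer π Q (hPN hu) hk) (opiOf_coprime hpπ _)).2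
  intro ξ hξ c hc
  exact hP ξ hξ c (opiC_inf_le π hQP ⟨hc, c.2⟩)

theorem kerProp_up (hM : IsPModular p M) {π : Set ℕ} (hpπ : p ∈ π) {Q P : Subgroup G}
    {f : Set (IrrCharacter (Subgroup.centralizer (Q : Set G)))}
    {e : Set (IrrCharacter (Subgroup.centralizer (P : Set G)))}
    (hns : IsNormalSubpair p M Q f P e) (hQ : KerProp π Q f) (hH : HallProp π Q) :
    KerProp π P e ∧ HallProp π P := by
  have hQP : Q ≤ P := hns.2.2.1
  have hPN : P ≤ Subgroup.normalizer (Q : Set G) := hns.2.2.2.1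
  have hCC : Subgroup.centralizer (P : Set G) ≤ Subgroup.centralizer (Q : Set G) :=
    Subgroup.centralizer_le hQP
  have h1 := (normalSubpair_trivOnG_iff hM hns (opiC π Q) (opiOf_le π _) (opiOf_conj_mem π _)
    (fun u hu k hk => opiC_conj_of_mem_normalizer π Q (hPN hu) hk) (opiOf_coprime hpπ _)).1 hQ
  constructor
  · intro ξ hξ c hc
    apply h1 ξ hξ c
    exact hH _ (hCC c.2) (orderOf_of_mem_opiOf π _ hc)
  · intro x hx hxπ
    exact opiC_inf_le π hQP ⟨hH x (hCC hx) hxπ, hx⟩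

/-- `KerProp` passes down inclusions of Brauer pairs. -/
theorem kerProp_of_le (hM : IsPModular p M) {π : Set ℕ} (hpπ : p ∈ π) {a b : BrauerPairIdx G}
    (h : Relation.ReflTransGen (NormalSubpairRel p M) a b) :
    KerProp π b.1 b.2 → KerProp π a.1 a.2 := by
  induction h using Relation.ReflTransGen.head_induction_on with
  | refl => exact id
  | head h' _ ih => exact fun hb => kerProp_down hM hpπ h' (ih hb)

/-- `KerProp` and `HallProp` pass up inclusions of Brauer pairs. -/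
theorem kerProp_hall_of_le (hM : IsPModular p M) {π : Set ℕ} (hpπ : p ∈ π)
    {a b : BrauerPairIdx G} (h : Relation.ReflTransGen (NormalSubpairRel p M) a b) :
    KerProp π a.1 a.2 ∧ HallProp π a.1 → KerProp π b.1 b.2 ∧ HallProp π b.1 := by
  induction h with
  | refl => exact id
  | tail _ hbc ih => exact fun ha => kerProp_up hM hpπ hbc (ih ha).1 (ih ha).2

theorem kerProp_conj_iff (π : Set ℕ) (Q : Subgroup G) (x : G)
    (f : Set (IrrCharacter (Subgroup.centralizer (Q : Set G)))) :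
    KerProp π (Q.map (MulAut.conj x).toMonoidHom) (conjBlock Q x f) ↔ KerProp π Q f := by
  constructor
  · intro h ξ hξ c hc
    have h1 := h _ ((helper80.mem_conjBlock_iff Q x f ξ).2 hξ) (helper80.centConj Q x c)
      (by rw [helper80.centConj_apply_coe]; exact opiC_conj π Q x hc)
    rw [helper80.irrMap_apply', helper80.irrMap_apply, map_one] at h1
    exact h1
  · intro h ξ' hξ' c' hc'
    obtain ⟨ξ, hξ, rfl⟩ := helper80.exists_irrMap_of_mem_conjBlock Q x f hξ'
    rw [helper80.irrMap_apply, helper80.irrMap_apply, map_one]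
    apply h ξ hξ
    rw [helper80.centConj_symm_apply_coe]
    exact opiC_conj_symm π Q x hc'

theorem hallProp_conj (π : Set ℕ) (Q : Subgroup G) (x : G) (h : HallProp π Q) :
    HallProp π (Q.map (MulAut.conj x).toMonoidHom) := by
  intro y hy hyπ
  have h1 : x⁻¹ * y * x ∈ Subgroup.centralizer (Q : Set G) :=
    helper80.conj_inv_mem_centralizer_of_map Q x hy
  have hord : orderOf (x⁻¹ * y * x) = orderOf y := by
    have := orderOf_injective (MulAut.conj x⁻¹).toMonoidHom (MulAut.conj x⁻¹).injective y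
    simpa using this
  have h2 := h _ h1 (by rw [hord]; exact hyπ)
  have h3 := opiC_conj π Q x h2
  have e : x * (x⁻¹ * y * x) * x⁻¹ = y := by group
  rwa [e] at h3

end Cfsg.Agent.Lib.helper20
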