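import Mathlib
import Cfsg.Agent.Lib.helper20.PiKer3
import Cfsg.Agent.Lib.helper80.InducedBr
import Cfsg.Agent.Lib.helper80.CyclicInertial

/-!
# Kernels of blocks and covering (helper20)

For `P C_G(P) ≤ H ≤ N_G(P)`, a block `c` of `H` covering the block `e` of `C_G(P)` and a
`p'`-subgroup `K ≤ C_G(P)` normalized by `H`: `K` lies in the kernel of `c` iff it lies in the
kernel of `e` (`covers_trivOnG_iff`).  A block of `C_G(P)` covered by a block of `H` inducing `B`
makes a Brauer pair of `B` (`isBrauerPairOf_of_covers`).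
-/

set_option autoImplicit false
open Cfsg

namespace Cfsg.Agent.Lib.helper20

open Cfsg.Agent.Lib.helper81 (irr_classFun irr_one_ne_zero irr_one_eq_charDegree conv)
open Cfsg.Agent.Lib.helper80 (om extFun invAlg)

universe u

variable {G : Type u} [Group G] [Fintype G] {p : ℕ} [Fact p.Prime] {M : Ideal AlgInt}

/-- A linked pair `ξ`, `θ` has the same behaviour on a `p'`-subgroup `K ≤ C_G(P)` normalized
by `H`. -/
theorem linked_trivOnG_iff (hM : IsPModular p M) (P H : Subgroup G) [Fintype H]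
    (hPH : P ≤ H) (hCH : Subgroup.centralizer (P : Set G) ≤ H)
    {ξ : IrrCharacter (Subgroup.centralizer (P : Set G))} {θ : IrrCharacter H}
    (hl : helper80.Linked M P H (ξ : Subgroup.centralizer (P : Set G) → ℂ) (θ : H → ℂ))
    (K : Subgroup G) (hKC : K ≤ Subgroup.centralizer (P : Set G))
    (hKn : ∀ h ∈ H, ∀ k ∈ K, h * k * h⁻¹ ∈ K) (hKp : (Nat.card K).Coprime p) :
    TrivOnG H K (θ : H → ℂ) ↔
      TrivOnG (Subgroup.centralizer (P : Set G)) K (ξ : Subgroup.centralizer (P : Set G) → ℂ) := by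
  classical
  have hMp := isPrime_of_isPModular hM
  have hKH : K ≤ H := hKC.trans hCH
  have hKnorm := normal_subgroupOf_of_conj H K hKn
  have hcardK : Nat.card (K.subgroupOf H) = Nat.card K := card_subgroupOf_of_le hKH
  have hz : helper80.classAlg M (kap (K.subgroupOf H)) :=
    ⟨kap_classFun _, memLocalRing_kap hM _ (by rw [hcardK]; exact hKp)⟩
  have h1 := hl _ (helper80.invAlg_of_classAlg hMp P H hPH hz)
  have hKn' : ∀ c ∈ Subgroup.centralizer (P : Set G), ∀ k ∈ K, c * k * c⁻¹ ∈ K :=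
    fun c hc k hk => hKn c (hCH hc) k hk
  have hK0 : (Nat.card K : ℂ) ≠ 0 := Nat.cast_ne_zero.2 Nat.card_pos.ne'
  rw [helper80.brauerOmega_congr P (fun x _ => extFun_kap hKH x), brauerOmega_kap P K hKn' ξ,
    card_subgroupOf_of_le hKC, div_self hK0, one_mul, om_kap] at h1
  rw [trivOnG_iff H K θ]
  constructor
  · intro hθ
    by_contra hξ
    rw [if_pos hθ, if_neg hξ, zero_sub] at h1
    have := memLocalIdeal_neg h1
    rw [neg_neg] at this
    exact not_memLocalIdeal_one this
  · intro hξ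
    by_contra hθ
    rw [if_neg hθ, if_pos hξ, sub_zero] at h1
    exact not_memLocalIdeal_one h1

/-- Covering preserves the kernel property for `p'`-subgroups of `C_G(P)` normalized by `H`. -/
theorem covers_trivOnG_iff (hM : IsPModular p M) (P H : Subgroup G) [Fintype H]
    [Fintype (Subgroup.centralizer (P : Set G))]
    (hP : IsPGroup p P) (hPH : P ≤ H) (hCH : Subgroup.centralizer (P : Set G) ≤ H)
    {c : Set (IrrCharacter H)} (hc : IsPBlock M c)
    {e : Set (IrrCharacter (Subgroup.centralizer (P : Set G)))} (he : IsPBlock M e)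
    (hcov : helper80.Covers P H c e)
    (K : Subgroup G) (hKC : K ≤ Subgroup.centralizer (P : Set G))
    (hKn : ∀ h ∈ H, ∀ k ∈ K, h * k * h⁻¹ ∈ K) (hKp : (Nat.card K).Coprime p) :
    (∀ θ ∈ c, TrivOnG H K (θ : H → ℂ)) ↔
      (∀ ξ ∈ e, TrivOnG (Subgroup.centralizer (P : Set G)) K
        (ξ : Subgroup.centralizer (P : Set G) → ℂ)) := by
  classical
  have hMp := isPrime_of_isPModular hM
  have hKH : K ≤ H := hKC.trans hCH
  have hKnorm := normal_subgroupOf_of_conj H K hKn
  have hcardK : Nat.card (K.subgroupOf H) = Nat.card K := card_subgroupOf_of_le hKH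
  have key : ∀ ξ ∈ e, ∃ θ ∈ c, (TrivOnG H K (θ : H → ℂ) ↔
      TrivOnG (Subgroup.centralizer (P : Set G)) K
        (ξ : Subgroup.centralizer (P : Set G) → ℂ)) := by
    intro ξ hξ
    obtain ⟨θ, hl⟩ := helper80.exists_linked hM P H hP hPH hCH ξ
    exact ⟨θ, helper80.mem_cover_of_linked hMp P H hPH hc hcov
      (helper80.subset_orbSet _ _ e hξ) hl, linked_trivOnG_iff hM P H hPH hCH hl K hKC hKn hKp⟩
  constructor
  · intro h ξ hξ
    obtain ⟨θ, hθ, hiff⟩ := key ξ hξ
    exact hiff.1 (h θ hθ)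
  · intro h
    obtain ⟨ξ, hξ⟩ := helper80.isPBlock_nonempty hMp he
    obtain ⟨θ₀, hθ₀, hiff⟩ := key ξ hξ
    have hθ₀' : θ₀ ∈ trivOn (K.subgroupOf H) := (trivOnG_iff H K θ₀).1 (hiff.2 (h ξ hξ))
    intro θ hθ
    exact (trivOnG_iff H K θ).2
      (subset_trivOn_of_mem hM _ (by rw [hcardK]; exact hKp) hc hθ₀ hθ₀' hθ)

/-- A block of `C_G(P)` covered by a block of `H` which induces `B` is a Brauer pair of `B`. -/
theorem isBrauerPairOf_of_covers (hM : IsPModular p M) (P H : Subgroup G) [Fintype H]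
    [Fintype (Subgroup.centralizer (P : Set G))]
    (hP : IsPGroup p P) (hPH : P ≤ H) (hCH : Subgroup.centralizer (P : Set G) ≤ H)
    (hHN : H ≤ Subgroup.normalizer (P : Set G))
    {c : Set (IrrCharacter H)} (hc : IsPBlock M c)
    {e : Set (IrrCharacter (Subgroup.centralizer (P : Set G)))} (he : IsPBlock M e)
    (hcov : helper80.Covers P H c e) {B : Set (IrrCharacter G)} (hB : IsPBlock M B)
    (hind : IsInducedBlock M H c B) : IsBrauerPairOf p M B P e := by
  classical
  have hMp := isPrime_of_isPModular hM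
  obtain ⟨ξ, hξ⟩ := helper80.isPBlock_nonempty hMp he
  obtain ⟨χ, hχ⟩ := helper80.isPBlock_nonempty hMp hB
  obtain ⟨θ, hl⟩ := helper80.exists_linked hM P H hP hPH hCH ξ
  have hθ : θ ∈ c := helper80.mem_cover_of_linked hMp P H hPH hc hcov
    (helper80.subset_orbSet _ _ e hξ) hl
  have hbr := (helper80.isInducedBlock_iff_brInd hM P H hP hPH hCH hHN hc hB).1 hind θ hθ χ hχ
  have hbr' := helper80.brInd_centralizer_of_linked hMp P H hPH hCH hHN hl hbr
  have := helper80.isBrauerPairOf_of_brInd hM P hP hB hχ hbr'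
  rwa [← helper80.eq_blockOf_of_mem hMp he hξ] at this

end Cfsg.Agent.Lib.helper20
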