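import Mathlib
import Cfsg.Agent.Lib.helper20.PiKer4
import Cfsg.Agent.Lib.helper20.BlockOrth
import Cfsg.Agent.Lib.helper20.SecondMain
import Cfsg.Agent.Lib.helper78.KleinDefect2
import Cfsg.Agent.Lib.helper83.Gagola

/-!
# The `π'`-core in the kernel of the Brauer correspondent (helper20)

* `exists_top_pair`: the Brauer correspondent `B₁` of `B` in `N_G(D)` covers a block `e` of
  `C_G(D)` with `(D, e)` a maximal `B`-pair.
* `kerProp_top_iff`: `O_{π'}(N_G(D)) ≤ ker B₁` iff `O_{π'}(C_G(D)) ≤ ker e`.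
* `trivOnG_centralizer_of_kerProp`: then every block `b` of `C_G(y)` (`y` a `p`-element) inducing
  `B` has `O_{π'}(C_G(y))` in its kernel.
* `char_const_of_kerProp`: and `χ (y x) = χ y` for `χ ∈ B` and `π'`-elements `x` of `C_G(y)`, if
  `C_G(y)` has a normal Hall `π'`-subgroup.
-/

set_option autoImplicit false
open Cfsg

namespace Cfsg.Agent.Lib.helper20

open Cfsg.Agent.Lib.helper81 (irr_classFun irr_one_ne_zero irr_one_eq_charDegree conv)
open Cfsg.Agent.Lib.helper80 (om extFun invAlg)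

universe u

variable {G : Type u} [Group G] [Fintype G] {p : ℕ} [Fact p.Prime] {M : Ideal AlgInt}

/-- The Brauer correspondent covers the block of a maximal pair at the defect group. -/
theorem exists_top_pair (hM : IsPModular p M) {B : Set (IrrCharacter G)} {D : Subgroup G}
    (hBD : IsDefectGroup p M B D)
    [Fintype (Subgroup.normalizer (D : Set G))] [Fintype (Subgroup.centralizer (D : Set G))]
    {B₁ : Set (IrrCharacter (Subgroup.normalizer (D : Set G)))}
    (hB₁ : IsInducedBlock M (Subgroup.normalizer (D : Set G)) B₁ B) :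
    ∃ e : Set (IrrCharacter (Subgroup.centralizer (D : Set G))), IsPBlock M e ∧
      helper80.Covers D (Subgroup.normalizer (D : Set G)) B₁ e ∧
      IsMaximalBrauerPair p M B D e := by
  have hP : IsPGroup p D := helper80.IsDefectGroup.isPGroup hBD
  obtain ⟨e, he, hcov⟩ := helper80.exists_covers hM D (Subgroup.normalizer (D : Set G)) hP
    Subgroup.le_normalizer (Subgroup.centralizer_le_normalizer _) le_rfl hB₁.1
  have hpair := isBrauerPairOf_of_covers hM D (Subgroup.normalizer (D : Set G)) hP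
    Subgroup.le_normalizer (Subgroup.centralizer_le_normalizer _) le_rfl hB₁.1 he hcov hB₁.2.1 hB₁
  exact ⟨e, he, hcov, helper80.isMaximal_of_isDefectGroup hM hpair hBD⟩

omit [Fintype G] in
/-- `O_{π'}(N_G(D))` centralizes the `p`-subgroup `D`, for `p ∈ π`. -/
theorem opiOf_normalizer_le_opiC [Finite G] {π : Set ℕ} (hpπ : p ∈ π) {D : Subgroup G}
    (hD : IsPGroup p D) : opiOf π (Subgroup.normalizer (D : Set G)) ≤ opiC π D := by
  set K := opiOf π (Subgroup.normalizer (D : Set G)) with hK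
  have hKN : K ≤ Subgroup.normalizer (D : Set G) := opiOf_le π _
  have hcop : (Nat.card K).Coprime (Nat.card D) := by
    obtain ⟨n, hn⟩ := hD.exists_card_eq
    rw [hn]
    exact Nat.Coprime.pow_right n (opiOf_coprime hpπ _)
  have hbot : K ⊓ D = ⊥ := (Subgroup.disjoint_of_coprime_natCard hcop).eq_bot
  have hKC : K ≤ Subgroup.centralizer (D : Set G) := by
    intro k hk
    rw [Subgroup.mem_centralizer_iff]
    intro d hd
    have h1 : k * d * k⁻¹ ∈ D := (Subgroup.mem_normalizer_iff.1 (hKN hk) d).1 hd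
    have h2 : d * k⁻¹ * d⁻¹ ∈ K :=
      opiOf_conj_mem π _ d (Subgroup.le_normalizer hd) k⁻¹ (K.inv_mem hk)
    have h3 : k * d * k⁻¹ * d⁻¹ ∈ K ⊓ D := by
      constructor
      · have := K.mul_mem hk h2
        have e : k * (d * k⁻¹ * d⁻¹) = k * d * k⁻¹ * d⁻¹ := by group
        rwa [e] at this
      · exact D.mul_mem h1 (D.inv_mem hd)
    rw [hbot, Subgroup.mem_bot] at h3
    have e : d * k = (k * d * k⁻¹ * d⁻¹)⁻¹ * (k * d) := by group
    rw [e, h3, inv_one, one_mul]
  apply le_opiOf π _ K hKC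
  · intro c hc k hk
    exact opiOf_conj_mem π _ c (Subgroup.centralizer_le_normalizer _ hc) k hk
  · exact opiOf_prime π _

/-- `O_{π'}(N_G(D))` lies in the kernel of `B₁` iff `O_{π'}(C_G(D))` lies in the kernel of the
block `e` of `C_G(D)` covered by `B₁`. -/
theorem kerProp_top_iff (hM : IsPModular p M) {π : Set ℕ} (hpπ : p ∈ π) {D : Subgroup G}
    (hD : IsPGroup p D)
    [Fintype (Subgroup.normalizer (D : Set G))] [Fintype (Subgroup.centralizer (D : Set G))]
    {B₁ : Set (IrrCharacter (Subgroup.normalizer (D : Set G)))} (hB₁ : IsPBlock M B₁)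
    {e : Set (IrrCharacter (Subgroup.centralizer (D : Set G)))} (he : IsPBlock M e)
    (hcov : helper80.Covers D (Subgroup.normalizer (D : Set G)) B₁ e) :
    (∀ n : Subgroup.normalizer (D : Set G),
        n ∈ piCore {q | q ∉ π} (Subgroup.normalizer (D : Set G)) → n ∈ blockKer B₁) ↔
      KerProp π D e := by
  have hiff := covers_trivOnG_iff hM D (Subgroup.normalizer (D : Set G)) hD
    Subgroup.le_normalizer (Subgroup.centralizer_le_normalizer _) hB₁ he hcov (opiC π D)
    (opiOf_le π _) (fun h hh k hk => opiC_conj_of_mem_normalizer π D hh hk)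
    (opiOf_coprime hpπ _)
  have hle : opiC π D ≤ opiOf π (Subgroup.normalizer (D : Set G)) :=
    le_opiOf π _ _ ((opiOf_le π _).trans (Subgroup.centralizer_le_normalizer _))
      (fun h hh k hk => opiC_conj_of_mem_normalizer π D hh hk) (opiOf_prime π _)
  have hge := opiOf_normalizer_le_opiC (G := G) hpπ hD
  constructor
  · intro hker
    apply hiff.1
    intro θ hθ c hc
    exact hker c ((mem_opiOf_iff π _ c).1 (hle hc)) θ hθ
  · intro hK n hn θ hθ
    exact hiff.2 hK θ hθ n (hge ((mem_opiOf_iff π _ n).2 hn))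

omit [Fintype G] [Fact p.Prime] in
theorem trivOnG_castBlk (π : Set ℕ) {H H' : Subgroup G} (h : H = H')
    (b : Set (IrrCharacter H)) :
    (∀ ξ ∈ helper78.castBlk h b, TrivOnG H' (opiOf π H') (ξ : H' → ℂ)) ↔
      (∀ θ ∈ b, TrivOnG H (opiOf π H) (θ : H → ℂ)) := by
  subst h; rfl

/-- If `O_{π'}(C_G(D))` is in the kernel of the block of a maximal `B`-pair, then every block of
`C_G(y)` inducing `B`, `y` a `p`-element, has `O_{π'}(C_G(y))` in its kernel. -/
theorem trivOnG_centralizer_of_kerProp (hM : IsPModular p M) {π : Set ℕ} (hpπ : p ∈ π)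
    {B : Set (IrrCharacter G)} {D : Subgroup G}
    {e : Set (IrrCharacter (Subgroup.centralizer (D : Set G)))}
    (hmax : IsMaximalBrauerPair p M B D e) (hK : KerProp π D e)
    (y : G) (hy : ∃ k : ℕ, orderOf y = p ^ k)
    {b : Set (IrrCharacter (Subgroup.centralizer ({y} : Set G)))}
    (hb : IsInducedBlock M (Subgroup.centralizer ({y} : Set G)) b B) :
    ∀ θ ∈ b, TrivOnG (Subgroup.centralizer ({y} : Set G))
      (opiOf π (Subgroup.centralizer ({y} : Set G)))
      (θ : Subgroup.centralizer ({y} : Set G) → ℂ) := by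
  have hpair := (helper78.induced_iff_pairOf hM y hy b B).1 hb
  obtain ⟨g, hg⟩ := helper80.exists_conj_le_maximal hM hmax hpair
  have h1 := kerProp_of_le hM hpπ hg hK
  have h2 := (kerProp_conj_iff π _ g _).1 h1
  exact (trivOnG_castBlk π (helper78.centralizer_singleton_eq_zpowers y) b).1 h2

/-- Constancy of the characters of `B` on the `π'`-cosets in a `p`-section. -/
theorem char_const_of_kerProp (hM : IsPModular p M) {π : Set ℕ} (hpπ : p ∈ π)
    {B : Set (IrrCharacter G)} (hB : IsPBlock M B) {D : Subgroup G}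
    {e : Set (IrrCharacter (Subgroup.centralizer (D : Set G)))}
    (hmax : IsMaximalBrauerPair p M B D e) (hK : KerProp π D e)
    (y : G) (hy : ∃ k : ℕ, orderOf y = p ^ k)
    (hC : ∀ x ∈ Subgroup.centralizer ({y} : Set G),
      (∀ q : ℕ, q.Prime → q ∣ orderOf x → q ∉ π) → x ∈ opiOf π (Subgroup.centralizer ({y} : Set G)))
    (χ : IrrCharacter G) (hχ : χ ∈ B) (x : G) (hx : x ∈ Subgroup.centralizer ({y} : Set G))
    (hxπ : ∀ q : ℕ, q.Prime → q ∣ orderOf x → q ∉ π) :
    (χ : G → ℂ) (y * x) = (χ : G → ℂ) y := by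
  classical
  have hMp := isPrime_of_isPModular hM
  have hpp : p.Prime := Fact.out
  set C := Subgroup.centralizer ({y} : Set G) with hCdef
  have : Fintype C := Fintype.ofFinite _
  have hyC : y ∈ C := Subgroup.mem_centralizer_singleton_iff.mpr rfl
  have hxy : y * x = x * y := (Subgroup.mem_centralizer_singleton_iff.mp hx).symm
  have hpx : ¬ p ∣ orderOf x := fun hdvd => hxπ p hpp hdvd hpπ
  have hxK : x ∈ opiOf π C := hC x hx hxπ
  -- the p-parts
  have hpart1 : ∀ z : G, IsPPart p (y * x) z → Subgroup.centralizer ({z} : Set G) ≤ C := by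
    intro z hz
    rw [isPPart_unique hpp hz (isPPart_mul hxy hy hpx)]
  have hpart2 : ∀ z : G, IsPPart p y z → Subgroup.centralizer ({z} : Set G) ≤ C := by
    intro z hz
    have h1 : IsPPart p (y * 1) y :=
      isPPart_mul (by rw [mul_one, one_mul]) hy (by rw [orderOf_one]; exact hpp.one_lt.ne' ∘ Nat.dvd_one.1)
    rw [mul_one] at h1
    rw [isPPart_unique hpp hz h1]
  -- the expansion over the blocks of `C`
  have hsum : ∀ h : C, (χ : G → ℂ) (h : G) =
      ∑ b ∈ helper80.blocks M C, ∑ k : C, blockCoeff b k * (χ : G → ℂ) ((k : G) * (h : G)) := by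
    intro h
    have := sum_blocks_sum_blockCoeff_mul (G := C) hMp (fun k => (χ : G → ℂ) ((k : G) * (h : G)))
    rw [this]
    simp
  have h1 := hsum ⟨y * x, C.mul_mem hyC hx⟩
  have h2 := hsum ⟨y, hyC⟩
  show (χ : G → ℂ) (((⟨y * x, C.mul_mem hyC hx⟩ : C) : G)) = (χ : G → ℂ) (((⟨y, hyC⟩ : C) : G))
  rw [h1, h2]
  apply Finset.sum_congr rfl
  intro b hb
  have hbb : IsPBlock M b := helper80.mem_blocks.mp hb
  obtain ⟨B', hB'⟩ := helper78.exists_induced_centralizer hM y hy b hbb
  by_cases hχB' : χ ∈ B'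
  · have hBB' : B' = B := helper80.isPBlock_eq_of_mem hMp hB'.2.1 hB hχB' hχ
    rw [hBB'] at hB'
    have htriv := trivOnG_centralizer_of_kerProp hM hpπ hmax hK y hy hB'
    set ϑ : C → ℂ := fun c => (χ : G → ℂ) (c : G) with hϑ
    have hϑcf : IsClassFunction C ϑ := fun g h => irr_classFun χ (g : G) (h : G)
    have e1 := finsum_classInner_eq_sum b ϑ hϑcf ⟨y * x, C.mul_mem hyC hx⟩
    have e2 := finsum_classInner_eq_sum b ϑ hϑcf ⟨y, hyC⟩
    have e3 : ∀ h : C, ∑ k : C, blockCoeff b k * (χ : G → ℂ) ((k : G) * (h : G))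
        = ∑ k : C, blockCoeff b k * ϑ (k * h) := fun h => rfl
    rw [e3, e3, ← e1, ← e2]
    apply finsum_mem_congr rfl
    intro θ hθ
    congr 1
    have hker : (θ : C → ℂ) ⟨x, hx⟩ = (θ : C → ℂ) 1 := htriv θ hθ ⟨x, hx⟩ hxK
    have := helper83.isCharacter_mul_ker (helper83.isCharacter_of_irr θ.2) hker ⟨y, hyC⟩
    exact this
  · rw [sum_blockCoeff_mul_eq_zero hM C b B' hB' ⟨y * x, C.mul_mem hyC hx⟩ hpart1 χ hχB',
      sum_blockCoeff_mul_eq_zero hM C b B' hB' ⟨y, hyC⟩ hpart2 χ hχB']

end Cfsg.Agent.Lib.helper20
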