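import Mathlib
import Cfsg.Agent.Lib.helper20.PiKer5
import Cfsg.Agent.Lib.helper80.PairTop
import Cfsg.Agent.Lib.helper80.RelPair
import Cfsg.Agent.Lib.helper77.FongReynolds

/-!
# The `π'`-core in the kernel: descent to subgroups containing a centralizer (helper20)

* `exists_pair_of_defect`: a block has a Brauer pair at each of its defect groups.
* `isBrauerPairOf_up`: a Brauer pair `(R', e')` of a block `B₀` of a subgroup `T` with
  `C_G(R') ≤ T` is a Brauer pair of the block of `G` induced by `B₀`.
* `subset_trivOn_of_pair`: a normal `p'`-subgroup `K` of `G` with `K ∩ C_G(P)` in the kernel of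
  the block `e` of a `B`-pair `(P, e)` lies in the kernel of `B`.
* `ker_of_induced`: the descent of the kernel property to `T`.
-/

set_option autoImplicit false
open Cfsg

namespace Cfsg.Agent.Lib.helper20

open Cfsg.Agent.Lib.helper81 (irr_classFun irr_one_ne_zero irr_one_eq_charDegree conv)
open Cfsg.Agent.Lib.helper80 (om extFun invAlg)

universe u

variable {G : Type u} [Group G] [Fintype G] {p : ℕ} [Fact p.Prime] {M : Ideal AlgInt}

/-- A block has a Brauer pair at each defect group. -/
theorem exists_pair_of_defect (hM : IsPModular p M) {B : Set (IrrCharacter G)}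
    (hB : IsPBlock M B) {D : Subgroup G} (hD : IsDefectGroup p M B D) :
    ∃ e : Set (IrrCharacter (Subgroup.centralizer (D : Set G))), IsBrauerPairOf p M B D e := by
  classical
  have hMp := isPrime_of_isPModular hM
  obtain ⟨g, hg, hs⟩ := (helper80.isDefectGroup_iff p M B D).1 hD
  have hDp := helper80.IsSylowCent.isPGroup hs
  have hgC : g ∈ Subgroup.centralizer (D : Set G) := by
    rw [Subgroup.mem_centralizer_iff]
    intro d hd
    exact (helper80.mem_centralizer_singleton.1 (helper80.IsSylowCent.le hs hd)).symm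
  have hcl := helper80.classAlg_blockCoeff hMp hB
  have hconv : ∀ x, conv (blockCoeff B) (blockCoeff B) x = blockCoeff B x := by
    intro x
    rw [helper80.conv_blockCoeff, Set.inter_self]
  obtain ⟨ξ₂, hξ₂⟩ := helper80.exists_brauerOmega_sub_one hM D hDp (blockCoeff B)
    (fun u _ x => hcl.1 x u) (fun u _ x => hcl.1 x u) hcl.2 hconv hgC hg.2.1
  refine ⟨blockOf M (ξ₂ : Subgroup.centralizer (D : Set G) → ℂ),
    ⟨hDp, helper80.isPBlock_blockOf M ξ₂⟩, hB, ?_⟩
  intro ξ hξ
  have h1 := helper80.memLocalIdeal_brauerOmega_sub hMp D (blockCoeff B)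
    (fun u _ x => hcl.1 x u) hcl.2 ξ₂ ξ hξ
  have := memLocalIdeal_sub hMp hξ₂ h1
  rwa [sub_sub_sub_cancel_left] at this

omit [Fact p.Prime] in
/-- The idempotent of the induced block restricted to the subgroup has central character value
`1` modulo the local ideal on the inducing block. -/
theorem memLocalIdeal_om_res_sub_one (hM : M.IsPrime) (T : Subgroup G) [Fintype T]
    {B₀ : Set (IrrCharacter T)} {B : Set (IrrCharacter G)} (hind : IsInducedBlock M T B₀ B)
    {θ : IrrCharacter T} (hθ : θ ∈ B₀) :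
    MemLocalIdeal M (om (θ : T → ℂ) (fun c : T => blockCoeff B (c : G)) - 1) := by
  classical
  have hB := hind.2.1
  obtain ⟨χ, hχ⟩ := helper80.isPBlock_nonempty hM hB
  have hbot : ∀ h : T, (h : G) ∈ Subgroup.centralizer (((⊥ : Subgroup G) : Subgroup G) : Set G) := by
    intro h
    rw [Subgroup.mem_centralizer_iff]
    intro x hx
    have hx1 : x = 1 := Subgroup.mem_bot.1 hx
    rw [hx1, one_mul, mul_one]
  have hbr : helper80.BrInd M ⊥ T (θ : T → ℂ) (χ : G → ℂ) := by
    rw [helper80.brInd_iff_classInd hM]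
    intro g
    have h1 := hind.2.2 θ hθ χ hχ g
    rw [helper77.inducedCentralChar_eq_om] at h1
    have h2 : helper80.brH ⊥ T (helper80.classInd g) = helper77.resClassInd T g := by
      funext h
      rw [helper80.brH_of_mem ⊥ T _ (hbot h)]
      rfl
    rw [h2]
    exact h1
  have h3 := hbr _ (helper80.classAlg_blockCoeff hM hB)
  rw [helper80.om_blockCoeff, if_pos hχ] at h3
  have h4 : helper80.brH ⊥ T (blockCoeff B) = fun c : T => blockCoeff B (c : G) := by
    funext h
    rw [helper80.brH_of_mem ⊥ T _ (hbot h)]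
  rw [h4] at h3
  exact h3

/-- A Brauer pair of a block `B₀` of `T`, at a subgroup `R'` whose centralizer in `G` lies in
`T`, is a Brauer pair of the block of `G` induced by `B₀`. -/
theorem isBrauerPairOf_up (hM : IsPModular p M) (T : Subgroup G) [Fintype T]
    {B₀ : Set (IrrCharacter T)} {B : Set (IrrCharacter G)} (hind : IsInducedBlock M T B₀ B)
    {R' : Subgroup T} {e' : Set (IrrCharacter (Subgroup.centralizer (R' : Set T)))}
    (hpair : IsBrauerPairOf p M B₀ R' e') (R : Subgroup G) (h : helper80.CentRel T R' R)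
    (hR : IsPGroup p R) : IsBrauerPairOf p M B R (helper80.upBlock T R' R h e') := by
  classical
  have hMp := isPrime_of_isPModular hM
  have hB := hind.2.1
  refine ⟨⟨hR, helper80.isPBlock_upBlock T R' R h hpair.1.2⟩, hB, ?_⟩
  intro ξ hξ
  obtain ⟨ξ', hξ', rfl⟩ := helper80.exists_of_mem_upBlock T R' R h hξ
  rw [helper80.brauerOmega_relCent T R' R h (blockCoeff B) ξ']
  have : Fintype (Subgroup.centralizer (R' : Set T)) := Fintype.ofFinite _
  obtain ⟨θ, hθ, hbr⟩ := helper80.exists_brInd_of_isBrauerPairOf hM R' hpair hξ'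
  have hcl := helper80.classAlg_blockCoeff hMp hB
  have hz : helper80.classAlg M (fun c : T => blockCoeff B (c : G)) :=
    ⟨fun g h => hcl.1 (g : G) (h : G), fun g => hcl.2 (g : G)⟩
  have h1 := hbr _ hz
  have h2 := memLocalIdeal_om_res_sub_one hMp T hind hθ
  have h3 : om (ξ' : Subgroup.centralizer (R' : Set T) → ℂ)
      (helper80.brH R' (Subgroup.centralizer (R' : Set T)) (fun c : T => blockCoeff B (c : G)))
      = brauerOmega R' (fun c : T => blockCoeff B (c : G))
        (ξ' : Subgroup.centralizer (R' : Set T) → ℂ) := by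
    rw [helper80.brauerOmega_eq_om]
    apply helper80.om_congr
    intro x
    rw [helper80.brH_of_mem _ _ _ x.2]
  rw [h3] at h1
  have := memLocalIdeal_add hMp h1 h2
  rwa [sub_add_sub_cancel] at this

/-- A normal `p'`-subgroup whose intersection with `C_G(P)` lies in the kernel of the block `e`
of a Brauer pair `(P, e)` of `B` lies in the kernel of `B`. -/
theorem subset_trivOn_of_pair (hM : IsPModular p M) {B : Set (IrrCharacter G)} {P : Subgroup G}
    {e : Set (IrrCharacter (Subgroup.centralizer (P : Set G)))}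
    (hpair : IsBrauerPairOf p M B P e) (K : Subgroup G) [hKn : K.Normal]
    (hKp : (Nat.card K).Coprime p)
    (hK : ∀ ξ ∈ e, TrivOnG (Subgroup.centralizer (P : Set G)) K
      (ξ : Subgroup.centralizer (P : Set G) → ℂ)) : B ⊆ trivOn K := by
  classical
  have hMp := isPrime_of_isPModular hM
  have hB := hpair.2.1
  have hP := hpair.1.1
  obtain ⟨ξ, hξ⟩ := helper80.isPBlock_nonempty hMp hpair.1.2
  have hcl := helper80.classAlg_blockCoeff hMp hB
  have hkcf := kap_classFun K
  have hkloc := memLocalRing_kap hM K hKp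
  have hmul := helper80.brauerOmega_conv hM P hP (blockCoeff B) (kap K)
    (fun u _ x => hcl.1 x u) (fun u _ x => hkcf x u) (fun u _ x => hcl.1 x u)
    (fun u _ x => hkcf x u) hcl.2 hkloc ξ
  have hconv : conv (blockCoeff B) (kap K) = blockCoeff (B ∩ trivOn K) :=
    funext (conv_blockCoeff_kap B K)
  rw [hconv] at hmul
  have hKc : ∀ c ∈ Subgroup.centralizer (P : Set G), ∀ k ∈ K, c * k * c⁻¹ ∈ K :=
    fun c _ k hk => hKn.conj_mem k hk c
  rw [brauerOmega_kap P K hKc ξ, if_pos (hK ξ hξ), mul_one] at hmul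
  have hcopK' : (Nat.card (K.subgroupOf (Subgroup.centralizer (P : Set G)))).Coprime p :=
    Nat.Coprime.coprime_dvd_left (card_subgroupOf_dvd _ K) hKp
  have hne : (B ∩ trivOn K).Nonempty := by
    by_contra hempty
    rw [Set.not_nonempty_iff_eq_empty] at hempty
    rw [hempty] at hmul
    have h0 : brauerOmega P (blockCoeff (∅ : Set (IrrCharacter G)))
        (ξ : Subgroup.centralizer (P : Set G) → ℂ) = 0 := by
      rw [helper80.brauerOmega_congr P (β₂ := fun _ => 0)
        (fun x _ => helper80.blockCoeff_empty x)]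
      exact helper80.brauerOmega_zero P _
    rw [h0, zero_sub] at hmul
    have hmul' := memLocalIdeal_neg hmul
    rw [neg_neg] at hmul'
    have hA : ¬ MemLocalIdeal M (brauerOmega P (blockCoeff B)
        (ξ : Subgroup.centralizer (P : Set G) → ℂ)) := by
      intro hA
      have h1 := memLocalIdeal_sub hMp hA (hpair.2.2 ξ hξ)
      rw [sub_sub_cancel] at h1
      exact not_memLocalIdeal_one h1
    have hAloc : MemLocalRing M (brauerOmega P (blockCoeff B)
        (ξ : Subgroup.centralizer (P : Set G) → ℂ)) :=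
      helper80.memLocalRing_brauerOmega hMp P _ (fun u _ x => hcl.1 x u) hcl.2 ξ
    exact not_memLocalIdeal_mul hMp hAloc (memLocalRing_natCast_div hM _ _ hKp) hA
      (not_memLocalIdeal_natCast_div hM _ _ hcopK' Nat.card_pos) hmul'
  obtain ⟨θ₀, hθ₀B, hθ₀⟩ := hne
  exact subset_trivOn_of_mem hM K hKp hB hθ₀B hθ₀

omit [Fintype G] [Fact p.Prime] in
theorem opiOf_inf_le [Finite G] (π : Set ℕ) {H H' : Subgroup G} (h : H' ≤ H) :
    opiOf π H ⊓ H' ≤ opiOf π H' := by
  apply le_opiOf π _ _ inf_le_right
  · intro c hc k hk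
    exact ⟨opiOf_conj_mem π _ c (h hc) k hk.1, H'.mul_mem (H'.mul_mem hc hk.2) (H'.inv_mem hc)⟩
  · intro q hq hdvd
    exact opiOf_prime π _ q hq (hdvd.trans (Subgroup.card_dvd_of_le inf_le_left))

/-- Descent of the kernel property to a subgroup `T` containing the centralizer of a defect group
of a block `B₀` of `T` inducing `B`. -/
theorem ker_of_induced (hM : IsPModular p M) {π : Set ℕ} (hpπ : p ∈ π)
    {B : Set (IrrCharacter G)} {D : Subgroup G}
    {e : Set (IrrCharacter (Subgroup.centralizer (D : Set G)))}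
    (hmax : IsMaximalBrauerPair p M B D e) (hK : KerProp π D e) (T : Subgroup G)
    {B₀ : Set (IrrCharacter T)} (hB₀ : IsInducedBlock M T B₀ B) {D₀ : Subgroup T}
    (hD₀ : IsDefectGroup p M B₀ D₀)
    (hC : Subgroup.centralizer ((D₀.map T.subtype : Subgroup G) : Set G) ≤ T) :
    ∀ x : T, x ∈ piCore {q | q ∉ π} T → x ∈ blockKer B₀ := by
  classical
  have : Fintype T := Fintype.ofFinite _
  obtain ⟨e', hpair'⟩ := exists_pair_of_defect (G := T) hM hB₀.1 hD₀
  have hrel := helper80.centRel_map T D₀ hC
  have hRp : IsPGroup p (D₀.map T.subtype) := hpair'.1.1.map _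
  have hpairG := isBrauerPairOf_up hM T hB₀ hpair' (D₀.map T.subtype) hrel hRp
  obtain ⟨x, hle⟩ := helper80.exists_conj_le_maximal hM hmax hpairG
  have hKR : KerProp π (D₀.map T.subtype) (helper80.upBlock T D₀ (D₀.map T.subtype) hrel e') :=
    (kerProp_conj_iff π _ x _).1 (kerProp_of_le hM hpπ hle hK)
  have hKT : ∀ ξ' ∈ e', TrivOnG (Subgroup.centralizer (D₀ : Set T)) (piCore {q | q ∉ π} T)
      (ξ' : Subgroup.centralizer (D₀ : Set T) → ℂ) := by
    intro ξ' hξ' c' hc'
    have hmem := (helper80.irrMap_mem_upBlock T D₀ (D₀.map T.subtype) hrel e' ξ').2 hξ'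
    have hcG : (((c' : T) : G)) ∈ opiC π (D₀.map T.subtype) := by
      apply opiOf_inf_le π hC
      exact ⟨(mem_opiOf_iff π T (c' : T)).2 hc', (hrel _).2 ⟨(c' : T).2, c'.2⟩⟩
    have h1 := hKR _ hmem (helper80.relCent T D₀ (D₀.map T.subtype) hrel c') hcG
    rw [helper80.irrMap_apply', helper80.irrMap_apply, map_one] at h1
    exact h1
  have hcop : (Nat.card (piCore {q | q ∉ π} T)).Coprime p := by
    apply Nat.Coprime.symm
    rw [Nat.Prime.coprime_iff_not_dvd (Fact.out : p.Prime)]
    intro hdvd
    exact helper65.piCore_isPiGrp {q | q ∉ π} p Fact.out hdvd hpπ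
  have hsub := subset_trivOn_of_pair (G := T) hM hpair' (piCore {q | q ∉ π} T) hcop hKT
  intro x hx θ hθ
  exact hsub hθ x hx

end Cfsg.Agent.Lib.helper20
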