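import Mathlib
import Cfsg.Agent.Lib.helper20.QuotBlock2

/-!
# Defect groups of blocks of a quotient (helper20)

* `exists_coeff_mul_centralChar`: for `χ ∈ B` there is a class on which both the idempotent
  coefficient of `B` and the central character of `χ` are units of the local ring;
* `isSylowCent_map_of_not_dvd`: if the class of `g` and of its image in `G ⧸ N` have sizes with
  quotient prime to `p`, then the image of a Sylow `p`-subgroup of `C_G(g)` is a Sylow
  `p`-subgroup of the centralizer of the image;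
* `exists_defectGroup_map_ge`: a block `B̄` of `G ⧸ N` contained in `B` has its defect groups
  inside images of defect groups of `B` (Navarro 9.9(a)).
-/

set_option autoImplicit false
open Cfsg

namespace Cfsg.Agent.Lib.helper20

open Cfsg.Agent.Lib.helper81 (irr_classFun irr_one_ne_zero irr_one_eq_charDegree)
open scoped ComplexConjugate

universe u

/-- For `χ ∈ B` there is an element at which the product of the idempotent coefficient of `B`
and the central character of `χ` is outside the local ideal. -/
theorem exists_coeff_mul_centralChar {G : Type u} [Group G] [Fintype G] {M : Ideal AlgInt}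
    (hMp : M.IsPrime) (B : Set (IrrCharacter G)) {χ : IrrCharacter G} (hχ : χ ∈ B) :
    ∃ g : G, ¬ MemLocalIdeal M (blockCoeff B g * centralChar (χ : G → ℂ) g) := by
  classical
  by_contra hcon
  push Not at hcon
  have h1 : helper80.om (χ : G → ℂ) (blockCoeff B) = 1 := by
    rw [helper80.om_blockCoeff, if_pos hχ]
  have h2 : MemLocalIdeal M (helper80.om (χ : G → ℂ) (blockCoeff B)) := by
    unfold helper80.om
    rw [Finset.sum_div]
    apply sum_conj_stable_induction (MemLocalIdeal M) (memLocalIdeal_zero hMp)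
      (fun _ _ => memLocalIdeal_add hMp)
    · intro x _ y _; exact Finset.mem_univ y
    · intro x y hxy
      obtain ⟨c, rfl⟩ := isConj_iff.mp hxy
      rw [helper80.blockCoeff_classFun B x c, irr_classFun χ x c]
    · intro x _
      have := hcon x
      unfold centralChar at this
      convert this using 1
      ring
  rw [h1] at h2
  exact not_memLocalIdeal_one h2

/-- If `Q` is a Sylow `p`-subgroup of `C_G(g)` and the quotient of the class sizes of `g` in `G`
and of its image in `G ⧸ N` is prime to `p`, then the image of `Q` is a Sylow `p`-subgroup of the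
centralizer of the image of `g`. -/
theorem isSylowCent_map_of_not_dvd {G : Type u} [Group G] [Finite G] {p : ℕ} [Fact p.Prime]
    (N : Subgroup G) [N.Normal] (g : G) {Q : Subgroup G} (hQ : helper80.IsSylowCent p g Q)
    (r : ℕ) (hr : (Subgroup.centralizer ({g} : Set G)).index =
      r * (Subgroup.centralizer ({(g : G ⧸ N)} : Set (G ⧸ N))).index) (hpr : ¬ p ∣ r) :
    helper80.IsSylowCent p (g : G ⧸ N) (Q.map (QuotientGroup.mk' N)) := by
  have hp : p.Prime := Fact.out
  have hle : Q.map (QuotientGroup.mk' N) ≤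
      Subgroup.centralizer ({(g : G ⧸ N)} : Set (G ⧸ N)) := by
    intro q hq
    obtain ⟨d, hd, rfl⟩ := hq
    have h1 : g * d = d * g := helper80.mem_centralizer_singleton.1 (hQ.le hd)
    rw [helper80.mem_centralizer_singleton]
    have h2 := congrArg (QuotientGroup.mk' N) h1
    rw [map_mul, map_mul] at h2
    exact h2
  apply helper80.isSylowCent_of_card hle
  set C := Subgroup.centralizer ({g} : Set G) with hC
  set Cb := Subgroup.centralizer ({(g : G ⧸ N)} : Set (G ⧸ N)) with hCb
  set Qb := Q.map (QuotientGroup.mk' N) with hQb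
  -- index of `Qb` divides index of `Q`
  have hdvd : Qb.index ∣ Q.index := by
    exact Subgroup.index_map_dvd Q (QuotientGroup.mk'_surjective N)
  have h1 : Qb.relIndex Cb * Cb.index = Qb.index := Subgroup.relIndex_mul_index hle
  have h2 : Q.relIndex C * C.index = Q.index := Subgroup.relIndex_mul_index hQ.le
  have hCbpos : 0 < Cb.index := Nat.pos_of_ne_zero Subgroup.index_ne_zero_of_finite
  have hdvd2 : Qb.relIndex Cb ∣ Q.relIndex C * r := by
    rw [← h1, ← h2, hr] at hdvd
    have : Qb.relIndex Cb * Cb.index ∣ (Q.relIndex C * r) * Cb.index := by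
      rw [mul_assoc]; exact hdvd
    exact Nat.dvd_of_mul_dvd_mul_right hCbpos this
  -- `[C : Q]` is prime to `p`
  have hcardQ := hQ.card
  have hQC : Q.relIndex C * Nat.card Q = Nat.card C := by
    have e1 := Subgroup.index_mul_card Q
    have e2 := Subgroup.index_mul_card C
    have hCpos : 0 < C.index := Nat.pos_of_ne_zero Subgroup.index_ne_zero_of_finite
    apply Nat.eq_of_mul_eq_mul_left hCpos
    rw [e2, ← e1, ← h2]; ring
  have hQbC : Qb.relIndex Cb * Nat.card Qb = Nat.card Cb := by
    have e1 := Subgroup.index_mul_card Qb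
    have e2 := Subgroup.index_mul_card Cb
    apply Nat.eq_of_mul_eq_mul_left hCbpos
    rw [e2, ← e1, ← h1]; ring
  have hnd : ¬ p ∣ Q.relIndex C := by
    intro hd
    have hCne : Nat.card C ≠ 0 := Nat.card_pos.ne'
    have : p ^ ((Nat.card C).factorization p + 1) ∣ Nat.card C := by
      obtain ⟨m, hm⟩ := hd
      refine ⟨m, ?_⟩
      rw [pow_succ, ← hcardQ, ← hQC, hm]
      ring
    have h3 := (hp.pow_dvd_iff_le_factorization hCne).1 this
    omega
  have hnd2 : ¬ p ∣ Qb.relIndex Cb := by
    intro hd
    rcases (hp.dvd_mul).1 (hd.trans hdvd2) with h | h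
    · exact hnd h
    · exact hpr h
  -- `Qb` is a `p`-group
  have hQp : IsPGroup p Q := hQ.isPGroup
  have hQbp : IsPGroup p Qb := hQp.map _
  obtain ⟨k, hk⟩ := IsPGroup.exists_card_eq hQbp
  have hrel0 : Qb.relIndex Cb ≠ 0 := by
    intro h0
    rw [h0, zero_mul] at hQbC
    exact Nat.card_pos.ne' hQbC.symm
  rw [← hQbC, hk, Nat.factorization_mul hrel0 (pow_ne_zero _ hp.ne_zero), Finsupp.add_apply,
    hp.factorization_pow, Finsupp.single_eq_same,
    Nat.factorization_eq_zero_of_not_dvd hnd2, zero_add]

/-- Navarro 9.9(a): if the block `B̄` of `G ⧸ N` is contained in the block `B` of `G`, then every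
defect group of `B̄` is contained in the image of a defect group of `B`. -/
theorem exists_defectGroup_map_ge {G : Type u} [Group G] [Finite G] {p : ℕ} [Fact p.Prime]
    {M : Ideal AlgInt} (hM : IsPModular p M) (N : Subgroup G) [N.Normal]
    {Bbar : Set (IrrCharacter (G ⧸ N))} (hBbar : IsPBlock M Bbar)
    {B : Set (IrrCharacter G)} (hB : IsPBlock M B) (hsub : Bbar ⊆ inflSet N B)
    {Dbar : Subgroup (G ⧸ N)} (hDbar : IsDefectGroup p M Bbar Dbar) :
    ∃ P : Subgroup G, IsDefectGroup p M B P ∧ Dbar ≤ P.map (QuotientGroup.mk' N) := by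
  classical
  cases nonempty_fintype G
  cases nonempty_fintype (G ⧸ N)
  have hp : p.Prime := Fact.out
  have hMp := isPrime_of_isPModular hM
  obtain ⟨ψ, hψ⟩ := helper80.isPBlock_nonempty hMp hBbar
  have hχ : inflIrr N ψ ∈ B := hsub hψ
  obtain ⟨g, hg⟩ := exists_coeff_mul_centralChar hMp B hχ
  have hg1 : ¬ MemLocalIdeal M (blockCoeff B g) := fun h =>
    hg (memLocalIdeal_mul_right hMp h (helper80.memLocalRing_centralChar hMp _ g))
  have hg2 : ¬ MemLocalIdeal M (centralChar (inflIrr N ψ : G → ℂ) g) := fun h =>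
    hg (memLocalIdeal_mul_left hMp (helper81.memLocalRing_blockCoeff hMp hB g) h)
  -- the ratio of class sizes
  obtain ⟨r, hr⟩ := helper81.index_centralizer_quotient_dvd N g
  have hr' : (Subgroup.centralizer ({g} : Set G)).index =
      r * (Subgroup.centralizer ({(g : G ⧸ N)} : Set (G ⧸ N))).index := by
    rw [hr, mul_comm]
  have hcc : centralChar (inflIrr N ψ : G → ℂ) g =
      (r : ℂ) * centralChar (ψ : G ⧸ N → ℂ) (g : G ⧸ N) := by
    unfold centralChar
    rw [hr', inflIrr_apply, inflIrr_apply]
    push_cast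
    have : (((1 : G) : G ⧸ N)) = 1 := rfl
    rw [this]
    ring
  have hpr : ¬ p ∣ r := by
    intro hd
    obtain ⟨k, rfl⟩ := hd
    apply hg2
    rw [hcc]
    push_cast
    rw [mul_assoc]
    exact memLocalIdeal_mul_right hMp (memLocalIdeal_of_mem hMp hM.2.2)
      (memLocalRing_mul hMp (memLocalRing_natCast hMp k)
        (helper80.memLocalRing_centralChar hMp ψ _))
  have hg3 : ¬ MemLocalIdeal M (centralChar (ψ : G ⧸ N → ℂ) (g : G ⧸ N)) := by
    intro h
    apply hg2
    rw [hcc]
    exact memLocalIdeal_mul_left hMp (memLocalRing_natCast hMp r) h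
  -- a Sylow subgroup of the centralizer of `g` lies in a defect group of `B`
  obtain ⟨Q, hQ⟩ := helper80.exists_isSylowCent p g
  obtain ⟨P₀, hP₀⟩ := helper80.exists_isDefectGroup p hMp hB
  have hgQ : g ∈ Subgroup.centralizer (Q : Set G) := by
    rw [Subgroup.mem_centralizer_iff]
    intro q hq
    exact (helper80.mem_centralizer_singleton.1 (hQ.le hq)).symm
  obtain ⟨x, hx⟩ := helper80.IsDefectGroup.exists_conj_mem hM hB hP₀ Q hQ.isPGroup g hgQ hg1
  -- the defect group of `Bbar` is conjugate into the centralizer of the image of `g`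
  obtain ⟨y, hy⟩ := helper80.IsDefectGroup.exists_conj_mem_centralizer hM hBbar hDbar hψ
    (g : G ⧸ N) hg3
  have hQb := isSylowCent_map_of_not_dvd N g hQ r hr' hpr
  have hD1le : Dbar.map (MulAut.conj y).toMonoidHom ≤
      Subgroup.centralizer ({(g : G ⧸ N)} : Set (G ⧸ N)) := by
    rintro _ ⟨d, hd, rfl⟩
    exact hy d hd
  have hD1p : IsPGroup p (Dbar.map (MulAut.conj y).toMonoidHom) :=
    (helper80.IsDefectGroup.isPGroup hDbar).map _
  obtain ⟨c, _, hc⟩ := hQb.exists_conj_mem _ hD1p hD1le
  -- assemble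
  obtain ⟨z, hz⟩ := QuotientGroup.mk'_surjective N (y⁻¹ * c)
  refine ⟨(P₀.map (MulAut.conj x).toMonoidHom).map (MulAut.conj z).toMonoidHom,
    helper80.IsDefectGroup.conj (helper80.IsDefectGroup.conj hP₀ x) z, ?_⟩
  intro d hd
  have h1 : c⁻¹ * (y * d * y⁻¹) * c ∈ Q.map (QuotientGroup.mk' N) :=
    hc _ ⟨d, hd, rfl⟩
  obtain ⟨q, hq, hqe⟩ := h1
  refine ⟨z * q * z⁻¹, ?_, ?_⟩
  · refine ⟨q, ?_, rfl⟩
    exact helper80.mem_map_conj.2 (hx q hq)
  · rw [map_mul, map_mul, map_inv, hz, hqe]
    group

end Cfsg.Agent.Lib.helper20
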