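import Mathlib
import Cfsg.Prelude.Def_FusionSystem
import Cfsg.Prelude.Def_FusionComponents
import Cfsg.Agent.Lib.helper90.Realized
import Cfsg.Agent.Lib.helper88.Residual
import Cfsg.Agent.Lib.helper26.RS_C2
import Cfsg.Agent.Lib.helper26.PResidual
import Cfsg.Agent.Lib.helper53.PCore
import Cfsg.Agent.Lib.helper54.CharP
import Cfsg.Agent.Lib.helper39.RS_D1

/-!
# S5156 piece RS-D (helper20): the model of `O^p(E)` is `O^p(H)`

If `H` (through `ι`) is a model of the fusion system `E` over `S`, then the `p`-residual subsystem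
`D` of `E` (over the hyperfocal subgroup) has the model `O^p(H)`.
-/

set_option autoImplicit false

open Cfsg Cfsg.FusionSystem

namespace Cfsg.Agent.Lib.helper20.RS

/-- A power of `g` which is a `p'`-element, with exponent `≡ 1` modulo a given number prime to
`p`. -/
theorem exists_pow_pprimeElement {G : Type*} [Group G] [Finite G] (p : ℕ) [Fact p.Prime] (g : G)
    (o : ℕ) (ho : o.Coprime p) :
    ∃ e : ℕ, e ≡ 1 [MOD o] ∧ (orderOf (g ^ e)).Coprime p := by
  have hp : p.Prime := Fact.out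
  have hn : orderOf g ≠ 0 := (orderOf_pos g).ne'
  obtain ⟨a, m, hm, hnm⟩ := Nat.exists_eq_pow_mul_and_not_dvd hn p hp.ne_one
  have hco : o.Coprime (p ^ a) := Nat.Coprime.pow_right a ho
  obtain ⟨e, he1, he0⟩ := Nat.chineseRemainder hco 1 0
  refine ⟨e, he1, ?_⟩
  have hpe : p ^ a ∣ e := (Nat.modEq_zero_iff_dvd).1 he0
  have h1 : (g ^ e) ^ m = 1 := by
    rw [← pow_mul]
    apply orderOf_dvd_iff_pow_eq_one.1
    rw [hnm]
    exact Nat.mul_dvd_mul hpe dvd_rfl
  have h2 : orderOf (g ^ e) ∣ m := orderOf_dvd_of_pow_eq_one h1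
  exact Nat.Coprime.coprime_dvd_left h2 ((Nat.Prime.coprime_iff_not_dvd hp).2 hm).symm

/-- The subsystem of a realized system cut out by `O^p` of the realizing group has `p`-power
index. -/
theorem normalSubsystem_pPowerIndex {Ω : Type*} [Group Ω] {S : Subgroup Ω} (p : ℕ) [Fact p.Prime]
    (E : Cfsg.FusionSystem S) {H : Type*} [Group H] [Finite H] (ι : S →* H)
    (hR : E.IsRealizedBy ι)
    (hhyp : E.hyperfocalSubgroup p ≤ Cfsg.Agent.Lib.helper90.preT ι (Cfsg.pResidual p H)) :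
    (Cfsg.Agent.Lib.helper90.normalSubsystem E ι (Cfsg.pResidual p H)).HasPPowerIndexIn E p := by
  refine ⟨?_, hhyp, ?_⟩
  · intro P φ hφ
    exact hφ.1
  · intro P hP
    rw [Subgroup.map_le_iff_le_comap]
    have hres : Cfsg.pResidual p (E.autGroup P) =
        Subgroup.closure {g : E.autGroup P | Nat.Coprime (orderOf g) p} := rfl
    rw [hres, Subgroup.closure_le]
    intro α hα
    have hα' : Nat.Coprime (orderOf α) p := hα
    show ((α : MulAut P)) ∈
      (Cfsg.Agent.Lib.helper90.normalSubsystem E ι (Cfsg.pResidual p H)).autGroup P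
    apply Subgroup.subset_closure
    show P.subtype.comp (α : MulAut P).toMonoidHom ∈
      (Cfsg.Agent.Lib.helper90.normalSubsystem E ι (Cfsg.pResidual p H)).Hom P
    have hPS : P ≤ S := hP.trans (Cfsg.Agent.Lib.helper90.preT_le ι _)
    rw [Cfsg.Agent.Lib.helper90.mem_normalSubsystem_iff hR hP
      (fun x => hP ((α : MulAut P) x).2)]
    obtain ⟨g, hg⟩ := Cfsg.Agent.Lib.helper26.RS.autGroup_realized E ι hR P hPS (α : MulAut P) α.2
    have hord : (orderOf (α : MulAut P)).Coprime p := by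
      rw [Subgroup.orderOf_coe]; exact hα'
    obtain ⟨e, he1, hcop⟩ := exists_pow_pprimeElement p g (orderOf (α : MulAut P)) hord
    refine ⟨g ^ e, Subgroup.subset_closure hcop, ?_⟩
    have hpow : (α : MulAut P) ^ e = (α : MulAut P) := by
      have : (α : MulAut P) ^ e = (α : MulAut P) ^ 1 := by
        rw [pow_eq_pow_iff_modEq]
        exact he1
      rw [this, pow_one]
    intro x
    have h5 := Cfsg.Agent.Lib.helper26.RS.autGroup_realized_pow ι P hPS (α : MulAut P) g hg e x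
    have h6 : ι ⟨((((α : MulAut P) ^ e) x : P) : Ω), hPS (((α : MulAut P) ^ e) x).2⟩
        = ι ⟨(((α : MulAut P) x : P) : Ω), hPS ((α : MulAut P) x).2⟩ := by
      congr 2
      rw [hpow]
    rw [h6] at h5
    exact h5

/-- The transport-friendly form of RS-D: `D` lives over any subgroup `T` equal to `ι⁻¹(O^p(H))`. -/
theorem model_pResidual_aux {Ω : Type*} [Group Ω] {S : Subgroup Ω} (p : ℕ)
    [Fact p.Prime] (E : Cfsg.FusionSystem S)
    {H : Type*} [Group H] (ι : S →* H) (hM : E.IsModel p H ι)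
    (T : Subgroup Ω) (hT : Cfsg.Agent.Lib.helper90.preT ι (Cfsg.pResidual p H) = T)
    (hhyp : E.hyperfocalSubgroup p ≤ T)
    (D : Cfsg.FusionSystem T) (hD : D.IsSaturated p ∧ D.HasPPowerIndexIn E p)
    (huniq : ∀ D₁ D₂ : Cfsg.FusionSystem T, (D₁.IsSaturated p ∧ D₁.HasPPowerIndexIn E p) →
      (D₂.IsSaturated p ∧ D₂.HasPPowerIndexIn E p) → D₁ = D₂) :
    ∃ ιK : ↥T →* ↥(Cfsg.pResidual p H), D.IsModel p ↥(Cfsg.pResidual p H) ιK := by
  obtain ⟨hfin, hR, ⟨T₀, hT₀⟩, hcent⟩ := hM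
  haveI := hfin
  haveI hKn : (Cfsg.pResidual p H).Normal := Cfsg.Agent.Lib.helper26.pResidual_normal p H
  subst hT
  have h0 : (Cfsg.Agent.Lib.helper90.normalSubsystem E ι (Cfsg.pResidual p H)).IsSaturated p ∧
      (Cfsg.Agent.Lib.helper90.normalSubsystem E ι (Cfsg.pResidual p H)).HasPPowerIndexIn E p :=
    ⟨Cfsg.Agent.Lib.helper90.normalSubsystem_saturated hR T₀ hT₀ (Cfsg.pResidual p H),
      normalSubsystem_pPowerIndex p E ι hR hhyp⟩
  have hDeq := huniq D _ hD h0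
  subst hDeq
  refine ⟨Cfsg.Agent.Lib.helper90.restrHom ι (Cfsg.pResidual p H), inferInstance,
    Cfsg.Agent.Lib.helper90.normalSubsystem_realized hR (Cfsg.pResidual p H), ?_, ?_⟩
  · obtain ⟨Q, hQ⟩ := Cfsg.Agent.Lib.helper53.exists_sylow_eq_inf_normal T₀ (Cfsg.pResidual p H)
    refine ⟨Q, ?_⟩
    apply Subgroup.map_injective (Cfsg.pResidual p H).subtype_injective
    rw [hQ, hT₀]
    ext y
    constructor
    · rintro ⟨⟨s, hs⟩, hyK⟩
      have hsK : ι s ∈ Cfsg.pResidual p H := by rw [hs]; exact hyK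
      refine ⟨⟨y, hyK⟩, ⟨⟨(s : Ω), Cfsg.Agent.Lib.helper90.mem_preT.mpr ⟨s.2, hsK⟩⟩, ?_⟩, rfl⟩
      exact Subtype.ext hs
    · rintro ⟨k, ⟨t, rfl⟩, rfl⟩
      exact ⟨⟨⟨t, Cfsg.Agent.Lib.helper90.preT_le ι _ t.2⟩, rfl⟩,
        (Cfsg.Agent.Lib.helper90.restrHom ι (Cfsg.pResidual p H) t).2⟩
  · have h1 := Cfsg.Agent.Lib.helper54.charPIn_top hcent
    have h2 : Cfsg.Agent.Lib.helper54.CharPIn p (Cfsg.pResidual p H) :=
      Cfsg.Agent.Lib.helper54.CharPIn.of_normal le_top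
        (by rw [Subgroup.normalizer_eq_top]) h1
    exact (Cfsg.Agent.Lib.helper54.charPIn_iff (Cfsg.pResidual p H)).mp h2

/-- RS-D modulo the hyperfocal subgroup theorem in realized form (RS-D1). -/
theorem model_pResidual_of_D1 {Ω : Type*} [Group Ω] {S : Subgroup Ω} [Finite S] (p : ℕ)
    [Fact p.Prime] (hS : IsPGroup p S) (E : Cfsg.FusionSystem S)
    {H : Type*} [Group H] (ι : S →* H) (hM : E.IsModel p H ι)
    (hD1 : ∀ x : S, (x : Ω) ∈ E.hyperfocalSubgroup p ↔ ι x ∈ Cfsg.pResidual p H)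
    (D : Cfsg.FusionSystem (E.hyperfocalSubgroup p)) (hD : E.IsPResidual p D) :
    ∃ ιK : ↥(E.hyperfocalSubgroup p) →* ↥(Cfsg.pResidual p H),
      D.IsModel p ↥(Cfsg.pResidual p H) ιK := by
  have hT : Cfsg.Agent.Lib.helper90.preT ι (Cfsg.pResidual p H) = E.hyperfocalSubgroup p := by
    ext x
    rw [Cfsg.Agent.Lib.helper90.mem_preT]
    constructor
    · rintro ⟨hx, h⟩
      exact (hD1 ⟨x, hx⟩).mpr h
    · intro hx
      have hxS := Cfsg.Agent.Lib.helper88.hyperfocal_le E p hx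
      exact ⟨hxS, (hD1 ⟨x, hxS⟩).mp hx⟩
  exact model_pResidual_aux p E ι hM _ hT le_rfl D hD
    (fun D₁ D₂ h₁ h₂ => Cfsg.Agent.Lib.helper88.pResidual_unique hS h₁ h₂)

/-- **S5156, piece RS-D**: the model of `O^p(E)` is `O^p(H)`. -/
theorem model_pResidual {Ω : Type*} [Group Ω] {S : Subgroup Ω} [Finite S] (p : ℕ)
    [Fact p.Prime] (hS : IsPGroup p S) (E : Cfsg.FusionSystem S) (hE : E.IsSaturated p)
    {H : Type*} [Group H] (ι : S →* H) (hM : E.IsModel p H ι)
    (D : Cfsg.FusionSystem (E.hyperfocalSubgroup p)) (hD : E.IsPResidual p D) :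
    ∃ ιK : ↥(E.hyperfocalSubgroup p) →* ↥(Cfsg.pResidual p H),
      D.IsModel p ↥(Cfsg.pResidual p H) ιK := by
  haveI : Finite H := hM.1
  exact model_pResidual_of_D1 p hS E ι hM
    (fun x => Cfsg.Agent.Lib.helper39.RS.mem_hyperfocal_iff_of_realized p E ι hM.2.1 hM.2.2.1 x)
    D hD

end Cfsg.Agent.Lib.helper20.RS
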