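import Mathlib
import Cfsg.Agent.Lib.helper20.NormalIdem
import Cfsg.Agent.Lib.helper20.Osima
import Cfsg.Agent.Lib.helper20.CentralChar
import Cfsg.Agent.Lib.helper20.SubAlg
import Cfsg.Agent.Lib.helper82.Ito
import Cfsg.Agent.Lib.helper4.CharDecomp
import Cfsg.Agent.Lib.helper83.CharBasic2
import Cfsg.Agent.Lib.helper81.Blocks
import Cfsg.Agent.Lib.helper81.CharOrtho
import Cfsg.Agent.Lib.helper19.LinChar

/-!
# Tools for Reynolds' theorem on blocks with normal defect group (helper20)

* `exists_mem_block_sum_subgroup_eq_zero`: for a nontrivial normal `p`-subgroup `K`, every block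
  contains a character `χ` with `∑_{x ∈ K} χ x = 0` (that is, `K ⊄ ker χ`);
* `exists_integral_mul_of_commutator`: if `P ⊴ G` is a `p`-group, `g` centralizes `P` and the
  character `χ` has `∑_{x ∈ ⁅P, P⁆} χ x = 0`, then `χ g ∈ p · (algebraic integers)`.
-/

set_option autoImplicit false
open Cfsg

namespace Cfsg.Agent.Lib.helper20

open Cfsg.Agent.Lib.helper81 (irr_classFun irr_one_ne_zero irr_one_eq_charDegree)
open scoped ComplexConjugate

universe u

open scoped Classical in
/-- For a nontrivial normal `p`-subgroup `K`, every block contains a character whose values on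
`K` sum to zero. -/
theorem exists_mem_block_sum_subgroup_eq_zero {G : Type u} [Group G] [Fintype G] {p : ℕ}
    [Fact p.Prime] {M : Ideal AlgInt} (hM : IsPModular p M) {B : Set (IrrCharacter G)}
    (hB : IsPBlock M B) (K : Subgroup G) [K.Normal] (hK : IsPGroup p K) (hK1 : K ≠ ⊥) :
    ∃ χ ∈ B, ∑ g ∈ Finset.univ.filter (fun g : G => g ∈ K), (χ : G → ℂ) g = 0 := by
  by_contra hcon
  push Not at hcon
  have hp : p.Prime := Fact.out
  -- every member of B is trivial on K
  have hker : ∀ χ ∈ B, ∀ n ∈ K, (χ : G → ℂ) n = (χ : G → ℂ) 1 := by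
    intro χ hχ
    apply eq_one_of_omega_normIdem K χ
    rcases omega_normIdem_eq_zero_or_one K (χ : G → ℂ) χ.2 with h0 | h1
    · exfalso
      apply hcon χ hχ
      rw [omega_normIdem] at h0
      have hK0 : (Nat.card K : ℂ)⁻¹ ≠ 0 := inv_ne_zero (Nat.cast_ne_zero.2 Nat.card_pos.ne')
      have h1 : (χ : G → ℂ) 1 ≠ 0 := irr_one_ne_zero χ
      rcases div_eq_zero_iff.1 h0 with h | h
      · rcases mul_eq_zero.1 h with h | h
        · exact absurd h hK0
        · exact h
      · exact absurd h h1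
    · exact h1
  -- a nontrivial element
  obtain ⟨n, hnK, hn1⟩ : ∃ n : G, n ∈ K ∧ n ≠ 1 := by
    obtain ⟨n, hn⟩ := Subgroup.ne_bot_iff_exists_ne_one.1 hK1
    exact ⟨(n : G), n.2, fun h => hn (Subtype.ext h)⟩
  have hpn : p ∣ orderOf n := by
    obtain ⟨k, hk⟩ := hK ⟨n, hnK⟩
    have hk' : n ^ p ^ k = 1 := by
      have := congrArg (fun x : K => (x : G)) hk
      simpa using this
    obtain ⟨j, _, hj⟩ := (Nat.dvd_prime_pow hp).1 (orderOf_dvd_of_pow_eq_one hk')
    rcases Nat.eq_zero_or_pos j with h0 | hpos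
    · rw [h0, pow_zero] at hj
      exact absurd (orderOf_eq_one_iff.1 hj) hn1
    · rw [hj]; exact dvd_pow_self p hpos.ne'
  have h0 := blockCoeff_eq_zero_of_singular hM hB n hpn
  rw [helper81.blockCoeff_eq_sum] at h0
  have hG0 : (Nat.card G : ℂ)⁻¹ ≠ 0 := inv_ne_zero (Nat.cast_ne_zero.2 Nat.card_pos.ne')
  have hsum0 := (mul_eq_zero.1 h0).resolve_left hG0
  obtain ⟨χ₀, hχ₀⟩ := helper81.isPBlock_nonempty (isPrime_of_isPModular hM) hB
  have hrew : (∑ χ : IrrCharacter G, if χ ∈ B then (χ : G → ℂ) 1 * conj ((χ : G → ℂ) n) else 0)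
      = ((∑ χ : IrrCharacter G, if χ ∈ B then charDegree (χ : G → ℂ) ^ 2 else 0 : ℕ) : ℂ) := by
    rw [Nat.cast_sum]
    apply Finset.sum_congr rfl
    intro χ _
    by_cases hχ : χ ∈ B
    · rw [if_pos hχ, if_pos hχ, hker χ hχ n hnK, irr_one_eq_charDegree, Complex.conj_natCast]
      push_cast; ring
    · rw [if_neg hχ, if_neg hχ, Nat.cast_zero]
  rw [hrew] at hsum0
  have hsum0' := Nat.cast_eq_zero.1 hsum0
  have hle : charDegree (χ₀ : G → ℂ) ^ 2 ≤
      ∑ χ : IrrCharacter G, if χ ∈ B then charDegree (χ : G → ℂ) ^ 2 else 0 := by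
    have := Finset.single_le_sum (f := fun χ : IrrCharacter G =>
      if χ ∈ B then charDegree (χ : G → ℂ) ^ 2 else 0) (fun _ _ => Nat.zero_le _)
      (Finset.mem_univ χ₀)
    simpa [hχ₀] using this
  have hd0 : charDegree (χ₀ : G → ℂ) ≠ 0 := by
    intro h
    have := irr_one_eq_charDegree χ₀
    rw [h, Nat.cast_zero] at this
    exact irr_one_ne_zero χ₀ this
  have : 0 < charDegree (χ₀ : G → ℂ) ^ 2 := by positivity
  omega

open scoped Classical in
/-- Abstract form: `H = P · Z(H)` with `P ⊴ H` a `p`-group, `z` central, and `ψ` a character of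
`H` with `∑_{x ∈ ⁅P, P⁆} ψ x = 0`.  Then `ψ z = p * α` with `α` an algebraic integer. -/
theorem exists_integral_mul_of_commutator_aux {H : Type u} [Group H] [Fintype H] {p : ℕ}
    [Fact p.Prime] (P : Subgroup H) [P.Normal] (hP : IsPGroup p P) (z : H)
    (hz : ∀ l : H, l * z = z * l) (hgen : P ⊔ Subgroup.center H = ⊤)
    (ψ : H → ℂ) (hψ : IsCharacter H ψ)
    (hsum : ∑ x ∈ Finset.univ.filter (fun x : H => x ∈ ⁅P, P⁆), ψ x = 0) :
    ∃ α : ℂ, IsIntegral ℤ α ∧ ψ z = (p : ℂ) * α := by
  have hp : p.Prime := Fact.out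
  have hKL0 : (Nat.card (⁅P, P⁆ : Subgroup H) : ℂ) ≠ 0 := Nat.cast_ne_zero.2 Nat.card_pos.ne'
  -- degrees of the irreducible characters of `H` are powers of `p`
  have hdeg : ∀ η : IrrCharacter H, ∃ j : ℕ, charDegree (η : H → ℂ) = p ^ j := by
    intro η
    obtain ⟨d, hd1, hdvd⟩ := helper82.ito_char (Subgroup.center H)
      (fun a ha b _ => (Subgroup.mem_center_iff.1 ha b).symm) η.2
    have hd : charDegree (η : H → ℂ) = d := by
      have := irr_one_eq_charDegree η
      rw [hd1] at this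
      exact (Nat.cast_injective this).symm
    rw [hd]
    have hidx : (Subgroup.center H).index ∣ Nat.card P := by
      have h2 : (Subgroup.center H).index = (Subgroup.center H).relIndex P := by
        rw [← Subgroup.relIndex_top_right, ← hgen]
        exact Subgroup.relIndex_sup_right (H := P) (K := Subgroup.center H)
      rw [h2]
      exact Subgroup.relIndex_dvd_card _ _
    obtain ⟨k, hk⟩ := (IsPGroup.iff_card).1 hP
    rw [hk] at hidx
    obtain ⟨j, _, hj⟩ := (Nat.dvd_prime_pow hp).1 (hdvd.trans hidx)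
    exact ⟨j, hj⟩
  -- multiplicities
  have hn : ∀ η : IrrCharacter H, ∃ n : ℕ, classInner ψ (η : H → ℂ) = n :=
    fun η => helper4.exists_nat_classInner_irr hψ η.2
  choose n hn using hn
  have hexp : ∀ l : H, ψ l = ∑ η : IrrCharacter H, (n η : ℂ) * (η : H → ℂ) l := by
    intro l
    rw [helper83.classFunction_expansion' ψ (helper83.isClassFunction_of_isCharacter hψ) l]
    apply Finset.sum_congr rfl
    intro η _
    rw [hn η]
  -- sums over the commutator subgroup
  have hc : ∀ η : IrrCharacter H, ∃ c : ℕ,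
      ∑ l ∈ Finset.univ.filter (fun l : H => l ∈ ⁅P, P⁆), (η : H → ℂ) l = c ∧
        (charDegree (η : H → ℂ) = 1 → c ≠ 0) := by
    intro η
    have h1 : (η : H → ℂ) 1 ≠ 0 := irr_one_ne_zero η
    rcases omega_normIdem_eq_zero_or_one ⁅P, P⁆ (η : H → ℂ) η.2 with h0 | h0
    · refine ⟨0, ?_, ?_⟩
      · rw [omega_normIdem] at h0
        rcases div_eq_zero_iff.1 h0 with h | h
        · rcases mul_eq_zero.1 h with h | h
          · exact absurd h (inv_ne_zero hKL0)
          · rw [h, Nat.cast_zero]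
        · exact absurd h h1
      · intro hd1
        exfalso
        have hη1 : (η : H → ℂ) 1 = 1 := by rw [irr_one_eq_charDegree, hd1, Nat.cast_one]
        obtain ⟨f, hf⟩ := helper19.exists_hom_of_linear (η : H → ℂ)
          (isCharacter_of_isIrrCharacter η.2) hη1
        have hker : ⁅P, P⁆ ≤ f.ker := by
          apply Subgroup.commutator_le.2
          intro a _ b _
          rw [MonoidHom.mem_ker, map_commutatorElement]
          exact commutatorElement_eq_one_iff_commute.2 (Commute.all _ _)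
        have hone : omega (η : H → ℂ) (normIdem ⁅P, P⁆) = 1 := by
          apply omega_normIdem_of_ker ⁅P, P⁆ (η : H → ℂ) h1
          intro l hl
          rw [hη1, hf l, MonoidHom.mem_ker.1 (hker hl), Units.val_one]
        rw [hone] at h0
        exact one_ne_zero h0
    · refine ⟨Nat.card (⁅P, P⁆ : Subgroup H) * charDegree (η : H → ℂ), ?_, ?_⟩
      · rw [omega_normIdem] at h0
        rw [div_eq_iff h1, one_mul] at h0
        rw [Nat.cast_mul, ← irr_one_eq_charDegree, ← h0, ← mul_assoc, mul_inv_cancel₀ hKL0,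
          one_mul]
      · intro hd1
        rw [hd1, mul_one]
        exact Nat.card_pos.ne'
  choose c hc1 hc2 using hc
  have htot : ∀ η : IrrCharacter H, n η * c η = 0 := by
    have h2 : ((∑ η : IrrCharacter H, n η * c η : ℕ) : ℂ) = 0 := by
      rw [← hsum, Nat.cast_sum]
      simp_rw [hexp]
      rw [Finset.sum_comm]
      apply Finset.sum_congr rfl
      intro η _
      rw [← Finset.mul_sum, hc1 η, Nat.cast_mul]
    have h3 := Nat.cast_eq_zero.1 h2
    intro η
    exact (Finset.sum_eq_zero_iff.1 h3) η (Finset.mem_univ η)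
  have hdvd : ∀ η : IrrCharacter H, n η ≠ 0 → p ∣ charDegree (η : H → ℂ) := by
    intro η hnη
    obtain ⟨j, hj⟩ := hdeg η
    rcases Nat.eq_zero_or_pos j with h0 | hpos
    · exfalso
      rw [h0, pow_zero] at hj
      rcases Nat.mul_eq_zero.1 (htot η) with h | h
      · exact hnη h
      · exact hc2 η hj h
    · rw [hj]; exact dvd_pow_self p hpos.ne'
  refine ⟨∑ η : IrrCharacter H, ((n η * (charDegree (η : H → ℂ) / p) : ℕ) : ℂ) *
    centralChar (η : H → ℂ) z, ?_, ?_⟩
  · apply IsIntegral.sum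
    intro η _
    exact IsIntegral.mul (isIntegral_natCast _) (isIntegral_centralChar (η : H → ℂ) η.2 z)
  · rw [hexp z, Finset.mul_sum]
    apply Finset.sum_congr rfl
    intro η _
    by_cases hnη : n η = 0
    · rw [hnη]; simp
    · have hd := hdvd η hnη
      have h1 : (η : H → ℂ) 1 ≠ 0 := irr_one_ne_zero η
      have hctop : Subgroup.centralizer ({z} : Set H) = ⊤ := by
        rw [Subgroup.centralizer_eq_top_iff_subset]
        intro x hx
        rw [Set.mem_singleton_iff] at hx
        rw [hx]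
        exact Subgroup.mem_center_iff.2 (fun l => hz l)
      have hzz : (η : H → ℂ) z = (η : H → ℂ) 1 * centralChar (η : H → ℂ) z := by
        unfold centralChar
        rw [hctop, Subgroup.index_top, Nat.cast_one, one_mul, mul_div_cancel₀ _ h1]
      rw [hzz, irr_one_eq_charDegree]
      have h2 : charDegree (η : H → ℂ) = p * (charDegree (η : H → ℂ) / p) :=
        (Nat.mul_div_cancel' hd).symm
      rw [Nat.cast_mul]
      conv_lhs => rw [h2]
      push_cast
      ring

open scoped Classical in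
/-- Subgroup form of `exists_integral_mul_of_commutator_aux`, for a subgroup `L` between `P` and
`P · ⟨g⟩`. -/
theorem exists_integral_mul_of_commutator_sub {G : Type u} [Group G] [Fintype G] {p : ℕ}
    [Fact p.Prime] (P : Subgroup G) [P.Normal] (hP : IsPGroup p P) (g : G)
    (hg : ∀ x ∈ P, x * g = g * x) (L : Subgroup G) (hPL : P ≤ L) (hgL : g ∈ L)
    (hL : L ≤ P ⊔ Subgroup.zpowers g) (χ : G → ℂ) (hχ : IsCharacter G χ)
    (hsum : ∑ x ∈ Finset.univ.filter (fun x : G => x ∈ ⁅P, P⁆), χ x = 0) :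
    ∃ α : ℂ, IsIntegral ℤ α ∧ χ g = (p : ℂ) * α := by
  have hLc : L ≤ Subgroup.centralizer ({g} : Set G) := by
    refine hL.trans (sup_le ?_ ?_)
    · intro x hx
      exact Subgroup.mem_centralizer_singleton_iff.2 (hg x hx)
    · rw [Subgroup.zpowers_le]
      exact Subgroup.mem_centralizer_singleton_iff.2 rfl
  have hcent : ∀ l : L, l * (⟨g, hgL⟩ : L) = ⟨g, hgL⟩ * l := by
    intro l
    apply Subtype.ext
    exact Subgroup.mem_centralizer_singleton_iff.1 (hLc l.2)
  have hP' : IsPGroup p (P.subgroupOf L) :=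
    hP.of_equiv (Subgroup.subgroupOfEquivOfLe hPL).symm
  have hgen : P.subgroupOf L ⊔ Subgroup.center L = ⊤ := by
    rw [eq_top_iff]
    intro l _
    have h1 : L ≤ (P.subgroupOf L ⊔ Subgroup.center L).map L.subtype := by
      refine hL.trans (sup_le ?_ ?_)
      · intro x hx
        exact ⟨⟨x, hPL hx⟩, (le_sup_left : P.subgroupOf L ≤ _)
          (by rw [Subgroup.mem_subgroupOf]; exact hx), rfl⟩
      · rw [Subgroup.zpowers_le]
        exact ⟨⟨g, hgL⟩, (le_sup_right : Subgroup.center L ≤ _)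
          (Subgroup.mem_center_iff.2 (fun l => hcent l)), rfl⟩
    obtain ⟨l', hl', hll⟩ := h1 l.2
    have : l' = l := Subtype.ext hll
    rw [← this]; exact hl'
  have hmap : (⁅P.subgroupOf L, P.subgroupOf L⁆ : Subgroup L).map L.subtype = ⁅P, P⁆ := by
    rw [Subgroup.map_commutator, Subgroup.map_subgroupOf_eq_of_le hPL]
  have hmem : ∀ l : L, l ∈ (⁅P.subgroupOf L, P.subgroupOf L⁆ : Subgroup L) ↔
      (l : G) ∈ ⁅P, P⁆ := by
    intro l
    rw [← hmap]
    exact (Subgroup.mem_map_iff_mem L.subtype_injective).symm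
  have hKP : (⁅P, P⁆ : Subgroup G) ≤ P := Subgroup.commutator_le_left P P
  have hsum' : ∑ l ∈ Finset.univ.filter
      (fun l : L => l ∈ (⁅P.subgroupOf L, P.subgroupOf L⁆ : Subgroup L)), χ (l : G) = 0 := by
    rw [Finset.sum_filter]
    rw [Finset.sum_filter] at hsum
    refine Eq.trans ?_ hsum
    rw [← sum_subgroup_eq_sum L (fun x : G => if x ∈ ⁅P, P⁆ then χ x else 0)
      (fun x hx => by
        rw [if_neg]
        intro hxK
        exact hx (hPL (hKP hxK)))]
    apply Finset.sum_congr rfl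
    intro l _
    by_cases hl : l ∈ (⁅P.subgroupOf L, P.subgroupOf L⁆ : Subgroup L)
    · rw [if_pos hl, if_pos ((hmem l).1 hl)]
    · rw [if_neg hl, if_neg (fun h => hl ((hmem l).2 h))]
  exact exists_integral_mul_of_commutator_aux (P.subgroupOf L) hP' ⟨g, hgL⟩ hcent hgen
    (fun l : L => χ l) (helper4.isCharacter_restrict L hχ) hsum'

open scoped Classical in
/-- If `P ⊴ G` is a `p`-group, `g` centralizes `P`, and the character `χ` of `G` has
`∑_{x ∈ ⁅P, P⁆} χ x = 0`, then `χ g = p * α` with `α` an algebraic integer. -/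
theorem exists_integral_mul_of_commutator {G : Type u} [Group G] [Fintype G] {p : ℕ}
    [Fact p.Prime] (P : Subgroup G) [P.Normal] (hP : IsPGroup p P) (g : G)
    (hg : ∀ x ∈ P, x * g = g * x) (χ : G → ℂ) (hχ : IsCharacter G χ)
    (hsum : ∑ x ∈ Finset.univ.filter (fun x : G => x ∈ ⁅P, P⁆), χ x = 0) :
    ∃ α : ℂ, IsIntegral ℤ α ∧ χ g = (p : ℂ) * α :=
  exists_integral_mul_of_commutator_sub P hP g hg (P ⊔ Subgroup.zpowers g) le_sup_left
    ((le_sup_right : Subgroup.zpowers g ≤ P ⊔ Subgroup.zpowers g) (Subgroup.mem_zpowers g))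
    le_rfl χ hχ hsum

end Cfsg.Agent.Lib.helper20
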