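import Cfsg.Agent.Lib.helper20.S3875Simple
import Cfsg.Agent.Lib.helper43.S3875A
import Cfsg.Agent.Lib.helper43.S3875B
import Cfsg.Agent.Lib.helper43.S3875D
import Cfsg.Agent.Lib.helper50.S3875X2
import Cfsg.Agent.Lib.helper78.S3875C
import Cfsg.Agent.Lib.helper78.S3875X1

/-!
# S3875: the final assembly (helper20)
-/

set_option autoImplicit false

namespace Cfsg.Agent.Lib.helper20.S3875

open Cfsg

/-- The lower bound, by strong induction on the order. -/
theorem lower_bound (p : ℕ) [Fact p.Prime] (hp : p ≠ 2) (m : ℕ)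
    (hleast : ∀ k : ℕ, IsPrimePow k → k % p = 1 → m ≤ k) :
    ∀ (n : ℕ) (H : Type) [Group H] [Finite H], Nat.card H = n → ¬ IsPClosed p H →
      min (p * m) (p * (p ^ 2 - 1) / 2) ≤ Nat.card H := by
  intro n
  induction n using Nat.strong_induction_on with
  | _ n ih =>
    intro H _ _ hcard hncl
    by_contra hlt
    push Not at hlt
    have hlt1 : Nat.card H < p * m := lt_of_lt_of_le hlt (min_le_left _ _)
    have hlt2 : Nat.card H < p * (p ^ 2 - 1) / 2 := lt_of_lt_of_le hlt (min_le_right _ _)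
    unfold IsPClosed at hncl
    push Not at hncl
    obtain ⟨P, hPn⟩ := hncl
    have hlt3 : Nat.card H < p ^ 3 := by
      calc Nat.card H < p * (p ^ 2 - 1) / 2 := hlt2
        _ ≤ p * (p ^ 2 - 1) := Nat.div_le_self _ _
        _ ≤ p * p ^ 2 := Nat.mul_le_mul_left _ (Nat.sub_le _ _)
        _ = p ^ 3 := by ring
    have hP := Cfsg.Agent.Lib.helper43.S3875.sylow_card_eq p P hPn hlt3
    have hsub : ∀ L : Subgroup H, L ≠ ⊤ → IsPClosed p L := by
      intro L hL
      by_contra hcl
      have hlt' : Nat.card L < Nat.card H := by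
        have h1 : Nat.card L ≤ Nat.card H := Subgroup.card_le_card_group L
        have h2 : Nat.card L ≠ Nat.card H := fun h => hL (Subgroup.card_eq_iff_eq_top L |>.mp h)
        omega
      have h3 := ih (Nat.card L) (hcard ▸ hlt') L rfl hcl
      omega
    have hquot : ∀ (L : Subgroup H) [L.Normal], L ≠ ⊥ → IsPClosed p (H ⧸ L) := by
      intro L _ hL
      by_contra hcl
      have hlt' : Nat.card (H ⧸ L) < Nat.card H := by
        have h1 : Nat.card H = Nat.card (H ⧸ L) * Nat.card L :=
          Subgroup.card_eq_card_quotient_mul_card_subgroup L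
        have h2 : 1 < Nat.card L := by
          have h3 : Nat.card L ≠ 1 := fun h => hL (Subgroup.card_eq_one.mp h)
          have h4 : 0 < Nat.card L := Nat.card_pos
          omega
        have h5 : 0 < Nat.card (H ⧸ L) := Nat.card_pos
        rw [h1]
        nlinarith
      have h3 := ih (Nat.card (H ⧸ L)) (hcard ▸ hlt') (H ⧸ L) rfl hcl
      omega
    by_cases hs : IsSimpleGroup H
    · have h1 := simple_bound p hp P hP hPn
      omega
    · have hex : ∃ L : Subgroup H, L.Normal ∧ L ≠ ⊥ ∧ L ≠ ⊤ := by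
        by_contra hcon
        push Not at hcon
        apply hs
        have hnt : Nontrivial H := by
          by_contra hnt
          rw [not_nontrivial_iff_subsingleton] at hnt
          apply hPn
          have : (P : Subgroup H) = ⊤ := Subsingleton.elim _ _
          rw [this]
          infer_instance
        exact ⟨fun L hL => by
          by_cases h0 : L = ⊥
          · exact Or.inl h0
          · exact Or.inr (hcon L hL h0)⟩
      obtain ⟨L, hLn, hL0, hL1⟩ := hex
      obtain ⟨hsup, hinf⟩ := Cfsg.Agent.Lib.helper43.S3875.normal_compl p P hP hPn hsub hquot L hLn hL0 hL1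
      obtain ⟨r, hr, hLr⟩ := Cfsg.Agent.Lib.helper78.S3875.compl_isPGroup p P hP hPn hsub L hLn hsup hinf
      have h1 := Cfsg.Agent.Lib.helper43.S3875.card_ge_of_compl p P hP hPn L hLn hsup hinf r hr hLr m hleast
      omega

/-- S3875, assembled. -/
theorem s3875 (p : ℕ) [Fact p.Prime] (hp : p ≠ 2) (m : ℕ) (hm : IsPrimePow m) (hm1 : m % p = 1)
    (hleast : ∀ k : ℕ, IsPrimePow k → k % p = 1 → m ≤ k) :
    (∀ (H : Type) [Group H] [Finite H], ¬ Cfsg.IsPClosed p H →
        min (p * m) (p * (p ^ 2 - 1) / 2) ≤ Nat.card H) ∧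
      ∃ (H : Type) (_ : Group H) (_ : Finite H),
        Nat.card H = min (p * m) (p * (p ^ 2 - 1) / 2) ∧ ¬ Cfsg.IsPClosed p H := by
  refine ⟨fun H _ _ hncl => lower_bound p hp m hleast (Nat.card H) H rfl hncl, ?_⟩
  by_cases h : p * m ≤ p * (p ^ 2 - 1) / 2
  · obtain ⟨H, i1, i2, hc, hncl⟩ := Cfsg.Agent.Lib.helper78.S3875.exists_frobenius p m hm hm1
    exact ⟨H, i1, i2, by rw [hc, min_eq_left h], hncl⟩
  · obtain ⟨H, i1, i2, hc, hncl⟩ := Cfsg.Agent.Lib.helper50.S3875.exists_psl p hp
    exact ⟨H, i1, i2, by rw [hc, min_eq_right (by omega)], hncl⟩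

end Cfsg.Agent.Lib.helper20.S3875
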