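import Cfsg.Agent.S4441
import Cfsg.Agent.Lib.helper81.CharOrtho
import Cfsg.Agent.Lib.helper81.Blocks
import Cfsg.Agent.Lib.helper76.KazCore
import Cfsg.Agent.Lib.helper6.S3875E1
import Cfsg.Agent.Lib.helper6.S3875E5
import Cfsg.Agent.Lib.helper6.S3875E6
import Cfsg.Agent.Lib.helper6.S3875E7
import Cfsg.Agent.Lib.helper82.S3875E2
import Cfsg.Agent.Lib.helper82.S3875E3
import Cfsg.Agent.Lib.helper43.S3875E4

/-!
# S3875: the simple case (helper20)

A simple group with a non-normal Sylow `p`-subgroup of order `p` (`p` odd) has order at least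
`p (p^2 - 1) / 2`.  Uses the landed structure theorem for the principal block (S4441).
-/

set_option autoImplicit false

namespace Cfsg.Agent.Lib.helper20.S3875

open Cfsg

/-- The simple case of S3875. -/
theorem simple_bound {H : Type*} [Group H] [Finite H] [IsSimpleGroup H] (p : ℕ) [Fact p.Prime]
    (hp2 : p ≠ 2) (P : Sylow p H) (hP : Nat.card P = p) (hn : ¬ (P : Subgroup H).Normal) :
    p * (p ^ 2 - 1) / 2 ≤ Nat.card H := by
  classical
  have hp : p.Prime := Fact.out
  have hp3 : 3 ≤ p := by
    have := hp.two_le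
    omega
  let _ : Fintype H := Fintype.ofFinite H
  obtain ⟨x, hx, hx1⟩ := Cfsg.Agent.Lib.helper20.D1E.exists_x p P hP
  obtain ⟨e, he⟩ : ∃ e : ℕ, (Subgroup.centralizer ((P : Subgroup H) : Set H)).relIndex
      (Subgroup.normalizer ((P : Subgroup H) : Set H)) = e := ⟨_, rfl⟩
  obtain ⟨N, hN⟩ : ∃ N : ℕ, Nat.card (Sylow p H) = N := ⟨_, rfl⟩
  obtain ⟨c, hc⟩ : ∃ c : ℕ, Nat.card (Subgroup.centralizer ({x} : Set H)) = c := ⟨_, rfl⟩
  obtain ⟨hidx, hpc⟩ := Cfsg.Agent.Lib.helper6.S3875.class_size p P hP x hx hx1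
  rw [he, hN] at hidx
  rw [hc] at hpc
  have hcard : Nat.card H = c * (e * N) := by
    rw [← hidx, ← hc]
    exact (Subgroup.card_mul_index _).symm
  have he2 : 2 ≤ e := by
    rw [← he]
    exact Cfsg.Agent.Lib.helper43.S3875.relIndex_ge_two p P hP hn
  have hNmod : N % p = 1 := by
    have h1 : Nat.card (Sylow p H) ≡ 1 [MOD p] := card_sylow_modEq_one p H
    rw [hN] at h1
    have h2 : N % p = 1 % p := h1
    rwa [Nat.mod_eq_of_lt hp.one_lt] at h2
  have hN1 : 1 < N := by
    have h0 : 0 < N := by
      rw [← hN]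
      exact Nat.card_pos
    have h1 : N ≠ 1 := by
      intro h1
      apply hn
      have h2 := Sylow.card_eq_index_normalizer P
      rw [hN, h1] at h2
      exact Subgroup.normalizer_eq_top_iff.mp (Subgroup.index_eq_one.mp h2.symm)
    omega
  have hc0 : 0 < c := by
    rw [← hc]
    exact Nat.card_pos
  have hcp : p ≤ c := Nat.le_of_dvd hc0 hpc
  have hNp : p + 1 ≤ N := by
    have h1 := Nat.div_add_mod N p
    rw [hNmod] at h1
    have h2 : 0 < N / p := by
      rcases Nat.eq_zero_or_pos (N / p) with h4 | h4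
      · rw [h4] at h1
        omega
      · exact h4
    have h3 : p ≤ p * (N / p) := Nat.le_mul_of_pos_right p h2
    omega
  have hsq : p ^ 2 - 1 = (p - 1) * (p + 1) := by
    obtain ⟨k, rfl⟩ : ∃ k, p = k + 1 := ⟨p - 1, by omega⟩
    simp only [Nat.add_sub_cancel]
    have : (k + 1) ^ 2 = k * (k + 1 + 1) + 1 := by ring
    rw [this, Nat.add_sub_cancel]
  have key : (p - 1) * (p + 1) ≤ 2 * (e * N) → p * (p ^ 2 - 1) / 2 ≤ Nat.card H := by
    intro h
    rw [hcard]
    apply Nat.div_le_of_le_mul
    calc p * (p ^ 2 - 1) = p * ((p - 1) * (p + 1)) := by rw [hsq]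
      _ ≤ p * (2 * (e * N)) := Nat.mul_le_mul_left _ h
      _ ≤ c * (2 * (e * N)) := Nat.mul_le_mul_right _ hcp
      _ = 2 * (c * (e * N)) := by ring
  by_cases ht : (p - 1) / e ≤ 1
  · apply key
    have h1 : p - 1 < 2 * e := by
      by_contra hcon
      push Not at hcon
      have h2 : 2 ≤ (p - 1) / e := (Nat.le_div_iff_mul_le (by omega)).mpr hcon
      omega
    have h2 : (p - 1) * (p + 1) ≤ (2 * e) * (p + 1) := Nat.mul_le_mul_right _ h1.le
    have h3 : (2 * e) * (p + 1) ≤ (2 * e) * N := Nat.mul_le_mul_left _ hNp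
    calc (p - 1) * (p + 1) ≤ (2 * e) * N := h2.trans h3
      _ = 2 * (e * N) := by ring
  · push Not at ht
    have hep : 2 * e ≤ p - 1 := (Nat.le_div_iff_mul_le (by omega)).mp ht
    obtain ⟨M, hM⟩ := Cfsg.Agent.Lib.helper76.exists_isPModular p hp
    obtain ⟨X, Y, hXY, hdisj, hXc, hYc, εX, ε, hX, hε, hYdeg, hYag, hYrel⟩ :=
      Cfsg.Agent.S4441.result p M hM hp2 P hP e he
    have hone : ¬ p ∣ orderOf (1 : H) := by
      rw [orderOf_one]
      exact fun h => hp.one_lt.ne' (Nat.dvd_one.mp h)
    have htd : charDegree ((Cfsg.Agent.Lib.helper81.trivChar H : IrrCharacter H) : H → ℂ) = 1 := by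
      show ⌊((1 : ℂ)).re⌋₊ = 1
      simp
    have htB : Cfsg.Agent.Lib.helper81.trivChar H ∈ principalBlock M H :=
      Cfsg.Agent.Lib.helper81.trivChar_mem_principalBlock hM.2.1.isPrime
    have hpe1 : (e : ℤ) + 1 < p := by
      have : e + 1 < p := by omega
      exact_mod_cast this
    have htX : Cfsg.Agent.Lib.helper81.trivChar H ∈ X := by
      rw [hXY] at htB
      rcases htB with h | h
      · exact h
      · exfalso
        have h1 := hYdeg _ h
        rw [htd] at h1
        have h2 := (Int.modEq_iff_dvd.mp h1)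
        rcases hε with h3 | h3
        · rw [h3] at h2
          have h4 : (p : ℤ) ≤ 1 * (e : ℤ) - ((1 : ℕ) : ℤ) :=
            Int.le_of_dvd (by push_cast; omega) h2
          push_cast at h4
          omega
        · rw [h3] at h2
          have h4 : (p : ℤ) ∣ (e : ℤ) + 1 := by
            have h5 : (-1 : ℤ) * (e : ℤ) - ((1 : ℕ) : ℤ) = -((e : ℤ) + 1) := by push_cast; ring
            rw [h5] at h2
            exact (dvd_neg).mp h2
          have h6 : (p : ℤ) ≤ (e : ℤ) + 1 := Int.le_of_dvd (by omega) h4
          omega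
    have htε : εX (Cfsg.Agent.Lib.helper81.trivChar H) = 1 := by
      obtain ⟨h1, h2, -⟩ := hX _ htX
      rcases h1 with h1 | h1
      · exact h1
      · exfalso
        rw [htd, h1] at h2
        have h3 := Int.modEq_iff_dvd.mp h2
        have h4 : (p : ℤ) ∣ 2 := by
          have h5 : (-1 : ℤ) - ((1 : ℕ) : ℤ) = -2 := by norm_num
          rw [h5] at h3
          exact (dvd_neg).mp h3
        have h6 : (p : ℤ) ≤ 2 := Int.le_of_dvd (by norm_num) h4
        have : p ≤ 2 := by exact_mod_cast h6
        omega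
    -- the nontrivial members of X
    have hXdata : ∀ χ ∈ X, χ ≠ Cfsg.Agent.Lib.helper81.trivChar H →
        (εX χ = 1 ∧ charDegree (χ : H → ℂ) = N) ∨ (p - 1) * (p + 1) ≤ 2 * (e * N) := by
      intro χ hχ hne
      obtain ⟨h1, h2, h3⟩ := hX χ hχ
      have hval : (χ : H → ℂ) x = (εX χ : ℂ) := by
        have := h3 x hx hx1 1 (one_mem _) hone
        rwa [mul_one] at this
      have hdvd : charDegree (χ : H → ℂ) ∣ e * N := by
        rw [← hidx]
        exact Cfsg.Agent.Lib.helper82.S3875.degree_dvd_index χ x (εX χ) h1 hval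
      have hd1 : 1 < charDegree (χ : H → ℂ) := by
        have h4 := Cfsg.Agent.Lib.helper81.irr_charDegree_pos χ
        have h5 : charDegree (χ : H → ℂ) ≠ 1 := by
          intro h5
          apply hne
          apply Subtype.ext
          have hperf : commutator H = ⊤ := by
            rcases (inferInstance : (commutator H).Normal).eq_bot_or_eq_top with h6 | h6
            · exfalso
              apply hn
              have hcomm : ∀ a b : H, a * b = b * a := by
                intro a b
                rw [commutator_def, Subgroup.commutator_eq_bot_iff_le_centralizer] at h6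
                have h7 := h6 (Subgroup.mem_top b)
                rw [Subgroup.mem_centralizer_iff] at h7
                exact h7 a (Subgroup.mem_top a)
              exact ⟨fun n hn g => by
                have : g * n * g⁻¹ = n := by rw [hcomm g n, mul_assoc, mul_inv_cancel, mul_one]
                rw [this]; exact hn⟩
            · exact h6
          exact Cfsg.Agent.Lib.helper82.S3875.degree_one_trivial hperf χ h5
        omega
      rcases h1 with h1 | h1
      · rw [h1] at h2
        rcases Cfsg.Agent.Lib.helper6.S3875.arith_plus p e N _ hp he2 hep hNmod hd1 h2 hdvd with h6 | h6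
        · exact Or.inl ⟨h1, h6⟩
        · exact Or.inr h6
      · rw [h1] at h2
        exact Or.inr (Cfsg.Agent.Lib.helper6.S3875.arith_minus p e N _ hp he2 hep hNmod h2 hdvd)
    by_cases hall : ∀ χ ∈ X, χ ≠ Cfsg.Agent.Lib.helper81.trivChar H →
        (εX χ = 1 ∧ charDegree (χ : H → ℂ) = N)
    · -- the exceptional degree
      have hYne : Nonempty Y := by
        have h1 : Nat.card Y ≠ 0 := by rw [hYc]; omega
        exact (Nat.card_ne_zero.mp h1).1
      obtain ⟨⟨θ, hθ⟩⟩ := hYne
      have hrel := hYrel θ hθ 1 hone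
      have hXfin : X.Finite := Set.toFinite X
      have hsum : ∑ᶠ χ ∈ X, (εX χ : ℂ) * (χ : H → ℂ) 1 = ((1 + (e - 1) * N : ℕ) : ℂ) := by
        rw [finsum_mem_eq_finite_toFinset_sum _ hXfin]
        have hmem : Cfsg.Agent.Lib.helper81.trivChar H ∈ hXfin.toFinset :=
          (Set.Finite.mem_toFinset hXfin).mpr htX
        rw [← Finset.add_sum_erase _ _ hmem]
        have h1 : ∀ χ ∈ hXfin.toFinset.erase (Cfsg.Agent.Lib.helper81.trivChar H),
            (εX χ : ℂ) * (χ : H → ℂ) 1 = (N : ℂ) := by
          intro χ hχ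
          rw [Finset.mem_erase] at hχ
          obtain ⟨h2, h3⟩ := hall χ ((Set.Finite.mem_toFinset hXfin).mp hχ.2) hχ.1
          rw [h2, Cfsg.Agent.Lib.helper81.irr_one_eq_charDegree, h3]
          push_cast
          ring
        rw [Finset.sum_congr rfl h1, Finset.sum_const, Finset.card_erase_of_mem hmem, htε]
        have h4 : hXfin.toFinset.card = e := by
          rw [← hXc, Nat.card_coe_set_eq, Set.ncard_eq_toFinset_card X hXfin]
        rw [h4, Cfsg.Agent.Lib.helper81.trivChar_apply, nsmul_eq_mul]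
        push_cast [Nat.cast_sub (show 1 ≤ e by omega)]
        ring
      rw [hsum, Cfsg.Agent.Lib.helper81.irr_one_eq_charDegree] at hrel
      have hf : charDegree (θ : H → ℂ) = 1 + (e - 1) * N := by
        rcases hε with h1 | h1
        · rw [h1] at hrel
          have h2 : ((charDegree (θ : H → ℂ) : ℕ) : ℂ) = ((1 + (e - 1) * N : ℕ) : ℂ) := by
            rw [← hrel]; push_cast; ring
          exact_mod_cast h2
        · exfalso
          rw [h1] at hrel
          have h2 : (((-(charDegree (θ : H → ℂ) : ℤ)) : ℤ) : ℂ) = (((1 + (e - 1) * N : ℕ) : ℤ) : ℂ) := by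
            rw [Int.cast_natCast, ← hrel]; push_cast; ring
          have h3 := Int.cast_injective h2
          have h4 : (0 : ℤ) ≤ ((1 + (e - 1) * N : ℕ) : ℤ) := Int.natCast_nonneg _
          have h5 : (0 : ℤ) < ((1 + (e - 1) * N : ℕ) : ℤ) := by
            have : 0 < 1 + (e - 1) * N := by omega
            exact_mod_cast this
          have h6 : (0 : ℤ) ≤ (charDegree (θ : H → ℂ) : ℤ) := Int.natCast_nonneg _
          omega
      have hdvd : charDegree (θ : H → ℂ) ∣ c * (e * N) := by
        rw [← hcard]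
        exact Cfsg.Agent.Lib.helper81.irr_degree_dvd_card θ
      rw [hcard]
      exact Cfsg.Agent.Lib.helper6.S3875.arith_exc p e N c _ hp he2 (by omega) hNmod hN1 hc0 hpc hf hdvd
    · push Not at hall
      obtain ⟨χ, hχ, hne, hbad⟩ := hall
      rcases hXdata χ hχ hne with h1 | h1
      · exact absurd h1.2 (hbad h1.1)
      · exact key h1

end Cfsg.Agent.Lib.helper20.S3875
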