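import Mathlib
import Cfsg.Agent.Lib.helper26.S4409Defs

/-!
Racer copy (helper20) of piece ES16 of the S4409 split (helper26): `h20_es16`, the verbatim
statement of `es16` in `tools/S4409_Skel.lean.txt` under a prefixed name.
-/

set_option autoImplicit false

namespace Cfsg.Agent.Lib.helper26.S4409

/-- ES16 (racer copy, helper20): there is no extraspecial group of order 16. -/
theorem h20_es16 {P : Type*} [Group P] [Finite P] (h : Cfsg.IsExtraspecial 2 P) :
    Nat.card P ≠ 16 := by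
  classical
  intro h16
  obtain ⟨⟨-, -, hcomm⟩, hZ⟩ := h
  -- commutators are central
  have hc : ∀ a y : P, a * y * a⁻¹ * y⁻¹ ∈ Subgroup.center P := by
    intro a y
    rw [← hcomm, ← commutatorElement_def]
    exact Subgroup.commutator_mem_commutator (Subgroup.mem_top a) (Subgroup.mem_top y)
  -- two non-identity central elements multiply to 1
  have hZ2 : ∀ v ∈ Subgroup.center P, ∀ v' ∈ Subgroup.center P, v ≠ 1 → v' ≠ 1 → v * v' = 1 := by
    intro v hv v' hv' hv1 hv'1
    obtain ⟨c, -, hcu⟩ := (Nat.card_eq_two_iff' (1 : ↥(Subgroup.center P))).mp hZ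
    have e1 : (⟨v, hv⟩ : ↥(Subgroup.center P)) = c :=
      hcu _ (fun hh => hv1 (congrArg Subtype.val hh))
    have e2 : (⟨v', hv'⟩ : ↥(Subgroup.center P)) = c :=
      hcu _ (fun hh => hv'1 (congrArg Subtype.val hh))
    have e3 : v = v' := congrArg Subtype.val (e1.trans e2.symm)
    subst e3
    by_contra hne
    have e4 : (⟨v * v, Subgroup.mul_mem _ hv hv⟩ : ↥(Subgroup.center P)) = c :=
      hcu _ (fun hh => hne (congrArg Subtype.val hh))
    have e5 : v * v = v := congrArg Subtype.val (e4.trans e1.symm)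
    exact hv1 (by simpa using e5)
  -- the homomorphisms `y ↦ [a, y]`
  have hφ : ∀ a : P, ∃ f : P →* P, ∀ y, f y = a * y * a⁻¹ * y⁻¹ := by
    intro a
    refine ⟨MonoidHom.mk' (fun y => a * y * a⁻¹ * y⁻¹) ?_, fun y => rfl⟩
    intro y y'
    have h1 := Subgroup.mem_center_iff.mp (hc a y') y⁻¹
    calc a * (y * y') * a⁻¹ * (y * y')⁻¹
        = a * y * a⁻¹ * ((a * y' * a⁻¹ * y'⁻¹) * y⁻¹) := by group
      _ = a * y * a⁻¹ * (y⁻¹ * (a * y' * a⁻¹ * y'⁻¹)) := by rw [← h1]
      _ = a * y * a⁻¹ * y⁻¹ * (a * y' * a⁻¹ * y'⁻¹) := by rw [← mul_assoc]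
  choose φ hφ using hφ
  have hφZ : ∀ a y, φ a y ∈ Subgroup.center P := fun a y => by rw [hφ]; exact hc a y
  have hφ1 : ∀ a y, φ a y = 1 ↔ a * y = y * a := by
    intro a y
    rw [hφ, mul_inv_eq_one, mul_inv_eq_iff_eq_mul]
  have hker : ∀ a y, y ∈ (φ a).ker ↔ a * y = y * a := fun a y => by
    rw [MonoidHom.mem_ker, hφ1]
  -- centralizers of non-central elements have index 2
  have hidx : ∀ a, a ∉ Subgroup.center P → (φ a).ker.index = 2 := by
    intro a ha
    rw [Subgroup.index_ker]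
    have hle : (φ a).range ≤ Subgroup.center P := by
      rintro _ ⟨y, rfl⟩; exact hφZ a y
    have h1 : Nat.card ↥(φ a).range ≤ 2 := (Subgroup.card_le_of_le hle).trans_eq hZ
    have h2 : 1 < Nat.card ↥(φ a).range := by
      rw [Subgroup.one_lt_card_iff_ne_bot]
      intro hbot
      apply ha
      rw [Subgroup.mem_center_iff]
      intro g
      have h3 : φ a g ∈ (φ a).range := ⟨g, rfl⟩
      rw [hbot, Subgroup.mem_bot, hφ1] at h3
      exact h3.symm
    omega
  obtain ⟨x, hx⟩ : ∃ x : P, x ∉ Subgroup.center P := by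
    by_contra hall
    push_neg at hall
    have h1 : Subgroup.center P = ⊤ := eq_top_iff.mpr (fun g _ => hall g)
    rw [h1, Subgroup.card_top, h16] at hZ
    omega
  obtain ⟨w, hxw⟩ : ∃ w : P, x * w ≠ w * x := by
    by_contra hall
    push_neg at hall
    exact hx (Subgroup.mem_center_iff.mpr (fun g => (hall g).symm))
  have hw : w ∉ Subgroup.center P := fun hw => hxw (Subgroup.mem_center_iff.mp hw x)
  have hxw1 : φ x w ≠ 1 := fun e => hxw ((hφ1 x w).mp e)
  have hwx1 : φ w x ≠ 1 := fun e => hxw ((hφ1 w x).mp e).symm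
  have hxx : φ x x = 1 := (hφ1 x x).mpr rfl
  have hkx : Nat.card ↥(φ x).ker = 8 := by
    have h1 := Subgroup.card_mul_index (φ x).ker
    rw [hidx x hx, h16] at h1
    omega
  obtain ⟨T, hT⟩ : ∃ T : Subgroup P, T = (φ x).ker ⊓ (φ w).ker := ⟨_, rfl⟩
  have hTmem : ∀ y, y ∈ T ↔ y ∈ (φ x).ker ∧ y ∈ (φ w).ker := fun y => by
    rw [hT, Subgroup.mem_inf]
  have hTi : T.index ≤ 4 := by
    have h1 := Subgroup.index_inf_le (H := (φ x).ker) (K := (φ w).ker)
    rw [hidx x hx, hidx w hw] at h1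
    rw [hT]; exact h1
  have hTc : Nat.card ↥T = 4 := by
    have h1 := Subgroup.card_mul_index T
    rw [h16] at h1
    have hle : T ≤ (φ x).ker := fun y hy => ((hTmem y).mp hy).1
    have h2 : Nat.card ↥T < 8 := by
      by_contra hge
      push_neg at hge
      have hTe : T = (φ x).ker := Subgroup.eq_of_le_of_card_ge hle (by rw [hkx]; exact hge)
      have hxT : x ∈ T := by rw [hTe, MonoidHom.mem_ker]; exact hxx
      exact hwx1 (MonoidHom.mem_ker.mp ((hTmem x).mp hxT).2)
    have h3 : 4 ≤ Nat.card ↥T := by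
      by_contra hlt
      push_neg at hlt
      have h4 : Nat.card ↥T * T.index ≤ 3 * 4 := Nat.mul_le_mul (by omega) hTi
      omega
    obtain ⟨n, hn⟩ : ∃ n, n = Nat.card ↥T := ⟨_, rfl⟩
    rw [← hn] at h1 h2 h3 ⊢
    interval_cases n <;> omega
  have hTab : ∀ a ∈ T, ∀ b ∈ T, a * b = b * a := by
    intro a ha b hb
    have h1 := IsPGroup.commutative_of_card_eq_prime_sq (p := 2) (G := ↥T) (hTc.trans (by norm_num))
      ⟨a, ha⟩ ⟨b, hb⟩
    exact congrArg Subtype.val h1
  obtain ⟨u, huT, huZ⟩ : ∃ u ∈ T, u ∉ Subgroup.center P := by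
    by_contra hall
    push_neg at hall
    have h1 := Subgroup.card_le_of_le (show T ≤ Subgroup.center P from hall)
    rw [hTc, hZ] at h1
    omega
  apply huZ
  rw [Subgroup.mem_center_iff]
  have hS : ∀ y, y ∈ (φ u).ker → y * u = u * y := fun y hy => ((hker u y).mp hy).symm
  have hxS : x ∈ (φ u).ker := (hker u x).mpr (((hker x u).mp ((hTmem u).mp huT).1).symm)
  have hwS : w ∈ (φ u).ker := (hker u w).mpr (((hker w u).mp ((hTmem u).mp huT).2).symm)
  have hTS : ∀ t ∈ T, t ∈ (φ u).ker := fun t ht => (hker u t).mpr (hTab u huT t ht)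
  have hstep : ∀ y, y ∈ (φ x).ker → y ∈ (φ u).ker := by
    intro y hy
    by_cases h2 : y ∈ (φ w).ker
    · exact hTS y ((hTmem y).mpr ⟨hy, h2⟩)
    · have hyx : y * x ∈ T := by
        refine (hTmem _).mpr ⟨?_, ?_⟩
        · rw [MonoidHom.mem_ker, map_mul, MonoidHom.mem_ker.mp hy, hxx, one_mul]
        · rw [MonoidHom.mem_ker, map_mul]
          exact hZ2 _ (hφZ w y) _ (hφZ w x) (fun e => h2 (MonoidHom.mem_ker.mpr e)) hwx1
      have h3 := Subgroup.mul_mem _ (hTS _ hyx) (Subgroup.inv_mem _ hxS)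
      rwa [mul_inv_cancel_right] at h3
  intro y
  by_cases h1 : y ∈ (φ x).ker
  · exact hS y (hstep y h1)
  · have hyw : y * w ∈ (φ x).ker := by
      rw [MonoidHom.mem_ker, map_mul]
      exact hZ2 _ (hφZ x y) _ (hφZ x w) (fun e => h1 (MonoidHom.mem_ker.mpr e)) hxw1
    have h3 := Subgroup.mul_mem _ (hstep _ hyw) (Subgroup.inv_mem _ hwS)
    rw [mul_inv_cancel_right] at h3
    exact hS y h3

end Cfsg.Agent.Lib.helper26.S4409
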