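import Mathlib

/-!
# S4706 piece TRANS: an element of order `p` in a permutation group of degree `p`
-/

set_option autoImplicit false

namespace Cfsg.Agent.Lib.helper20.S4706

/-- (TRANS) an element of order `p` in a permutation group of degree `p` has no fixed point,
and a group containing one is transitive. -/
theorem trans_of_order_p {α : Type*} [Fintype α] [DecidableEq α] {p : ℕ} [Fact p.Prime]
    (hα : Fintype.card α = p) (G : Subgroup (Equiv.Perm α)) (σ : G) (hσ : orderOf σ = p) :
    MulAction.IsPretransitive G α ∧ ∀ a : α, σ • a ≠ a := by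
  have hp : p.Prime := Fact.out
  have hσ' : orderOf (σ : Equiv.Perm α) = p := by
    rw [Subgroup.orderOf_coe]
    exact hσ
  have hcyc : (σ : Equiv.Perm α).IsCycle :=
    Equiv.Perm.isCycle_of_prime_order'' (hα ▸ hp) (by rw [hσ', hα])
  have hsupp : (σ : Equiv.Perm α).support = Finset.univ := by
    apply Finset.eq_univ_of_card
    rw [← hcyc.orderOf, hσ', hα]
  have hmem : ∀ a : α, a ∈ (σ : Equiv.Perm α).support := fun a => by
    rw [hsupp]; exact Finset.mem_univ a
  refine ⟨⟨?_⟩, ?_⟩
  · intro a b
    have hab : (σ : Equiv.Perm α).SameCycle a b :=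
      hcyc.sameCycle (Equiv.Perm.mem_support.mp (hmem a)) (Equiv.Perm.mem_support.mp (hmem b))
    obtain ⟨i, hi⟩ := hab
    refine ⟨σ ^ i, ?_⟩
    exact hi
  · intro a
    exact Equiv.Perm.mem_support.mp (hmem a)

end Cfsg.Agent.Lib.helper20.S4706
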