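import Mathlib
import Cfsg.Agent.Lib.helper89.S60Defs

/-!
# S6000 piece AELT2 (racer copy by helper20): `R / Z` is elementary abelian

Proof without counting: every `g ∈ R` commutes with each `TLike` element `t` up to a sign, so `g * g` and all
commutators `g h g⁻¹ h⁻¹` centralize the `TLike` elements.  An element `c` of `R` centralizing the `TLike` elements
is scalar: induction along the upper central series (`R` is nilpotent); if all commutators `[c, y]` are scalar,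
then `c * c` is `TLike` (fourth powers are trivial), hence scalar by `hT`, so `c` is `TLike`, hence scalar by `hT`.
-/

set_option autoImplicit false

namespace Cfsg.Agent.Lib.helper89.S60

open Matrix Cfsg Cfsg.Geo

theorem h20_sc_mul {F : Type*} [Field F] (t a b : Matrix (Fin 4) (Fin 4) F) (ε η : F)
    (ha : t * a = ε • (a * t)) (hb : t * b = η • (b * t)) : t * (a * b) = (ε * η) • (a * b * t) := by
  calc t * (a * b) = (t * a) * b := (mul_assoc t a b).symm
    _ = ε • (a * (t * b)) := by rw [ha, smul_mul_assoc, mul_assoc a t b]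
    _ = (ε * η) • (a * b * t) := by rw [hb, mul_smul_comm, smul_smul, mul_assoc a b t]

theorem h20_sc_mul_left {F : Type*} [Field F] (t a b : Matrix (Fin 4) (Fin 4) F) (ε η : F)
    (ha : a * t = ε • (t * a)) (hb : b * t = η • (t * b)) : (a * b) * t = (ε * η) • (t * (a * b)) := by
  calc (a * b) * t = a * (b * t) := mul_assoc a b t
    _ = η • ((a * t) * b) := by rw [hb, mul_smul_comm, mul_assoc a t b]
    _ = (ε * η) • (t * (a * b)) := by rw [ha, smul_mul_assoc, smul_smul, mul_assoc t a b, mul_comm η ε]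

theorem h20_sc_inv {F : Type*} [Field F] (t : Matrix (Fin 4) (Fin 4) F) (a : GL (Fin 4) F) (ε : F) (hε : ε ≠ 0)
    (ha : t * (a : Matrix (Fin 4) (Fin 4) F) = ε • ((a : Matrix (Fin 4) (Fin 4) F) * t)) :
    t * ((a⁻¹ : GL (Fin 4) F) : Matrix (Fin 4) (Fin 4) F) =
      ε⁻¹ • (((a⁻¹ : GL (Fin 4) F) : Matrix (Fin 4) (Fin 4) F) * t) := by
  have h1 : ((a⁻¹ : GL (Fin 4) F) : Matrix (Fin 4) (Fin 4) F) * (a : Matrix (Fin 4) (Fin 4) F) = 1 :=
    Units.inv_mul a
  have h2 : (a : Matrix (Fin 4) (Fin 4) F) * ((a⁻¹ : GL (Fin 4) F) : Matrix (Fin 4) (Fin 4) F) = 1 :=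
    Units.mul_inv a
  generalize ((a⁻¹ : GL (Fin 4) F) : Matrix (Fin 4) (Fin 4) F) = a' at h1 h2 ⊢
  generalize (a : Matrix (Fin 4) (Fin 4) F) = A at h1 h2 ha
  have h3 : a' * t = ε • (t * a') := by
    calc a' * t = a' * (t * A) * a' := by rw [mul_assoc a' (t * A) a', mul_assoc t A a', h2, mul_one]
      _ = ε • (t * a') := by
        rw [ha, mul_smul_comm, smul_mul_assoc, ← mul_assoc a' A t, h1, one_mul]
  rw [h3, smul_smul, inv_mul_cancel₀ hε, one_smul]

/-- AELT2 (racer copy, helper20): verbatim statement of `s60_sq_scalar`. -/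
theorem h20_s60_sq_scalar {F : Type*} [Field F] [Fintype F] (h2 : (2 : F) ≠ 0) (R : Subgroup (GL (Fin 4) F))
    (hRs : IsSymplecticTypeGroup 2 R) (hRi : ActsAbsolutelyIrreducibly (matrixSet R))
    (hR6 : Nat.card R = 64) (hRZ : Nat.card (Subgroup.center R) = 4)
    (hT : ∀ s ∈ R, TLike R s → (∀ t ∈ R, TLike R t → (s : Matrix (Fin 4) (Fin 4) F) * (t : Matrix (Fin 4) (Fin 4) F) = (t : Matrix (Fin 4) (Fin 4) F) * (s : Matrix (Fin 4) (Fin 4) F)) →
      ∃ c : F, (s : Matrix (Fin 4) (Fin 4) F) = c • (1 : Matrix (Fin 4) (Fin 4) F)) :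
    ∀ s ∈ R, TLike R s := by
  classical
  -- fourth powers are trivial
  have hexp : ∀ x ∈ R, x ^ 4 = 1 := by
    intro x hx
    have h := Monoid.pow_exponent_eq_one (⟨x, hx⟩ : R)
    rw [hRs.exponent_eq] at h
    have h' := congrArg (Subtype.val) h
    simpa using h'
  -- signs
  have hsign : ∀ t ∈ R, TLike R t → ∀ g ∈ R, ∃ ε : F, ε * ε = 1 ∧
      (t : Matrix (Fin 4) (Fin 4) F) * (g : Matrix (Fin 4) (Fin 4) F) =
        ε • ((g : Matrix (Fin 4) (Fin 4) F) * (t : Matrix (Fin 4) (Fin 4) F)) := by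
    intro t ht hTt g hg
    obtain ⟨⟨d, hd⟩, h2'⟩ := hTt
    obtain ⟨ε, hε⟩ := h2' g hg
    refine ⟨ε, ?_, hε⟩
    have hd0 : d ≠ 0 := by
      rintro rfl
      rw [zero_smul] at hd
      exact (t * t).ne_zero (by rw [Units.val_mul]; exact hd)
    have hg0 : (g : Matrix (Fin 4) (Fin 4) F) ≠ 0 := g.ne_zero
    generalize (g : Matrix (Fin 4) (Fin 4) F) = G at hε hg0
    generalize (t : Matrix (Fin 4) (Fin 4) F) = T at hε hd
    have key : d • G = (ε * ε * d) • G := by
      calc d • G = (T * T) * G := by rw [hd, smul_mul_assoc, one_mul]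
        _ = T * (T * G) := mul_assoc T T G
        _ = ε • ((T * G) * T) := by rw [hε, mul_smul_comm, ← mul_assoc T G T, hε]
        _ = (ε * ε) • (G * (T * T)) := by rw [hε, smul_mul_assoc, smul_smul, mul_assoc G T T]
        _ = (ε * ε * d) • G := by rw [hd, mul_smul_comm, mul_one, smul_smul]
    have h0 : (d - ε * ε * d) • G = 0 := by rw [sub_smul, ← key, sub_self]
    rcases smul_eq_zero.1 h0 with h | h
    · have h' : d * (1 - ε * ε) = 0 := by linear_combination h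
      rcases mul_eq_zero.1 h' with h'' | h''
      · exact absurd h'' hd0
      · linear_combination -h''
    · exact absurd h hg0
  -- squares centralize the TLike elements
  have hA : ∀ g ∈ R, ∀ t ∈ R, TLike R t →
      ((g * g : GL (Fin 4) F) : Matrix (Fin 4) (Fin 4) F) * (t : Matrix (Fin 4) (Fin 4) F) =
        (t : Matrix (Fin 4) (Fin 4) F) * ((g * g : GL (Fin 4) F) : Matrix (Fin 4) (Fin 4) F) := by
    intro g hg t ht hTt
    obtain ⟨ε, hεε, hε⟩ := hsign t ht hTt g hg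
    have h := h20_sc_mul _ _ _ ε ε hε hε
    rw [hεε, one_smul] at h
    rw [Units.val_mul]; exact h.symm
  -- commutators centralize the TLike elements
  have hB : ∀ g ∈ R, ∀ h ∈ R, ∀ t ∈ R, TLike R t →
      ((g * h * g⁻¹ * h⁻¹ : GL (Fin 4) F) : Matrix (Fin 4) (Fin 4) F) * (t : Matrix (Fin 4) (Fin 4) F) =
        (t : Matrix (Fin 4) (Fin 4) F) * ((g * h * g⁻¹ * h⁻¹ : GL (Fin 4) F) : Matrix (Fin 4) (Fin 4) F) := by
    intro g hg h hh t ht hTt
    obtain ⟨ε, hεε, hε⟩ := hsign t ht hTt g hg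
    obtain ⟨η, hηη, hη⟩ := hsign t ht hTt h hh
    have hε0 : ε ≠ 0 := by rintro rfl; simp at hεε
    have hη0 : η ≠ 0 := by rintro rfl; simp at hηη
    have h1 := h20_sc_inv _ g ε hε0 hε
    have h2 := h20_sc_inv _ h η hη0 hη
    have h3 := h20_sc_mul _ _ _ _ _ (h20_sc_mul _ _ _ _ _ (h20_sc_mul _ _ _ _ _ hε hη) h1) h2
    have h4 : ε * η * ε⁻¹ * η⁻¹ = 1 := by field_simp
    rw [h4, one_smul] at h3
    simp only [Units.val_mul]; exact h3.symm
  -- elements centralizing the TLike elements are scalar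
  have hC : ∀ n : ℕ, ∀ c : R, c ∈ Subgroup.upperCentralSeries R n →
      (∀ t ∈ R, TLike R t → ((c : GL (Fin 4) F) : Matrix (Fin 4) (Fin 4) F) * (t : Matrix (Fin 4) (Fin 4) F) =
        (t : Matrix (Fin 4) (Fin 4) F) * ((c : GL (Fin 4) F) : Matrix (Fin 4) (Fin 4) F)) →
      ∃ l : F, ((c : GL (Fin 4) F) : Matrix (Fin 4) (Fin 4) F) = l • (1 : Matrix (Fin 4) (Fin 4) F) := by
    intro n
    induction n with
    | zero =>
      intro c hc _
      rw [Subgroup.upperCentralSeries_zero, Subgroup.mem_bot] at hc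
      subst hc
      exact ⟨1, by simp⟩
    | succ n ih =>
      intro c hc hCc
      rw [Subgroup.mem_upperCentralSeries_succ_iff] at hc
      have hcs : ∀ y ∈ R, ∃ l : F, ((c : GL (Fin 4) F) : Matrix (Fin 4) (Fin 4) F) * (y : Matrix (Fin 4) (Fin 4) F) =
          l • ((y : Matrix (Fin 4) (Fin 4) F) * ((c : GL (Fin 4) F) : Matrix (Fin 4) (Fin 4) F)) := by
        intro y hy
        have h1 := hc ⟨y, hy⟩
        obtain ⟨l, hl⟩ := ih _ h1 (fun t ht hTt => hB (c : GL (Fin 4) F) c.2 y hy t ht hTt)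
        refine ⟨l, ?_⟩
        have hl' : (((c : GL (Fin 4) F) * y * (c : GL (Fin 4) F)⁻¹ * y⁻¹ : GL (Fin 4) F) : Matrix (Fin 4) (Fin 4) F) =
            l • (1 : Matrix (Fin 4) (Fin 4) F) := hl
        have e1 : ((c : GL (Fin 4) F) : Matrix (Fin 4) (Fin 4) F) * (y : Matrix (Fin 4) (Fin 4) F) =
            (((c : GL (Fin 4) F) * y * (c : GL (Fin 4) F)⁻¹ * y⁻¹ : GL (Fin 4) F) : Matrix (Fin 4) (Fin 4) F) *
              ((y : Matrix (Fin 4) (Fin 4) F) * ((c : GL (Fin 4) F) : Matrix (Fin 4) (Fin 4) F)) := by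
          rw [← Units.val_mul, ← Units.val_mul, ← Units.val_mul]; congr 1; group
        rw [e1, hl', smul_mul_assoc, one_mul]
      have hcc : TLike R ((c : GL (Fin 4) F) * (c : GL (Fin 4) F)) := by
        refine ⟨⟨1, ?_⟩, fun y hy => ?_⟩
        · have h4 := hexp (c : GL (Fin 4) F) c.2
          have h5 : (c : GL (Fin 4) F) * (c : GL (Fin 4) F) * ((c : GL (Fin 4) F) * (c : GL (Fin 4) F)) = 1 := by
            rw [← h4]; simp [pow_succ, mul_assoc]
          rw [one_smul, ← Units.val_mul, h5, Units.val_one]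
        · obtain ⟨l, hl⟩ := hcs y hy
          exact ⟨l * l, by rw [Units.val_mul]; exact h20_sc_mul_left _ _ _ l l hl hl⟩
      have hCcc : ∀ t ∈ R, TLike R t →
          (((c : GL (Fin 4) F) * (c : GL (Fin 4) F) : GL (Fin 4) F) : Matrix (Fin 4) (Fin 4) F) * (t : Matrix (Fin 4) (Fin 4) F) =
            (t : Matrix (Fin 4) (Fin 4) F) * (((c : GL (Fin 4) F) * (c : GL (Fin 4) F) : GL (Fin 4) F) : Matrix (Fin 4) (Fin 4) F) := by
        intro t ht hTt
        have h : Commute ((c : GL (Fin 4) F) : Matrix (Fin 4) (Fin 4) F) (t : Matrix (Fin 4) (Fin 4) F) := hCc t ht hTt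
        rw [Units.val_mul]; exact (Commute.mul_left h h).eq
      obtain ⟨μ, hμ⟩ := hT _ (mul_mem c.2 c.2) hcc hCcc
      have hcT : TLike R (c : GL (Fin 4) F) := ⟨⟨μ, by rw [← Units.val_mul]; exact hμ⟩, hcs⟩
      exact hT _ c.2 hcT hCc
  have : Fact (Nat.Prime 2) := ⟨Nat.prime_two⟩
  have : Group.IsNilpotent R := hRs.pGroup.isNilpotent
  obtain ⟨n, hn⟩ := Group.IsNilpotent.nilpotent R
  have hCs : ∀ c ∈ R, (∀ t ∈ R, TLike R t → (c : Matrix (Fin 4) (Fin 4) F) * (t : Matrix (Fin 4) (Fin 4) F) =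
        (t : Matrix (Fin 4) (Fin 4) F) * (c : Matrix (Fin 4) (Fin 4) F)) →
      ∃ l : F, (c : Matrix (Fin 4) (Fin 4) F) = l • (1 : Matrix (Fin 4) (Fin 4) F) :=
    fun c hc h => hC n ⟨c, hc⟩ (by rw [hn]; trivial) h
  intro s hs
  refine ⟨?_, fun g hg => ?_⟩
  · obtain ⟨l, hl⟩ := hCs _ (mul_mem hs hs) (hA s hs)
    exact ⟨l, by rw [← Units.val_mul]; exact hl⟩
  · obtain ⟨l, hl⟩ := hCs _ (mul_mem (mul_mem (mul_mem hs hg) (inv_mem hs)) (inv_mem hg)) (hB s hs g hg)
    refine ⟨l, ?_⟩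
    have e1 : (s : Matrix (Fin 4) (Fin 4) F) * (g : Matrix (Fin 4) (Fin 4) F) =
        ((s * g * s⁻¹ * g⁻¹ : GL (Fin 4) F) : Matrix (Fin 4) (Fin 4) F) *
          ((g : Matrix (Fin 4) (Fin 4) F) * (s : Matrix (Fin 4) (Fin 4) F)) := by
      rw [← Units.val_mul, ← Units.val_mul, ← Units.val_mul]; congr 1; group
    rw [e1, hl, smul_mul_assoc, one_mul]

end Cfsg.Agent.Lib.helper89.S60
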