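import Mathlib
import Cfsg.Agent.Lib.helper89.S60Defs
import Cfsg.Agent.Lib.helper31.S60BFC
import Cfsg.Agent.Lib.helper29.S60BTF

/-!
# S6000 piece N3 (racer copy by helper20): a derangement of order 3 when `q = 1 mod 3`
-/

set_option autoImplicit false

namespace Cfsg.Agent.Lib.helper89.S60

open Matrix Cfsg Cfsg.Geo

/-- A primitive cube root of unity in a finite field with `q = 1 mod 3`. -/
theorem h20_exists_omega {F : Type*} [Field F] [Fintype F] (hq : Fintype.card F % 3 = 1) :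
    ∃ ω : F, ω ≠ 1 ∧ ω ^ 3 = 1 := by
  classical
  have hcard : Nat.card Fˣ = Fintype.card F - 1 := by
    rw [Nat.card_eq_fintype_card, Fintype.card_units]
  have h3 : 3 ∣ Nat.card Fˣ := by
    rw [hcard]
    have := Fintype.card_pos (α := F)
    omega
  have : Fact (Nat.Prime 3) := ⟨Nat.prime_three⟩
  obtain ⟨u, hu⟩ := exists_prime_orderOf_dvd_card' 3 h3
  refine ⟨(u : F), ?_, ?_⟩
  · intro h
    have hu1 : u = 1 := Units.ext h
    rw [hu1, orderOf_one] at hu
    omega
  · have h := pow_orderOf_eq_one u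
    rw [hu] at h
    have h' := congrArg Units.val h
    simpa using h'

/-- N3 (racer copy, helper20): verbatim statement of `s60_nec_three`. -/
theorem h20_s60_nec_three {F : Type*} [Field F] [Fintype F] (h2 : (2 : F) ≠ 0) (R : Subgroup (GL (Fin 4) F)) (w : F) (hG : Good R w)
    (h3 : (3 : F) ≠ 0) (hq : Fintype.card F % 3 = 1) : Derang R 3 := by
  classical
  obtain ⟨ω, hω1, hω3⟩ := h20_exists_omega hq
  have hω : ω ^ 2 + ω + 1 = 0 := by
    have h : (ω - 1) * (ω ^ 2 + ω + 1) = 0 := by linear_combination hω3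
    rcases mul_eq_zero.1 h with h | h
    · exact absurd (sub_eq_zero.1 h) hω1
    · exact h
  have hDD' : (Matrix.diagonal ![ω, ω, ω, 1] : Matrix (Fin 4) (Fin 4) F) *
      Matrix.diagonal ![ω ^ 2, ω ^ 2, ω ^ 2, 1] = 1 := by
    rw [Matrix.diagonal_mul_diagonal, ← Matrix.diagonal_one]
    congr 1
    funext i
    fin_cases i <;> simp <;> linear_combination hω3
  have hD'D : (Matrix.diagonal ![ω ^ 2, ω ^ 2, ω ^ 2, 1] : Matrix (Fin 4) (Fin 4) F) *
      Matrix.diagonal ![ω, ω, ω, 1] = 1 := by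
    rw [Matrix.diagonal_mul_diagonal, ← Matrix.diagonal_one]
    congr 1
    funext i
    fin_cases i <;> simp <;> linear_combination hω3
  let x : GL (Fin 4) F := ⟨Matrix.diagonal ![ω, ω, ω, 1], Matrix.diagonal ![ω ^ 2, ω ^ 2, ω ^ 2, 1], hDD', hD'D⟩
  have hxv : (x : Matrix (Fin 4) (Fin 4) F) = Matrix.diagonal ![ω, ω, ω, 1] := rfl
  have hxiv : ((x⁻¹ : GL (Fin 4) F) : Matrix (Fin 4) (Fin 4) F) = Matrix.diagonal ![ω ^ 2, ω ^ 2, ω ^ 2, 1] := rfl
  have hx3 : x ^ 3 = 1 := by
    apply Units.ext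
    rw [Units.val_pow_eq_pow_val, hxv, Units.val_one, Matrix.diagonal_pow, ← Matrix.diagonal_one]
    congr 1
    funext i
    fin_cases i <;> simp [hω3]
  refine ⟨x, ?_, hx3, ?_, ?_⟩
  · change x ∈ (Matrix.GeneralLinearGroup.det : GL (Fin 4) F →* Fˣ).ker
    rw [MonoidHom.mem_ker]
    ext
    simp only [Matrix.GeneralLinearGroup.val_det_apply, hxv, Matrix.det_diagonal, Fin.prod_univ_four, Units.val_one]
    simp
    linear_combination hω3
  · intro z hz
    rw [hxv] at hz
    have h0 := congrFun (congrFun hz 0) 0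
    have h3' := congrFun (congrFun hz 3) 3
    simp [Matrix.smul_apply] at h0 h3'
    exact hω1 (by rw [h0, ← h3'])
  · intro g hy
    have hy3 : (g⁻¹ * x * g) ^ 3 = 1 := by
      have h : (g⁻¹ * x * g) ^ 3 = g⁻¹ * x ^ 3 * g := by
        simp only [pow_three, mul_assoc, mul_inv_cancel_left]
      rw [h, hx3]; simp
    have : Fact (Nat.Prime 3) := ⟨Nat.prime_three⟩
    obtain ⟨hc1, hc2, hc3, -⟩ := s60_fix_count h2 R w hG 3 (g⁻¹ * x * g) hy hy3
    have hbtf := s60_trace_formula h2 R w hG (g⁻¹ * x * g) hy 3 (by decide) hy3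
    have ht1 : Matrix.trace ((g⁻¹ * x * g : GL (Fin 4) F) : Matrix (Fin 4) (Fin 4) F) = 3 * ω + 1 := by
      simp only [Units.val_mul]
      rw [Matrix.trace_mul_cycle, Units.mul_inv, one_mul, hxv, Matrix.trace_diagonal, Fin.sum_univ_four]
      simp
      ring
    have ht2 : Matrix.trace (((g⁻¹ * x * g)⁻¹ : GL (Fin 4) F) : Matrix (Fin 4) (Fin 4) F) = 3 * ω ^ 2 + 1 := by
      have h : (g⁻¹ * x * g)⁻¹ = g⁻¹ * x⁻¹ * g := by
        simp only [_root_.mul_inv_rev, inv_inv, mul_assoc]
      rw [h]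
      simp only [Units.val_mul]
      rw [Matrix.trace_mul_cycle, Units.mul_inv, one_mul, hxiv, Matrix.trace_diagonal, Fin.sum_univ_four]
      simp
      ring
    rw [ht1, ht2] at hbtf
    generalize Nat.card {s : GL (Fin 4) F // s ∈ R ∧ g⁻¹ * x * g * s = s * (g⁻¹ * x * g)} = c at hc1 hc2 hc3 hbtf
    have hc28 : (c : F) = 28 := by
      rw [← hbtf]
      linear_combination 36 * hω3 + 12 * hω
    have hcle : c ≤ 64 := Nat.le_of_dvd (by norm_num) hc1
    have hc : c = 4 ∨ c = 16 ∨ c = 64 := by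
      interval_cases c <;> omega
    rcases hc with hc | hc | hc
    · rw [hc] at hc28
      have h : (2 : F) ^ 3 * 3 = 0 := by
        push_cast at hc28
        linear_combination -hc28
      simp [h2, h3] at h
    · rw [hc] at hc28
      have h : (2 : F) ^ 2 * 3 = 0 := by
        push_cast at hc28
        linear_combination -hc28
      simp [h2, h3] at h
    · rw [hc] at hc28
      have h : (2 : F) ^ 2 * 3 ^ 2 = 0 := by
        push_cast at hc28
        linear_combination hc28
      simp [h2, h3] at h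

end Cfsg.Agent.Lib.helper89.S60
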