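import Mathlib
import Cfsg.Agent.Lib.helper45.SVDefs

set_option autoImplicit false

namespace Cfsg.Agent.Lib.helper45.SV

/-- The Moebius function is transported by an order embedding whose range is a lower set. -/
theorem h20_mu_transfer {α β : Type*} [PartialOrder α] [LocallyFiniteOrder α] [DecidableEq α]
    [PartialOrder β] [LocallyFiniteOrder β] [DecidableEq β] (e : β ↪o α)
    (hlow : ∀ b : β, ∀ x : α, x ≤ e b → ∃ y, e y = x) (a : β) :
    ∀ (n : ℕ) (b : β), (Finset.Icc a b).card ≤ n →
      IncidenceAlgebra.mu ℤ (e a) (e b) = IncidenceAlgebra.mu ℤ a b := by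
  intro n
  induction n with
  | zero =>
    intro b hb
    have hab : ¬ a ≤ b := by
      intro hle
      have : a ∈ Finset.Icc a b := Finset.mem_Icc.2 ⟨le_rfl, hle⟩
      have h0 : (Finset.Icc a b).card = 0 := Nat.le_zero.1 hb
      rw [Finset.card_eq_zero] at h0
      rw [h0] at this
      exact absurd this (Finset.notMem_empty _)
    have hab' : ¬ e a ≤ e b := fun h => hab (e.le_iff_le.1 h)
    rw [IncidenceAlgebra.apply_eq_zero_of_not_le hab, IncidenceAlgebra.apply_eq_zero_of_not_le hab']
  | succ n ih =>
    intro b hb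
    by_cases hab : a = b
    · subst hab
      simp
    · have hab' : e a ≠ e b := fun h => hab (e.injective h)
      rw [IncidenceAlgebra.mu_eq_neg_sum_Ico_of_ne hab, IncidenceAlgebra.mu_eq_neg_sum_Ico_of_ne hab']
      have hmap : Finset.Ico (e a) (e b) = (Finset.Ico a b).map e.toEmbedding := by
        ext x
        simp only [Finset.mem_Ico, Finset.mem_map, RelEmbedding.coe_toEmbedding]
        constructor
        · rintro ⟨h1, h2⟩
          obtain ⟨y, rfl⟩ := hlow b x h2.le
          exact ⟨y, ⟨e.le_iff_le.1 h1, e.lt_iff_lt.1 h2⟩, rfl⟩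
        · rintro ⟨y, ⟨h1, h2⟩, rfl⟩
          exact ⟨e.le_iff_le.2 h1, e.lt_iff_lt.2 h2⟩
      rw [hmap, Finset.sum_map]
      congr 1
      refine Finset.sum_congr rfl ?_
      intro y hy
      have hy' := Finset.mem_Ico.1 hy
      refine ih y ?_
      have hlt : (Finset.Icc a y).card < (Finset.Icc a b).card :=
        Finset.card_lt_card (Finset.Icc_ssubset_Icc_right (hy'.1.trans hy'.2.le) le_rfl hy'.2)
      exact Nat.le_of_lt_succ (lt_of_lt_of_le hlt hb)

/-- The Moebius function does not depend on the instances. -/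
theorem h20_mu_inst {α : Type*} [PartialOrder α] (i1 i2 : LocallyFiniteOrder α)
    (d1 d2 : DecidableEq α) (a b : α) :
    @IncidenceAlgebra.mu ℤ α _ _ _ i1 d1 a b = @IncidenceAlgebra.mu ℤ α _ _ _ i2 d2 a b := by
  have h1 : i1 = i2 := Subsingleton.elim _ _
  have h2 : d1 = d2 := Subsingleton.elim _ _
  subst h1
  subst h2
  rfl

/-- INT (M), racer copy. -/
theorem h20_mu_bot_eq_mobInv_restrict {F : Type*} [Field F] {V : Type*} [AddCommGroup V] [Module F V]
    [Finite V] (T : Module.End F V) [Fintype (T.invtSubmodule)] [DecidableEq (T.invtSubmodule)]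
    [LocallyFiniteOrder (T.invtSubmodule)] (U : Submodule F V) (hU : ∀ v ∈ U, T v ∈ U)
    (hU' : U ∈ T.invtSubmodule) :
    IncidenceAlgebra.mu ℤ (⊥ : T.invtSubmodule) ⟨U, hU'⟩ = mobInv (T.restrict hU) := by
  classical
  let iF : Fintype ((Module.End.invtSubmodule (T.restrict hU))) := Fintype.ofFinite _
  let iL : LocallyFiniteOrder ((Module.End.invtSubmodule (T.restrict hU))) := Fintype.toLocallyFiniteOrder
  -- the embedding
  have hinv : ∀ W : (Module.End.invtSubmodule (T.restrict hU)),
      (W : Submodule F U).map U.subtype ∈ T.invtSubmodule := by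
    intro W
    rw [Module.End.mem_invtSubmodule]
    rintro v ⟨w, hw, rfl⟩
    have hW := W.2
    rw [Module.End.mem_invtSubmodule] at hW
    have h1 : (T.restrict hU) w ∈ (W : Submodule F U) := hW hw
    exact ⟨(T.restrict hU) w, h1, rfl⟩
  let f : (Module.End.invtSubmodule (T.restrict hU)) → T.invtSubmodule := fun W => ⟨_, hinv W⟩
  have hf_le : ∀ W W' : (Module.End.invtSubmodule (T.restrict hU)), f W ≤ f W' ↔ W ≤ W' := by
    intro W W'
    change (W : Submodule F U).map U.subtype ≤ (W' : Submodule F U).map U.subtype ↔ _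
    rw [Submodule.map_le_map_iff_of_injective U.injective_subtype]
    rfl
  let e : (Module.End.invtSubmodule (T.restrict hU)) ↪o T.invtSubmodule := OrderEmbedding.ofMapLEIff f hf_le
  have hlow : ∀ b : (Module.End.invtSubmodule (T.restrict hU)), ∀ x : T.invtSubmodule, x ≤ e b → ∃ y, e y = x := by
    intro b x hx
    have hxU : (x : Submodule F V) ≤ U := by
      have h1 : (x : Submodule F V) ≤ (b : Submodule F U).map U.subtype := hx
      exact h1.trans (Submodule.map_subtype_le U _)
    have hy : (x : Submodule F V).comap U.subtype ∈ (Module.End.invtSubmodule (T.restrict hU)) := by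
      rw [Module.End.mem_invtSubmodule]
      intro w hw
      have hx2 := x.2
      rw [Module.End.mem_invtSubmodule] at hx2
      have : T (w : V) ∈ (x : Submodule F V) := hx2 hw
      exact this
    refine ⟨⟨_, hy⟩, ?_⟩
    apply Subtype.ext
    change ((x : Submodule F V).comap U.subtype).map U.subtype = (x : Submodule F V)
    rw [Submodule.map_comap_subtype]
    exact inf_eq_right.2 hxU
  have hbot : e ⊥ = ⊥ := by
    apply Subtype.ext
    change (⊥ : Submodule F U).map U.subtype = ⊥
    exact Submodule.map_bot _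
  have htop : e ⊤ = ⟨U, hU'⟩ := by
    apply Subtype.ext
    change (⊤ : Submodule F U).map U.subtype = U
    rw [Submodule.map_top, Submodule.range_subtype]
  have key := h20_mu_transfer e hlow ⊥ _ ⊤ le_rfl
  rw [hbot, htop] at key
  rw [key]
  unfold mobInv
  exact h20_mu_inst _ _ _ _ _ _

end Cfsg.Agent.Lib.helper45.SV
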