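import Mathlib
import Cfsg.Prelude.Def_Solvable
import Cfsg.Prelude.Def_Local
import Cfsg.Agent.Lib.helper28.CoprimeLayer

/-!
# S3797 piece FO: `O_2(H) = 1` implies `|F(H)|` odd
-/

set_option autoImplicit false

namespace Cfsg.Agent.Lib.helper20.T97

/-- PIECE FO. -/
theorem odd_card_fitting {H : Type*} [Group H] [Finite H] (h : Cfsg.pCore 2 H = ⊥) :
    Odd (Nat.card (Cfsg.fittingSubgroup H)) := by
  haveI : Fact (Nat.Prime 2) := ⟨Nat.prime_two⟩
  exact Nat.coprime_two_right.mp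
    (Cfsg.Agent.Lib.helper28.fittingSubgroup_card_coprime_of_pCore_eq_bot (p := 2) h)

end Cfsg.Agent.Lib.helper20.T97
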