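import Mathlib
import Cfsg.Prelude.Def_Solvable
import Cfsg.Prelude.Def_Local
import Cfsg.Agent.Lib.helper66.DualHH

/-!
# S3797 piece PC: `O_p(G / O_p(G)) = 1`
-/

set_option autoImplicit false

namespace Cfsg.Agent.Lib.helper20.T97

/-- PIECE PC. -/
theorem pCore_quotient_pCore_eq_bot {G : Type*} [Group G] [Finite G] (p : ℕ) [Fact p.Prime] :
    Cfsg.pCore p (G ⧸ Cfsg.pCore p G) = ⊥ :=
  Cfsg.Agent.Lib.helper66.pCore_quotient_pCore p

end Cfsg.Agent.Lib.helper20.T97
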