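import Cfsg.Agent.Lib.helper38.TN2
import Cfsg.Agent.Lib.helper38.PGroupNormal

/-!
helper20: piece E of Thompson's N-groups lemma (S4415): the 2-group analysis
(`typeI_of_two_group`).  The first part is a purely group-theoretic statement about a finite
2-group `P` with a central involution `z`, an endomorphism `β` of order 3 and a four-group
`{1, q₁, q₂, q₃}` permuted by `β` whose centralizer is `{1, q_i, z, z q_i}`.
-/

set_option autoImplicit false

namespace Cfsg.Agent.Lib.helper20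

section TNECore

variable {P : Type*} [Group P]

/-- The subgroup `{1, z}` for an involution `z`. -/
def tneZ (z : P) (hzz : z * z = 1) : Subgroup P where
  carrier := {s | s = 1 ∨ s = z}
  mul_mem' := by
    rintro a b (rfl | rfl) (rfl | rfl)
    · left; exact one_mul 1
    · right; exact one_mul _
    · right; exact mul_one _
    · left; exact hzz
  one_mem' := Or.inl rfl
  inv_mem' := by
    rintro a (rfl | rfl)
    · left; exact inv_one
    · right; exact inv_eq_of_mul_eq_one_right hzz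

theorem tneZ_central {z : P} (hzz : z * z = 1) (hzc : ∀ x, x * z = z * x) :
    ∀ s ∈ tneZ z hzz, ∀ x : P, x * s = s * x := by
  rintro s (rfl | rfl) x
  · rw [mul_one, one_mul]
  · exact hzc x

theorem tneZ_normal {z : P} (hzz : z * z = 1) (hzc : ∀ x, x * z = z * x) :
    (tneZ z hzz).Normal := by
  constructor
  intro n hn g
  rw [tneZ_central hzz hzc n hn g, mul_assoc, mul_inv_cancel, mul_one]
  exact hn

theorem tneZ_sq {z : P} (hzz : z * z = 1) : ∀ s ∈ tneZ z hzz, s * s = 1 := by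
  rintro s (rfl | rfl)
  · exact one_mul 1
  · exact hzz

theorem tne_tw_mul_right {s t u g g' : P} (ht : ∀ x, x * t = t * x)
    (h1 : u * g = s * (g * u)) (h2 : u * g' = t * (g' * u)) :
    u * (g * g') = (s * t) * ((g * g') * u) := by
  calc u * (g * g') = (u * g) * g' := by group
    _ = s * (g * u) * g' := by rw [h1]
    _ = s * g * (u * g') := by group
    _ = s * g * (t * (g' * u)) := by rw [h2]
    _ = s * (g * t) * (g' * u) := by group
    _ = s * (t * g) * (g' * u) := by rw [ht g]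
    _ = (s * t) * ((g * g') * u) := by group

theorem tne_tw_mul_left {s t u v g : P} (hs : ∀ x, x * s = s * x) (ht : ∀ x, x * t = t * x)
    (h1 : u * g = s * (g * u)) (h2 : v * g = t * (g * v)) :
    (u * v) * g = (s * t) * (g * (u * v)) := by
  calc (u * v) * g = u * (v * g) := by group
    _ = u * (t * (g * v)) := by rw [h2]
    _ = (u * t) * (g * v) := by group
    _ = (t * u) * (g * v) := by rw [ht u]
    _ = t * ((u * g) * v) := by group
    _ = t * ((s * (g * u)) * v) := by rw [h1]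
    _ = (t * s) * (g * (u * v)) := by group
    _ = (s * t) * (g * (u * v)) := by rw [hs t]

theorem tne_tw_inv_left {s u g : P} (hs : ∀ x, x * s = s * x) (h : u * g = s * (g * u)) :
    u⁻¹ * g = s⁻¹ * (g * u⁻¹) := by
  calc u⁻¹ * g = s⁻¹ * (s * u⁻¹) * g := by group
    _ = s⁻¹ * (u⁻¹ * s) * g := by rw [hs u⁻¹]
    _ = s⁻¹ * (u⁻¹ * (s * (g * u)) * u⁻¹) := by group
    _ = s⁻¹ * (u⁻¹ * (u * g) * u⁻¹) := by rw [h]
    _ = s⁻¹ * (g * u⁻¹) := by group

theorem tne_tw_symm {s u g : P} (h : u * g = s * (g * u)) : g * u = s⁻¹ * (u * g) := by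
  rw [h]; group

theorem tne_tw_unique {s t u g : P} (h1 : u * g = s * (g * u)) (h2 : u * g = t * (g * u)) :
    s = t :=
  mul_right_cancel (h1.symm.trans h2)

/-- The preimage of the elements of order `≤ 2` of the centre of `P / {1, z}`. -/
def tneU (z : P) (hzz : z * z = 1) (hzc : ∀ x, x * z = z * x) : Subgroup P where
  carrier := {u | u * u ∈ tneZ z hzz ∧ ∀ g, ∃ s ∈ tneZ z hzz, u * g = s * (g * u)}
  mul_mem' := by
    rintro u v ⟨hu, hu'⟩ ⟨hv, hv'⟩
    have hc := tneZ_central hzz hzc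
    refine ⟨?_, fun g => ?_⟩
    · obtain ⟨t, ht, e⟩ := hv' u
      have key : (u * v) * (u * v) = t * ((u * u) * (v * v)) := by
        calc (u * v) * (u * v) = u * (v * u) * v := by group
          _ = u * (t * (u * v)) * v := by rw [e]
          _ = (u * t) * (u * v * v) := by group
          _ = (t * u) * (u * v * v) := by rw [hc t ht u]
          _ = t * ((u * u) * (v * v)) := by group
      rw [key]
      exact mul_mem ht (mul_mem hu hv)
    · obtain ⟨s, hs, e1⟩ := hu' g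
      obtain ⟨t, ht, e2⟩ := hv' g
      exact ⟨s * t, mul_mem hs ht, tne_tw_mul_left (hc s hs) (hc t ht) e1 e2⟩
  one_mem' := by
    refine ⟨?_, fun g => ⟨1, one_mem _, ?_⟩⟩
    · rw [one_mul]; exact one_mem _
    · rw [one_mul, one_mul, mul_one]
  inv_mem' := by
    rintro u ⟨hu, hu'⟩
    have hc := tneZ_central hzz hzc
    refine ⟨?_, fun g => ?_⟩
    · have key : u⁻¹ * u⁻¹ = (u * u)⁻¹ := by group
      rw [key]
      exact inv_mem hu
    · obtain ⟨s, hs, e⟩ := hu' g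
      exact ⟨s⁻¹, inv_mem hs, tne_tw_inv_left (hc s hs) e⟩

theorem tneZ_le_U {z : P} (hzz : z * z = 1) (hzc : ∀ x, x * z = z * x) :
    tneZ z hzz ≤ tneU z hzz hzc := by
  intro s hs
  refine ⟨mul_mem hs hs, fun g => ⟨1, one_mem _, ?_⟩⟩
  rw [one_mul]
  exact (tneZ_central hzz hzc s hs g).symm

theorem tneU_conj {z : P} (hzz : z * z = 1) (hzc : ∀ x, x * z = z * x) {u : P}
    (hu : u ∈ tneU z hzz hzc) (r : P) : r * u * r⁻¹ ∈ tneU z hzz hzc := by
  obtain ⟨hu1, hu2⟩ := hu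
  have hc := tneZ_central hzz hzc
  refine ⟨?_, fun g => ?_⟩
  · have k1 : (r * u * r⁻¹) * (r * u * r⁻¹) = (r * (u * u)) * r⁻¹ := by group
    have k2 : (r * (u * u)) * r⁻¹ = u * u := by rw [hc _ hu1 r]; group
    rw [k1, k2]
    exact hu1
  · obtain ⟨s, hs, e⟩ := hu2 (r⁻¹ * g * r)
    refine ⟨s, hs, ?_⟩
    calc (r * u * r⁻¹) * g = r * (u * (r⁻¹ * g * r)) * r⁻¹ := by group
      _ = r * (s * ((r⁻¹ * g * r) * u)) * r⁻¹ := by rw [e]
      _ = (r * s) * ((r⁻¹ * g * r) * u) * r⁻¹ := by group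
      _ = (s * r) * ((r⁻¹ * g * r) * u) * r⁻¹ := by rw [hc s hs r]
      _ = s * (g * (r * u * r⁻¹)) := by group

theorem tneZ_map {z : P} (hzz : z * z = 1) (β : P →* P) (hβz : β z = z) :
    ∀ s ∈ tneZ z hzz, β s = s := by
  rintro s (rfl | rfl)
  · exact map_one β
  · exact hβz

theorem tneU_map {z : P} (hzz : z * z = 1) (hzc : ∀ x, x * z = z * x) (β : P →* P)
    (hβ : ∀ x, β (β (β x)) = x) (hβz : β z = z) {u : P}
    (hu : u ∈ tneU z hzz hzc) : β u ∈ tneU z hzz hzc := by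
  obtain ⟨hu1, hu2⟩ := hu
  have hβZ := tneZ_map hzz β hβz
  refine ⟨?_, fun g => ?_⟩
  · rw [← map_mul, hβZ _ hu1]
    exact hu1
  · obtain ⟨s, hs, e⟩ := hu2 (β (β g))
    refine ⟨s, hs, ?_⟩
    have k := congrArg β e
    rw [map_mul, map_mul, map_mul, hβ, hβZ s hs] at k
    exact k

theorem tne_exists_U [Finite P] (hP : IsPGroup 2 P) {z : P} (hzz : z * z = 1)
    (hzc : ∀ x, x * z = z * x) (D : Subgroup P) [D.Normal] (hD : ¬ D ≤ tneZ z hzz) :
    ∃ v ∈ D, v ∈ tneU z hzz hzc ∧ v ∉ tneZ z hzz := by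
  have hc := tneZ_central hzz hzc
  have : (tneZ z hzz).Normal := tneZ_normal hzz hzc
  obtain ⟨x, hxD, hxZ, hx⟩ :=
    Cfsg.Agent.Lib.helper38.exists_central_mod_of_normal hP (tneZ z hzz) D hD
  have hx1 : ∀ g, ∃ s ∈ tneZ z hzz, x * g = s * (g * x) := by
    intro g
    refine ⟨(x⁻¹ * (g * x * g⁻¹))⁻¹, inv_mem (hx g), ?_⟩
    have h1 := hc _ (hx g) x
    have h2 : (x⁻¹ * (g * x * g⁻¹)) * (x * g) = g * x := by
      calc (x⁻¹ * (g * x * g⁻¹)) * (x * g) = ((x⁻¹ * (g * x * g⁻¹)) * x) * g := by group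
        _ = (x * (x⁻¹ * (g * x * g⁻¹))) * g := by rw [h1]
        _ = g * x := by group
    calc x * g = (x⁻¹ * (g * x * g⁻¹))⁻¹ * ((x⁻¹ * (g * x * g⁻¹)) * (x * g)) := by group
      _ = (x⁻¹ * (g * x * g⁻¹))⁻¹ * (g * x) := by rw [h2]
  have hxn : ∀ n : ℕ, ∀ g, ∃ s ∈ tneZ z hzz, x ^ n * g = s * (g * x ^ n) := by
    intro n
    induction n with
    | zero => intro g; exact ⟨1, one_mem _, by simp⟩
    | succ n ih =>
      intro g
      obtain ⟨s, hs, e1⟩ := ih g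
      obtain ⟨t, ht, e2⟩ := hx1 g
      refine ⟨s * t, mul_mem hs ht, ?_⟩
      rw [pow_succ]
      exact tne_tw_mul_left (hc s hs) (hc t ht) e1 e2
  have hex : ∃ k : ℕ, x ^ (2 ^ k) ∈ tneZ z hzz := by
    obtain ⟨k, hk⟩ := (IsPGroup.iff_orderOf.mp hP) x
    exact ⟨k, by rw [← hk, pow_orderOf_eq_one]; exact one_mem _⟩
  classical
  have hk0 : Nat.find hex ≠ 0 := by
    intro h0
    have h := Nat.find_spec hex
    rw [h0, pow_zero, pow_one] at h
    exact hxZ h
  obtain ⟨m, hm⟩ := Nat.exists_eq_succ_of_ne_zero hk0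
  refine ⟨x ^ (2 ^ m), pow_mem hxD _, ⟨?_, hxn _⟩, ?_⟩
  · have h := Nat.find_spec hex
    rw [hm, pow_succ, pow_mul, pow_two] at h
    exact h
  · exact Nat.find_min hex (by omega)

/-- The commutation pattern of `u` with respect to `q₁, q₂`. -/
def tnePat (q₁ q₂ u s₁ s₂ : P) : Prop := u * q₁ = s₁ * (q₁ * u) ∧ u * q₂ = s₂ * (q₂ * u)

/-- The group-theoretic core of piece E. -/
theorem tne_core [Finite P] (hP : IsPGroup 2 P) (β : P →* P) (hβ : ∀ x, β (β (β x)) = x)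
    (z q₁ q₂ q₃ : P) (hz1 : z ≠ 1) (hzz : z * z = 1) (hzc : ∀ x, x * z = z * x) (hβz : β z = z)
    (hq1 : q₁ * q₁ = 1) (h12 : q₁ * q₂ = q₃) (h21 : q₂ * q₁ = q₃)
    (hβ1 : β q₁ = q₂) (hβ2 : β q₂ = q₃) (hβ3 : β q₃ = q₁) (hq12 : q₂ ≠ q₁)
    (hC : ∀ g, g * q₁ = q₁ * g → g * q₂ = q₂ * g →
      g = 1 ∨ g = q₁ ∨ g = q₂ ∨ g = q₃ ∨ g = z ∨ g = z * q₁ ∨ g = z * q₂ ∨ g = z * q₃) :
    ∃ E : Subgroup P, (∀ r n, n ∈ E → r * n * r⁻¹ ∈ E) ∧ (∀ n ∈ E, β n ∈ E) ∧
      (∀ x ∈ E, x * x = 1) ∧ ∃ x ∈ E, β x ≠ x := by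
  have hc := tneZ_central hzz hzc
  have hβZ := tneZ_map hzz β hβz
  have hsqZ := tneZ_sq hzz
  have hZU := tneZ_le_U hzz hzc
  have hq2 : q₂ * q₂ = 1 := by rw [← hβ1, ← map_mul, hq1, map_one]
  have hq3 : q₃ * q₃ = 1 := by rw [← hβ2, ← map_mul, hq2, map_one]
  have hzinv : z⁻¹ = z := inv_eq_of_mul_eq_one_right hzz
  have hβU : ∀ {u : P}, u ∈ tneU z hzz hzc → β u ∈ tneU z hzz hzc :=
    fun hu => tneU_map hzz hzc β hβ hβz hu
  by_cases hqU : q₁ ∈ tneU z hzz hzc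
  · -- case (a): the centralizer of the four-group works
    have hq2U : q₂ ∈ tneU z hzz hzc := hβ1 ▸ hβU hqU
    let E : Subgroup P :=
      { carrier := {g | g * q₁ = q₁ * g ∧ g * q₂ = q₂ * g}
        mul_mem' := by
          rintro a b ⟨ha1, ha2⟩ ⟨hb1, hb2⟩
          exact ⟨by rw [mul_assoc, hb1, ← mul_assoc, ha1, mul_assoc],
            by rw [mul_assoc, hb2, ← mul_assoc, ha2, mul_assoc]⟩
        one_mem' := ⟨by rw [one_mul, mul_one], by rw [one_mul, mul_one]⟩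
        inv_mem' := by
          rintro a ⟨ha1, ha2⟩
          exact ⟨(Commute.inv_left (show Commute a q₁ from ha1)).eq,
            (Commute.inv_left (show Commute a q₂ from ha2)).eq⟩ }
    have key : ∀ q ∈ tneU z hzz hzc, ∀ g, g * q = q * g →
        ∀ r, (r * g * r⁻¹) * q = q * (r * g * r⁻¹) := by
      intro q hq g hg r
      obtain ⟨s, hs, e⟩ := hq.2 r⁻¹
      have e' : r * q * r⁻¹ = s * q := by
        calc r * q * r⁻¹ = r * (q * r⁻¹) := by group
          _ = r * (s * (r⁻¹ * q)) := by rw [e]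
          _ = (r * s) * (r⁻¹ * q) := by group
          _ = (s * r) * (r⁻¹ * q) := by rw [hc s hs r]
          _ = s * q := by group
      have h1 : (r * g * r⁻¹) * (r * q * r⁻¹) = (r * q * r⁻¹) * (r * g * r⁻¹) := by
        calc (r * g * r⁻¹) * (r * q * r⁻¹) = r * (g * q) * r⁻¹ := by group
          _ = r * (q * g) * r⁻¹ := by rw [hg]
          _ = (r * q * r⁻¹) * (r * g * r⁻¹) := by group
      rw [e'] at h1
      have h2 : s * ((r * g * r⁻¹) * q) = s * (q * (r * g * r⁻¹)) := by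
        calc s * ((r * g * r⁻¹) * q) = (s * (r * g * r⁻¹)) * q := by group
          _ = ((r * g * r⁻¹) * s) * q := by rw [hc s hs (r * g * r⁻¹)]
          _ = (r * g * r⁻¹) * (s * q) := by group
          _ = (s * q) * (r * g * r⁻¹) := h1
          _ = s * (q * (r * g * r⁻¹)) := by group
      exact mul_left_cancel h2
    refine ⟨E, ?_, ?_, ?_, q₁, ⟨rfl, h12.trans h21.symm⟩, by rw [hβ1]; exact hq12⟩
    · rintro r n ⟨hn1, hn2⟩
      exact ⟨key q₁ hqU n hn1 r, key q₂ hq2U n hn2 r⟩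
    · rintro n ⟨hn1, hn2⟩
      have hn3 : n * q₃ = q₃ * n := by
        rw [← h12, ← mul_assoc, hn1, mul_assoc, hn2, mul_assoc]
      refine ⟨?_, ?_⟩
      · show β n * q₁ = q₁ * β n
        rw [← hβ3, ← map_mul, ← map_mul, hn3]
      · show β n * q₂ = q₂ * β n
        rw [← hβ1, ← map_mul, ← map_mul, hn1]
    · rintro x ⟨hx1, hx2⟩
      have hzq : ∀ q : P, q * q = 1 → (z * q) * (z * q) = 1 := by
        intro q hq
        calc (z * q) * (z * q) = z * (q * z) * q := by group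
          _ = z * (z * q) * q := by rw [hzc q]
          _ = (z * z) * (q * q) := by group
          _ = 1 := by rw [hzz, hq, one_mul]
      rcases hC x hx1 hx2 with h | h | h | h | h | h | h | h <;> rw [h]
      · exact one_mul 1
      · exact hq1
      · exact hq2
      · exact hq3
      · exact hzz
      · exact hzq _ hq1
      · exact hzq _ hq2
      · exact hzq _ hq3
  · -- case (b)
    have hq2U : q₂ ∉ tneU z hzz hzc := fun h => hqU (by
      have k := hβU (hβU h)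
      rwa [hβ2, hβ3] at k)
    have hq3U : q₃ ∉ tneU z hzz hzc := fun h => hqU (by
      have k := hβU h
      rwa [hβ3] at k)
    have hzU : z ∈ tneU z hzz hzc := hZU (Or.inr rfl)
    have hUC : ∀ g ∈ tneU z hzz hzc, g * q₁ = q₁ * g → g * q₂ = q₂ * g → g ∈ tneZ z hzz := by
      intro g hg h1 h2
      have hzq : ∀ q : P, z * q ∈ tneU z hzz hzc → q ∈ tneU z hzz hzc := by
        intro q hq
        have k := mul_mem hzU hq
        rwa [← mul_assoc, hzz, one_mul] at k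
      rcases hC g h1 h2 with h | h | h | h | h | h | h | h
      · exact Or.inl h
      · rw [h] at hg; exact absurd hg hqU
      · rw [h] at hg; exact absurd hg hq2U
      · rw [h] at hg; exact absurd hg hq3U
      · exact Or.inr h
      · rw [h] at hg; exact absurd (hzq _ hg) hqU
      · rw [h] at hg; exact absurd (hzq _ hg) hq2U
      · rw [h] at hg; exact absurd (hzq _ hg) hq3U
    have hpat : ∀ u ∈ tneU z hzz hzc,
        ∃ s₁ ∈ tneZ z hzz, ∃ s₂ ∈ tneZ z hzz, tnePat q₁ q₂ u s₁ s₂ := by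
      intro u hu
      obtain ⟨s₁, hs₁, e₁⟩ := hu.2 q₁
      obtain ⟨s₂, hs₂, e₂⟩ := hu.2 q₂
      exact ⟨s₁, hs₁, s₂, hs₂, e₁, e₂⟩
    have hpatβ : ∀ u s₁ s₂, s₁ ∈ tneZ z hzz → s₂ ∈ tneZ z hzz → tnePat q₁ q₂ u s₁ s₂ →
        tnePat q₁ q₂ (β u) (s₁ * s₂) s₁ := by
      intro u s₁ s₂ hs₁ hs₂ hp
      have e3 : u * q₃ = (s₁ * s₂) * (q₃ * u) := by
        rw [← h12]; exact tne_tw_mul_right (hc s₂ hs₂) hp.1 hp.2
      refine ⟨?_, ?_⟩
      · have k := congrArg β e3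
        simp only [map_mul, hβ3, hβZ s₁ hs₁, hβZ s₂ hs₂] at k
        exact k
      · have k := congrArg β hp.1
        rw [map_mul, map_mul, map_mul, hβ1, hβZ _ hs₁] at k
        exact k
    have hsame : ∀ u ∈ tneU z hzz hzc, ∀ v ∈ tneU z hzz hzc, ∀ s₁ ∈ tneZ z hzz,
        ∀ s₂ ∈ tneZ z hzz, tnePat q₁ q₂ u s₁ s₂ → tnePat q₁ q₂ v s₁ s₂ →
        ∃ t ∈ tneZ z hzz, v = u * t := by
      intro u hu v hv s₁ hs₁ s₂ hs₂ hp hp'
      refine ⟨u⁻¹ * v, ?_, by group⟩
      apply hUC _ (mul_mem (inv_mem hu) hv)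
      · have k := tne_tw_mul_left (hc _ (inv_mem hs₁)) (hc _ hs₁)
          (tne_tw_inv_left (hc _ hs₁) hp.1) hp'.1
        rwa [inv_mul_cancel, one_mul] at k
      · have k := tne_tw_mul_left (hc _ (inv_mem hs₂)) (hc _ hs₂)
          (tne_tw_inv_left (hc _ hs₂) hp.2) hp'.2
        rwa [inv_mul_cancel, one_mul] at k
    -- an element of `U` outside `Z`
    have hTZ : ¬ (⊤ : Subgroup P) ≤ tneZ z hzz := fun h =>
      hqU (hZU (h (Subgroup.mem_top q₁)))
    obtain ⟨u₀, -, hu₀U, hu₀Z⟩ := tne_exists_U hP hzz hzc ⊤ hTZ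
    -- an element with pattern `(1, z)`
    have hex1 : ∃ u ∈ tneU z hzz hzc, tnePat q₁ q₂ u 1 z := by
      obtain ⟨s₁, hs₁, s₂, hs₂, hp⟩ := hpat u₀ hu₀U
      rcases hs₁ with h | h <;> rcases hs₂ with h' | h' <;> rw [h, h'] at hp
      · exfalso
        apply hu₀Z
        apply hUC u₀ hu₀U
        · rw [hp.1, one_mul]
        · rw [hp.2, one_mul]
      · exact ⟨u₀, hu₀U, hp⟩
      · have k1 := hpatβ u₀ z 1 (Or.inr rfl) (Or.inl rfl) hp
        rw [mul_one] at k1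
        have k2 := hpatβ (β u₀) z z (Or.inr rfl) (Or.inr rfl) k1
        rw [hzz] at k2
        exact ⟨β (β u₀), hβU (hβU hu₀U), k2⟩
      · have k1 := hpatβ u₀ z z (Or.inr rfl) (Or.inr rfl) hp
        rw [hzz] at k1
        exact ⟨β u₀, hβU hu₀U, k1⟩
    obtain ⟨u₁, hu₁U, hp₁⟩ := hex1
    have hu₂U : β u₁ ∈ tneU z hzz hzc := hβU hu₁U
    have hu₃U : β (β u₁) ∈ tneU z hzz hzc := hβU hu₂U
    have hp₂ : tnePat q₁ q₂ (β u₁) z 1 := by
      have k := hpatβ u₁ 1 z (Or.inl rfl) (Or.inr rfl) hp₁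
      rwa [one_mul] at k
    have hp₃ : tnePat q₁ q₂ (β (β u₁)) z z := by
      have k := hpatβ (β u₁) z 1 (Or.inr rfl) (Or.inl rfl) hp₂
      rwa [mul_one] at k
    -- classification of the elements of `U`
    have hcls : ∀ v ∈ tneU z hzz hzc, v ∈ tneZ z hzz ∨ (∃ t ∈ tneZ z hzz, v = u₁ * t) ∨
        (∃ t ∈ tneZ z hzz, v = β u₁ * t) ∨ (∃ t ∈ tneZ z hzz, v = β (β u₁) * t) := by
      intro v hv
      obtain ⟨s₁, hs₁, s₂, hs₂, hp⟩ := hpat v hv
      rcases hs₁ with h | h <;> rcases hs₂ with h' | h' <;> rw [h, h'] at hp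
      · left
        apply hUC v hv
        · rw [hp.1, one_mul]
        · rw [hp.2, one_mul]
      · right; left
        exact hsame u₁ hu₁U v hv 1 (Or.inl rfl) z (Or.inr rfl) hp₁ hp
      · right; right; left
        exact hsame (β u₁) hu₂U v hv z (Or.inr rfl) 1 (Or.inl rfl) hp₂ hp
      · right; right; right
        exact hsame (β (β u₁)) hu₃U v hv z (Or.inr rfl) z (Or.inr rfl) hp₃ hp
    have hmulsq : ∀ u : P, ∀ t ∈ tneZ z hzz, (u * t) * (u * t) = u * u := by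
      intro u t ht
      calc (u * t) * (u * t) = u * (t * u) * t := by group
        _ = u * (u * t) * t := by rw [hc t ht u]
        _ = (u * u) * (t * t) := by group
        _ = u * u := by rw [hsqZ t ht, mul_one]
    have hsq₂ : β u₁ * β u₁ = u₁ * u₁ := by rw [← map_mul, hβZ _ hu₁U.1]
    have hsq₃ : β (β u₁) * β (β u₁) = u₁ * u₁ := by rw [← map_mul, hsq₂, hβZ _ hu₁U.1]
    rcases hu₁U.1 with hw | hw
    · -- all squares are trivial: `U` works
      refine ⟨tneU z hzz hzc, fun r n hn => tneU_conj hzz hzc hn r, fun n hn => hβU hn, ?_,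
        u₁, hu₁U, ?_⟩
      · intro v hv
        rcases hcls v hv with hvZ | ⟨t, ht, rfl⟩ | ⟨t, ht, rfl⟩ | ⟨t, ht, rfl⟩
        · exact hsqZ v hvZ
        · rw [hmulsq u₁ t ht, hw]
        · rw [hmulsq _ t ht, hsq₂, hw]
        · rw [hmulsq _ t ht, hsq₃, hw]
      · intro heq
        rw [heq] at hp₂
        exact hz1 (tne_tw_unique hp₁.1 hp₂.1).symm
    · -- quaternion case: contradiction
      exfalso
      have a12 : u₁ * β u₁ = z * (β u₁ * u₁) := by
        obtain ⟨s, hs, e⟩ := hu₁U.2 (β u₁)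
        rcases hs with h | h
        · exfalso
          rw [h, one_mul] at e
          have k1 : (u₁ * β u₁) * (u₁ * β u₁) = 1 := by
            calc (u₁ * β u₁) * (u₁ * β u₁) = u₁ * (β u₁ * u₁) * β u₁ := by group
              _ = u₁ * (u₁ * β u₁) * β u₁ := by rw [e]
              _ = (u₁ * u₁) * (β u₁ * β u₁) := by group
              _ = 1 := by rw [hsq₂, hw, hzz]
          have k2 : tnePat q₁ q₂ (u₁ * β u₁) z z := by
            refine ⟨?_, ?_⟩
            · have k := tne_tw_mul_left (hc 1 (Or.inl rfl)) hzc hp₁.1 hp₂.1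
              rwa [one_mul] at k
            · have k := tne_tw_mul_left hzc (hc 1 (Or.inl rfl)) hp₁.2 hp₂.2
              rwa [mul_one] at k
          obtain ⟨t, ht, e3⟩ := hsame (β (β u₁)) hu₃U (u₁ * β u₁) (mul_mem hu₁U hu₂U)
            z (Or.inr rfl) z (Or.inr rfl) hp₃ k2
          rw [e3, hmulsq _ t ht, hsq₃, hw] at k1
          exact hz1 k1
        · rw [h] at e; exact e
      have a23 : β u₁ * β (β u₁) = z * (β (β u₁) * β u₁) := by
        have k := congrArg β a12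
        rwa [map_mul, map_mul, map_mul, hβz] at k
      have a31 : β (β u₁) * u₁ = z * (u₁ * β (β u₁)) := by
        have k := congrArg β a23
        rwa [map_mul, map_mul, map_mul, hβz, hβ] at k
      -- `c := u₁⁻¹ * q₁` centralizes `U`
      have c1 : (u₁⁻¹ * q₁) * u₁ = u₁ * (u₁⁻¹ * q₁) := by
        calc (u₁⁻¹ * q₁) * u₁ = u₁⁻¹ * (q₁ * u₁) := by group
          _ = u₁⁻¹ * (u₁ * q₁) := by rw [hp₁.1, one_mul]
          _ = u₁ * (u₁⁻¹ * q₁) := by group
      have c2 : (u₁⁻¹ * q₁) * β u₁ = β u₁ * (u₁⁻¹ * q₁) := by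
        have t1 := tne_tw_inv_left hzc a12
        have t2 := tne_tw_symm hp₂.1
        rw [hzinv] at t1 t2
        have k := tne_tw_mul_left hzc hzc t1 t2
        rwa [hzz, one_mul] at k
      have c3 : (u₁⁻¹ * q₁) * β (β u₁) = β (β u₁) * (u₁⁻¹ * q₁) := by
        have t0 := tne_tw_symm a31
        rw [hzinv] at t0
        have t1 := tne_tw_inv_left hzc t0
        have t2 := tne_tw_symm hp₃.1
        rw [hzinv] at t1 t2
        have k := tne_tw_mul_left hzc hzc t1 t2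
        rwa [hzz, one_mul] at k
      have hcomm_t : ∀ u c : P, c * u = u * c → ∀ t ∈ tneZ z hzz,
          (u * t) * c = c * (u * t) := by
        intro u c hcu t ht
        calc (u * t) * c = u * (t * c) := by group
          _ = u * (c * t) := by rw [hc t ht c]
          _ = (u * c) * t := by group
          _ = (c * u) * t := by rw [hcu]
          _ = c * (u * t) := by group
      have hcD : u₁⁻¹ * q₁ ∈ Subgroup.centralizer (tneU z hzz hzc : Set P) := by
        rw [Subgroup.mem_centralizer_iff]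
        intro v hv
        rcases hcls v hv with hvZ | ⟨t, ht, rfl⟩ | ⟨t, ht, rfl⟩ | ⟨t, ht, rfl⟩
        · exact (hc v hvZ _).symm
        · exact hcomm_t _ _ c1 t ht
        · exact hcomm_t _ _ c2 t ht
        · exact hcomm_t _ _ c3 t ht
      have hcZ : u₁⁻¹ * q₁ ∉ tneZ z hzz := by
        intro h
        apply hqU
        have k := mul_mem hu₁U (hZU h)
        rwa [mul_inv_cancel_left] at k
      have hD : ¬ Subgroup.centralizer (tneU z hzz hzc : Set P) ≤ tneZ z hzz :=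
        fun h => hcZ (h hcD)
      have hUn : (tneU z hzz hzc).Normal := ⟨fun n hn g => tneU_conj hzz hzc hn g⟩
      obtain ⟨v, hvD, hvU, hvZ⟩ :=
        tne_exists_U hP hzz hzc (Subgroup.centralizer (tneU z hzz hzc : Set P)) hD
      rw [Subgroup.mem_centralizer_iff] at hvD
      have hanti : ∀ u u' : P, u * u' = z * (u' * u) → ∀ t ∈ tneZ z hzz,
          u' * (u * t) ≠ (u * t) * u' := by
        intro u u' ha t ht heq
        apply hz1
        have k : u' * u * t = z * (u' * u) * t := by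
          calc u' * u * t = u' * (u * t) := by group
            _ = (u * t) * u' := heq
            _ = u * (t * u') := by group
            _ = u * (u' * t) := by rw [hc t ht u']
            _ = (u * u') * t := by group
            _ = z * (u' * u) * t := by rw [ha]
        have k2 := mul_right_cancel k
        exact mul_right_cancel (b := u' * u)
          (show z * (u' * u) = 1 * (u' * u) by rw [one_mul]; exact k2.symm)
      rcases hcls v hvU with hvZ' | ⟨t, ht, rfl⟩ | ⟨t, ht, rfl⟩ | ⟨t, ht, rfl⟩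
      · exact hvZ hvZ'
      · exact hanti _ _ a12 t ht (hvD _ hu₂U)
      · exact hanti _ _ a23 t ht (hvD _ hu₃U)
      · exact hanti _ _ a31 t ht (hvD _ hu₁U)

end TNECore

section TNEMain

open Cfsg.Agent.Lib.helper38.TN

variable {G : Type*} [Group G] [Finite G] {V : Type*} [AddCommGroup V] [Module (ZMod 3) V]
  [Finite V]
variable {ρ : Representation (ZMod 3) G V} {R : Subgroup G} {b q₁ q₂ q₃ : G} {u₁ u₂ u₃ : V}

/-- PIECE E of S4415: if the common fixed space of the four-group is a line and `R` is a 2-group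
containing `-1`, then `R` has a `GN` elementary abelian 2-subgroup moved by `b`. -/
theorem typeI_of_two_group (h : Ctx ρ R b q₁ q₂ q₃ u₁ u₂ u₃) (u₄ : V) (hu₄ : CLine ρ q₁ q₂ u₄)
    (h2 : IsPGroup 2 ↥R) (z : G) (hz : z ∈ R) (hzV : ∀ v, ρ z v = -v)
    (hdet : MonoDet ρ R u₁ u₂ u₃ u₄) : TypeI R b := by
  have F := h.frame
  have T := F.tri
  have hq1R := h.q1R
  have hq2R : q₂ ∈ R := T.c1 ▸ h.bR q₁ hq1R
  have hq3R : q₃ ∈ R := T.c2 ▸ h.bR q₂ hq2R
  -- elements of `R` with the same action are equal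
  have hagree' : ∀ g ∈ R, ∀ t ∈ R, (∀ v, ρ g v = ρ t v) → g = t := by
    intro g hg t ht hv
    have h1 : t⁻¹ * g = 1 := by
      apply h.faith _ (R.mul_mem (R.inv_mem ht) hg)
      intro v
      rw [rho_mul, hv v, rho_inv_self]
    calc g = t * (t⁻¹ * g) := by group
      _ = t := by rw [h1, mul_one]
  have hagree : ∀ g ∈ R, ∀ t ∈ R, ρ g u₁ = ρ t u₁ → ρ g u₂ = ρ t u₂ → ρ g u₃ = ρ t u₃ →
      ρ g u₄ = ρ t u₄ → g = t := by
    intro g hg t ht e1 e2 e3 e4
    apply hagree' g hg t ht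
    intro v
    obtain ⟨a₁, a₂, a₃, c, hc, rfl⟩ := F.decomp v
    obtain ⟨a₄, rfl⟩ := hu₄.2.2.2 c hc.1 hc.2
    simp only [map_add, map_smul, e1, e2, e3, e4]
  have hq3u4 : ρ q₃ u₄ = u₄ := by rw [← T.a12, hu₄.2.2.1, hu₄.2.1]
  -- the centralizer of the four-group
  have hCG : ∀ g ∈ R, g * q₁ = q₁ * g → g * q₂ = q₂ * g →
      g = 1 ∨ g = q₁ ∨ g = q₂ ∨ g = q₃ ∨ g = z ∨ g = z * q₁ ∨ g = z * q₂ ∨ g = z * q₃ := by
    intro g hg k1 k2
    obtain ⟨⟨ε₁, hε₁, e1⟩, ⟨ε₂, hε₂, e2⟩, ⟨ε₃, hε₃, e3⟩, hfix⟩ := F.comm_diag k1 k2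
    have hu4fix : u₄ ∈ fixQ ρ q₁ q₂ := ⟨hu₄.2.1, hu₄.2.2.1⟩
    obtain ⟨ε₄, e4⟩ := hu₄.2.2.2 _ (hfix u₄ hu4fix).1 (hfix u₄ hu4fix).2
    have hε₄ : ε₄ = 1 ∨ ε₄ = -1 := by
      apply zmod3_unit
      rintro rfl
      rw [zero_smul] at e4
      exact hu₄.1 (rho_inj ρ g (by rw [e4, map_zero]))
    have hprod : ε₁ * ε₂ * ε₃ * ε₄ = 1 := by
      have k := hdet g hg 1 ![ε₁, ε₂, ε₃, ε₄] (by
        intro i
        fin_cases i
        · simpa using e1
        · simpa using e2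
        · simpa using e3
        · simpa using e4)
      simpa [Fin.prod_univ_four] using k
    have hR1 : (1 : G) ∈ R := R.one_mem
    have hzq1 : z * q₁ ∈ R := R.mul_mem hz hq1R
    have hzq2 : z * q₂ ∈ R := R.mul_mem hz hq2R
    have hzq3 : z * q₃ ∈ R := R.mul_mem hz hq3R
    have q1u4 := hu₄.2.1
    have q2u4 := hu₄.2.2.1
    rcases hε₁ with rfl | rfl <;> rcases hε₂ with rfl | rfl <;> rcases hε₃ with rfl | rfl <;>
      rcases hε₄ with rfl | rfl <;>
      first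
      | exact absurd hprod (by decide)
      | (refine Or.inl (hagree g hg 1 hR1 ?_ ?_ ?_ ?_) <;>
          simp [e1, e2, e3, e4] <;> done)
      | (refine Or.inr (Or.inl (hagree g hg q₁ hq1R ?_ ?_ ?_ ?_)) <;>
          simp [e1, e2, e3, e4, F.q1u1, F.q1u2, F.q1u3, q1u4] <;> done)
      | (refine Or.inr (Or.inr (Or.inl (hagree g hg q₂ hq2R ?_ ?_ ?_ ?_))) <;>
          simp [e1, e2, e3, e4, F.q2u1, F.q2u2, F.q2u3, q2u4] <;> done)
      | (refine Or.inr (Or.inr (Or.inr (Or.inl (hagree g hg q₃ hq3R ?_ ?_ ?_ ?_)))) <;>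
          simp [e1, e2, e3, e4, F.q3u1, F.q3u2, F.q3u3, hq3u4] <;> done)
      | (refine Or.inr (Or.inr (Or.inr (Or.inr (Or.inl (hagree g hg z hz ?_ ?_ ?_ ?_))))) <;>
          simp [e1, e2, e3, e4, hzV] <;> done)
      | (refine Or.inr (Or.inr (Or.inr (Or.inr (Or.inr (Or.inl
            (hagree g hg (z * q₁) hzq1 ?_ ?_ ?_ ?_)))))) <;>
          simp [e1, e2, e3, e4, hzV, F.q1u1, F.q1u2, F.q1u3, q1u4] <;> done)
      | (refine Or.inr (Or.inr (Or.inr (Or.inr (Or.inr (Or.inr (Or.inl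
            (hagree g hg (z * q₂) hzq2 ?_ ?_ ?_ ?_))))))) <;>
          simp [e1, e2, e3, e4, hzV, F.q2u1, F.q2u2, F.q2u3, q2u4] <;> done)
      | (refine Or.inr (Or.inr (Or.inr (Or.inr (Or.inr (Or.inr (Or.inr
            (hagree g hg (z * q₃) hzq3 ?_ ?_ ?_ ?_))))))) <;>
          simp [e1, e2, e3, e4, hzV, F.q3u1, F.q3u2, F.q3u3, hq3u4] <;> done)
  -- pass to the group `↥R`
  let β : ↥R →* ↥R :=
    { toFun := fun x => ⟨b * x * b⁻¹, h.bR x x.2⟩
      map_one' := Subtype.ext (by simp)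
      map_mul' := fun x y => Subtype.ext (by simp [mul_assoc]) }
  have hβ : ∀ x, β (β (β x)) = x := by
    intro x
    apply Subtype.ext
    show b * (b * (b * (x : G) * b⁻¹) * b⁻¹) * b⁻¹ = x
    have hb : b * b * b = 1 := by rw [← F.b3, pow_succ, pow_two]
    calc b * (b * (b * (x : G) * b⁻¹) * b⁻¹) * b⁻¹ = (b * b * b) * x * (b * b * b)⁻¹ := by
          simp only [mul_inv_rev, mul_assoc]
      _ = x := by rw [hb, inv_one, one_mul, mul_one]
  have hz1 : (⟨z, hz⟩ : ↥R) ≠ 1 := by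
    intro e
    have e' : z = 1 := congrArg Subtype.val e
    apply neg_ne_self F.u1
    rw [← hzV u₁, e', rho_one]
  have hzz : (⟨z, hz⟩ : ↥R) * ⟨z, hz⟩ = 1 :=
    Subtype.ext (hagree' (z * z) (R.mul_mem hz hz) 1 R.one_mem
      (fun v => by rw [rho_mul, hzV, hzV, neg_neg, rho_one]))
  have hzc : ∀ x : ↥R, x * ⟨z, hz⟩ = ⟨z, hz⟩ * x := by
    intro x
    apply Subtype.ext
    exact hagree' ((x : G) * z) (R.mul_mem x.2 hz) (z * (x : G)) (R.mul_mem hz x.2)
      (fun v => by rw [rho_mul, rho_mul, hzV, hzV, map_neg])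
  have hβz : β ⟨z, hz⟩ = ⟨z, hz⟩ := by
    apply Subtype.ext
    exact hagree' (b * z * b⁻¹) (h.bR z hz) z hz
      (fun v => by rw [rho_mul, rho_mul, hzV, hzV, map_neg, rho_self_inv])
  have hq12 : (⟨q₂, hq2R⟩ : ↥R) ≠ ⟨q₁, hq1R⟩ := by
    intro e
    have e' : q₂ = q₁ := congrArg Subtype.val e
    apply neg_ne_self F.u1
    rw [← F.q2u1, e']
    exact F.q1u1
  have hC : ∀ g : ↥R, g * ⟨q₁, hq1R⟩ = ⟨q₁, hq1R⟩ * g → g * ⟨q₂, hq2R⟩ = ⟨q₂, hq2R⟩ * g →
      g = 1 ∨ g = ⟨q₁, hq1R⟩ ∨ g = ⟨q₂, hq2R⟩ ∨ g = ⟨q₃, hq3R⟩ ∨ g = ⟨z, hz⟩ ∨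
        g = ⟨z, hz⟩ * ⟨q₁, hq1R⟩ ∨ g = ⟨z, hz⟩ * ⟨q₂, hq2R⟩ ∨ g = ⟨z, hz⟩ * ⟨q₃, hq3R⟩ := by
    intro g hg1 hg2
    rcases hCG g g.2 (congrArg Subtype.val hg1) (congrArg Subtype.val hg2) with
      e | e | e | e | e | e | e | e
    · exact Or.inl (Subtype.ext e)
    · exact Or.inr (Or.inl (Subtype.ext e))
    · exact Or.inr (Or.inr (Or.inl (Subtype.ext e)))
    · exact Or.inr (Or.inr (Or.inr (Or.inl (Subtype.ext e))))
    · exact Or.inr (Or.inr (Or.inr (Or.inr (Or.inl (Subtype.ext e)))))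
    · exact Or.inr (Or.inr (Or.inr (Or.inr (Or.inr (Or.inl (Subtype.ext e))))))
    · exact Or.inr (Or.inr (Or.inr (Or.inr (Or.inr (Or.inr (Or.inl (Subtype.ext e)))))))
    · exact Or.inr (Or.inr (Or.inr (Or.inr (Or.inr (Or.inr (Or.inr (Subtype.ext e)))))))
  obtain ⟨E, hE1, hE2, hE3, x, hx, hne⟩ := tne_core h2 β hβ ⟨z, hz⟩ ⟨q₁, hq1R⟩ ⟨q₂, hq2R⟩
    ⟨q₃, hq3R⟩ hz1 hzz hzc hβz (Subtype.ext T.sq) (Subtype.ext T.m12) (Subtype.ext T.m21)
    (Subtype.ext T.c1) (Subtype.ext T.c2) (Subtype.ext T.c3) hq12 hC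
  refine ⟨E.map R.subtype, ⟨Subgroup.map_subtype_le E, ?_, ?_⟩, ?_, ?_⟩
  · rintro r hr _ ⟨n, hn, rfl⟩
    exact ⟨⟨r, hr⟩ * n * ⟨r, hr⟩⁻¹, hE1 ⟨r, hr⟩ n hn, rfl⟩
  · rintro _ ⟨n, hn, rfl⟩
    exact ⟨β n, hE2 n hn, rfl⟩
  · rintro _ ⟨y, hy, rfl⟩
    exact congrArg Subtype.val (hE3 y hy)
  · exact ⟨x, ⟨x, hx, rfl⟩, fun e => hne (Subtype.ext e)⟩

end TNEMain

end Cfsg.Agent.Lib.helper20
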